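import Cfsg.Agent.M12S.Defs
import Cfsg.Agent.Co3M.WSyl

/-! Standard subgroups isomorphic to `M₁₂`: the three shapes of the centralizer. -/

set_option autoImplicit false

namespace Cfsg.Lib.M12S

open Subgroup Cfsg.Lib.Gold Cfsg.Lib.Trans Cfsg.Lib.Co3M Cfsg.Lib.Spor.WF

variable {G Γ : Type*} [Group G] [Group Γ]

namespace CasesL

theorem exists_tw {K M : Type*} [Group K] [Group M] (B : Subgroup K) (hB : B.index = 2)
    (π : K →* M) {e : M} (e2 : e * e = 1) (hc : ∀ x, π x * e = e * π x) :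
    ∃ ψ : K →* M, (∀ x ∈ B, ψ x = π x) ∧ ∀ x ∉ B, ψ x = π x * e := by
  classical
  refine ⟨MonoidHom.mk' (fun x => if x ∈ B then π x else π x * e) fun a b => ?_,
    fun x hx => if_pos hx, fun x hx => if_neg hx⟩
  have := mul_mem_iff_of_index_two hB (a := a) (b := b)
  by_cases ha : a ∈ B <;> by_cases hb : b ∈ B <;>
    simp only [ha, hb, this, if_true, if_false, map_mul, iff_self, iff_false, iff_true,
      not_true, not_false_iff, mul_assoc]
  · rw [hc]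
  · rw [← as (hc b), e2, mul_one]

theorem index_two {e : Γ} {B : Subgroup Γ} (he : e ∉ B) (h : ∀ x ∈ C1 e, x ∈ B ∨ e * x ∈ B) :
    (B.subgroupOf (C1 e)).index = 2 :=
  index_eq_two_iff_exists_notMem_and.2 ⟨⟨e, mem_C1.2 rfl⟩, he, fun x => by
    rcases h x x.2 with a | a
    · exact Or.inr a
    · exact Or.inl (by rwa [← mem_C1.1 x.2] at a)⟩

theorem v_mem (F : OW G) {H : Subgroup G} (h1 : F.g ∈ H) (h2 : F.p ∈ H) : F.v ∈ H := by
  rw [F.v_eq]
  repeat first | exact h1 | exact h2 | exact inv_mem h2 | refine mul_mem ?_ ?_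

theorem let_C0 (l : ℕ) (hl : l ≠ 16) : MO.m l ∈ M0.C0 := by
  have hv : M0.v ∈ M0.C0 :=
    v_mem M0 (let_mem _ 12 (by decide +kernel)) (let_mem _ 14 (by decide +kernel))
  by_cases h : l < 19
  · have : ∀ l < 19, l = 16 ∨ l = 0 ∨ l = 17 ∨ l = 18 ∨ [l] ∈ MQ.W 3 := by decide +kernel
    rcases (this l h).resolve_left hl with rfl | rfl | rfl | h
    · change M0.g0 0 ∈ _
      rw [M0.sat.zero]; exact one_mem _
    · exact hv
    · change M0.g0 18 ∈ _
      rw [M0.l18]; exact inv_mem hv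
    · exact let_mem _ l h
  · have : MO.m l = 1 := List.getD_eq_default _ _ (by simpa [csO] using not_lt.1 h)
    exact this ▸ one_mem _

theorem C0_le : M0.C0 ≤ M0.C := sub_le fun L hL => wv_mem_sub _ (by revert L; decide +kernel)

theorem Ah_le : M0.Ah ≤ M0.C := sub_le fun L hL => wv_mem_sub _ (by revert L; decide +kernel)

theorem let_C (l : ℕ) : MO.m l ∈ M0.C := by
  by_cases h : l = 16
  · subst h
    exact let_mem _ 16 (by decide +kernel)
  · exact C0_le (let_C0 l h)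

theorem mkOF [Finite Γ] {e : Γ} (ψ : C1 e →* P26) (inj : Function.Injective ψ)
    (hr : ψ.range = M0.C) (he : ψ ⟨e, mem_C1.2 rfl⟩ = M0.e) :
    ∃ F : OF Γ, F.e = e ∧ ∀ x : C1 e, ψ x = M0.z → F.z = x := by
  have hm : ∀ l, MO.m l ∈ ψ.range := fun l => hr ▸ let_C l
  let φ : ψ.range →* Γ := (C1 e).subtype.comp (ψ.ofInjective inj).symm.toMonoidHom
  have hφ : Function.Injective φ := (subtype_injective _).comp (ψ.ofInjective inj).symm.injective
  have hemb : Emb MO.m fun l => φ ⟨MO.m l, hm l⟩ := ⟨_, hm, φ, hφ, fun _ => rfl⟩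
  have key : ∀ (x : C1 e) l, ψ x = MO.m l → φ ⟨MO.m l, hm l⟩ = x := fun x l h => by
    have : (ψ.ofInjective inj).symm ⟨MO.m l, hm l⟩ = x :=
      (MulEquiv.symm_apply_eq _).2 (Subtype.ext h.symm)
    exact congrArg Subtype.val this
  have h8 : φ ⟨MO.m 1, hm 1⟩ = e := key _ 1 he
  refine ⟨⟨⟨_, hemb⟩, ?_⟩, h8, fun x hx => key x 2 hx⟩
  dsimp only
  rw [h8]
  refine eq_of_le_of_card_ge (sub_le fun L _ => wv_mem_of fun l _ => Subtype.property _) ?_
  rw [hemb.card, Nat.card_congr (ψ.ofInjective inj).toEquiv, hr]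
  exact le_rfl

variable {e : Γ} {A : Subgroup Γ} {π : Γ → P26}

/-- the map as a homomorphism -/
def hom (h : PF e A π) : C1 e →* P26 :=
  MonoidHom.mk' (fun x => π x) fun a b => h.mul _ a.2 _ b.2

theorem pe (h : PF e A π) : π e = 1 := (h.ker e (mem_C1.2 rfl)).2 (Or.inr rfl)

theorem inA (h : PF e A π) {x : Γ} (hx : x ∈ C1 e) (hA : π x ∈ M0.A) : x ∈ A ∨ e * x ∈ A := by
  obtain ⟨a, ha, ea⟩ := h.sur _ hA
  have h1 : hom h ((⟨a, h.le ha⟩ : C1 e)⁻¹ * ⟨x, hx⟩) = 1 := by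
    rw [map_mul, map_inv, inv_mul_eq_one]; exact ea
  rcases (h.ker _ (mul_mem (inv_mem (h.le ha)) hx)).1 h1 with e1 | e1
  · exact Or.inl (inv_mul_eq_one.1 e1 ▸ ha)
  · right
    rw [inv_mul_eq_iff_eq_mul.1 e1, mem_C1.1 (h.le ha), as1 h.e2]
    exact ha

theorem inner [Finite Γ] (h : PF e A π)
    (hθ : ∃ θ : Spor.M12 →* P26, Function.Injective θ ∧ θ.range = M0.A)
    (hi : ∀ x ∈ C1 e, π x ∈ M0.A) : ∃ F : CF Γ, F.e = e ∧ F.z ∈ A := by
  obtain ⟨θ, inj, hr⟩ := hθ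
  have hor : ∀ x ∈ C1 e, x ∈ A ∨ e * x ∈ A := fun x hx => inA h hx (hi x hx)
  let η : C1 e →* Spor.M12 := (θ.ofInjective inj).symm.toMonoidHom.comp
    ((hom h).codRestrict θ.range fun x => hr ▸ hi x x.2)
  have hη : ∀ x : C1 e, θ (η x) = π x := fun x =>
    congrArg Subtype.val ((θ.ofInjective inj).apply_symm_apply _)
  have hc : ∀ x : Multiplicative (ZMod 2), x = 1 ∨ x = Multiplicative.ofAdd 1 := by decide
  have h0 : (Multiplicative.ofAdd (1 : ZMod 2)) ≠ 1 := by decide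
  have h00 : (Multiplicative.ofAdd (1 : ZMod 2)) * Multiplicative.ofAdd 1 = 1 := by decide
  obtain ⟨ψ, h1, h2⟩ := exists_tw _ (index_two h.eA hor)
    ((MonoidHom.inr (Multiplicative (ZMod 2)) Spor.M12).comp η) (e := (Multiplicative.ofAdd 1, 1))
    (Prod.ext h00 (mul_one _)) (fun x => by simp)
  have bij : Function.Bijective ψ := by
    refine ⟨(injective_iff_map_eq_one ψ).2 fun x hx => ?_, fun ⟨s, m⟩ => ?_⟩
    · by_cases hA : x ∈ A.subgroupOf (C1 e)
      · rw [h1 x hA] at hx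
        have h3 : η x = 1 := congrArg Prod.snd hx
        rcases (h.ker x x.2).1 (by rw [← hη, h3, map_one]) with e1 | e1
        · exact Subtype.ext e1
        · exact absurd (e1 ▸ hA : e ∈ A) h.eA
      · rw [h2 x hA] at hx
        exact absurd (by simpa using congrArg Prod.fst hx) h0
    · obtain ⟨a, ha, ea⟩ := h.sur (θ m) (hr ▸ ⟨m, rfl⟩)
      have h3 : η ⟨a, h.le ha⟩ = m := inj ((hη _).trans ea)
      have h4 : η ⟨e, mem_C1.2 rfl⟩ = 1 := inj (by rw [hη, map_one]; exact pe h)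
      have h5 := h1 ⟨a, h.le ha⟩ ha
      rcases hc s with rfl | rfl
      · exact ⟨_, by rw [h5]; simp [h3]⟩
      · exact ⟨⟨a, h.le ha⟩ * ⟨e, mem_C1.2 rfl⟩, by
          rw [map_mul, h5, h2 ⟨e, mem_C1.2 rfl⟩ h.eA]; simp [h3, h4]⟩
  obtain ⟨F, rfl⟩ := exists_CF (orderOf_eq_prime (by rw [sq, h.e2]) h.e1)
    ⟨MulEquiv.ofBijective ψ bij⟩
  refine ⟨F, rfl, ?_⟩
  have h3 : F.a3 * F.e = F.e * F.a3 := by cw F
  rw [(by cw F : F.z = F.a3 * F.a3)]
  rcases hor F.a3 (mem_C1.2 h3) with a | a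
  · exact mul_mem a a
  · have := mul_mem a a
    rwa [mul_assoc, as h3, as1 h.e2] at this

theorem split [Finite Γ] (h : PF e A π) (f : Fc1 M0) {c : Γ} (hc : c ∈ C1 e) (h1 : π c = M0.c)
    (h2 : c * c = 1) : ∃ F : OF Γ, F.e = e ∧ F.z ∈ A := by
  let B := adj A c (fun x hx => mem_normalizer_conj (h.nm hc) hx) (h2 ▸ one_mem _)
  have ee : e ∈ C1 e := mem_C1.2 rfl
  have eB : e ∉ B := by
    rintro (a | a)
    · exact h.eA a
    · have := h.mem _ a
      rw [h.mul _ hc _ ee, h1, pe h, mul_one] at this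
      exact f.cA this
  have hor : ∀ x ∈ C1 e, x ∈ B ∨ e * x ∈ B := fun x hx => by
    rcases f.Ah_or _ (h.rng x hx) with a | a
    · exact (inA h hx a).imp Or.inl Or.inl
    · rw [← h1, ← h.mul _ hc _ hx] at a
      refine (inA h (mul_mem hc hx) a).imp Or.inr fun a => Or.inr ?_
      rwa [as (mem_C1.1 hc)]
  have e2 : M0.e * M0.e = 1 := by ow M0
  obtain ⟨ψ, h3, h4⟩ := exists_tw _ (index_two eB hor) (hom h) e2
    (fun x => f.ce _ (Ah_le (h.rng x x.2)))
  have he : ψ ⟨e, ee⟩ = M0.e := by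
    rw [h4 ⟨e, ee⟩ eB]
    exact (congrArg (· * M0.e) (pe h)).trans (one_mul _)
  have inj : Function.Injective ψ := (injective_iff_map_eq_one ψ).2 fun x hx => by
    by_cases hB : x ∈ B.subgroupOf (C1 e)
    · rw [h3 x hB] at hx
      rcases (h.ker x x.2).1 hx with e1 | e1
      · exact Subtype.ext e1
      · exact absurd (e1 ▸ hB : e ∈ B) eB
    · rw [h4 x hB] at hx
      exact absurd (eq_inv_of_mul_eq_one_right hx ▸ inv_mem (h.rng x x.2)) f.eAh
  have hA : ∀ u ∈ M0.A, ∃ x : C1 e, (x : Γ) ∈ A ∧ ψ x = u := fun u hu => by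
    obtain ⟨a, ha, rfl⟩ := h.sur u hu
    exact ⟨⟨a, h.le ha⟩, ha, h3 _ (Or.inl ha)⟩
  have hcr : M0.c ∈ ψ.range := ⟨⟨c, hc⟩, (h3 _ (Or.inr (h2 ▸ one_mem _))).trans h1⟩
  have hAh : M0.Ah ≤ ψ.range := fun u hu => by
    rcases f.Ah_or u hu with a | a
    · obtain ⟨x, -, rfl⟩ := hA u a
      exact ⟨x, rfl⟩
    · obtain ⟨x, -, e1⟩ := hA _ a
      exact (mul_mem_cancel_left hcr).1 ⟨x, e1⟩
  obtain ⟨F, hF, hz⟩ := mkOF ψ inj (le_antisymm (by
    rintro _ ⟨x, rfl⟩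
    by_cases hB : x ∈ B.subgroupOf (C1 e)
    · rw [h3 x hB]; exact Ah_le (h.rng x x.2)
    · rw [h4 x hB]; exact mul_mem (Ah_le (h.rng x x.2)) (let_C 1)) fun u hu => by
    rcases f.C_or u hu with a | a
    · exact hAh a
    · exact (mul_mem_cancel_left (MonoidHom.mem_range.2 ⟨_, he⟩)).1 (hAh a)) he
  obtain ⟨x, hx, e1⟩ := hA M0.z (let_mem _ 2 (by decide +kernel))
  exact ⟨F, hF, hz x e1 ▸ hx⟩

end CasesL

open CasesL in
theorem PF.cases [Finite Γ] {e : Γ} {A : Subgroup Γ} {π : Γ → P26} (h : PF e A π) (f : Fc1 M0)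
    (hθ : ∃ θ : Spor.M12 →* P26, Function.Injective θ ∧ θ.range = M0.A) :
    (∃ F : CF Γ, F.e = e ∧ F.z ∈ A) ∨ (∃ F : OF Γ, F.e = e ∧ F.z ∈ A) ∨
      ∃ c ∈ C1 e, π c = M0.c ∧ c * c = e := by
  by_cases hi : ∀ x ∈ C1 e, π x ∈ M0.A
  · exact Or.inl (inner h hθ hi)
  right
  push Not at hi
  obtain ⟨x, hx, hA⟩ := hi
  obtain ⟨a, ha, ea⟩ := h.sur _ ((f.Ah_or _ (h.rng x hx)).resolve_left hA)
  have hc : a * x⁻¹ ∈ C1 e := mul_mem (h.le ha) (inv_mem hx)
  have h1 : π (a * x⁻¹) = M0.c := by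
    have := h.mul _ hc _ hx
    rw [inv_mul_cancel_right, ea] at this
    exact (mul_right_cancel this).symm
  rcases (h.ker _ (mul_mem hc hc)).1 (by rw [h.mul _ hc _ hc, h1]; ow M0) with e1 | e1
  · exact Or.inl (split h f hc h1 e1)
  · exact Or.inr ⟨_, hc, h1, e1⟩

open CasesL in
theorem twP (f : Fc1 M0) : TwP G := by
  intro F
  obtain ⟨H, hm, φ, inj, eq⟩ := F.emb
  have CH : M0.C ≤ H := sub_le fun L _ => wv_mem_of fun l _ => hm l
  have idx : (M0.C0.subgroupOf M0.C).index = 2 := by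
    have := card_mul_relIndex C0_le
    rw [M0.card_C0, M0.card_C] at this
    change M0.C0.relIndex M0.C = 2
    omega
  have cC : M0.c ∉ M0.C0 := fun hc => by
    have : M0.C ≤ M0.C0 := sub_le fun L _ => wv_mem_of fun l _ => by
      by_cases h : l = 16
      · exact h ▸ hc
      · exact let_C0 l h
    have := Subgroup.card_le_of_le this
    rw [M0.card_C0, M0.card_C] at this
    omega
  obtain ⟨α, h1, h2⟩ := exists_tw _ idx (inclusion CH) (e := ⟨MO.m 1, hm 1⟩)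
    (Subtype.ext (by change M0.e * M0.e = 1; ow M0)) fun x => Subtype.ext (f.ce _ x.2)
  have ai : Function.Injective α := (injective_iff_map_eq_one α).2 fun x hx => by
    by_cases hB : x ∈ M0.C0.subgroupOf M0.C
    · rw [h1 x hB] at hx
      exact inclusion_injective CH (hx.trans (map_one _).symm)
    · rw [h2 x hB] at hx
      have : (x : P26) * MO.m 1 = 1 := congrArg Subtype.val hx
      refine absurd ?_ hB
      rw [mem_subgroupOf, eq_inv_of_mul_eq_one_left this]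
      exact inv_mem (let_C0 1 (by decide))
  have hemb : Emb MO.m fun l => φ (α ⟨MO.m l, let_C l⟩) :=
    ⟨_, let_C, φ.comp α, inj.comp ai, fun _ => rfl⟩
  have k1 : ∀ l, l ≠ 16 → φ (α ⟨MO.m l, let_C l⟩) = F.g0 l := fun l hl => by
    rw [h1 _ (let_C0 l hl), ← eq]; rfl
  have k2 : φ (α ⟨MO.m 16, let_C 16⟩) = F.c * F.e := by
    rw [h2 _ cC, map_mul, eq]
    exact congrArg (· * F.e) (eq 16)
  refine ⟨⟨⟨_, hemb⟩, ?_⟩, k1, k2⟩
  dsimp only
  rw [k1 1 (by decide), ← F.cent]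
  have fin : Finite (sub F.g0 (MQ.W 0)) := Nat.finite_of_card_ne_zero (by
    rw [show Nat.card (sub F.g0 (MQ.W 0)) = 380160 from F.card_C]; omega)
  have hL : ∀ L ∈ MQ.W 0, ∀ l ∈ L, [l] ∈ MQ.W 0 := by decide +kernel
  refine eq_of_le_of_card_ge (sub_le fun L hL' => wv_mem_of fun l hl => ?_) ?_
  · by_cases h : l = 16
    · subst h
      rw [k2]
      exact mul_mem (let_mem _ 16 (by decide +kernel)) (let_mem _ 1 (by decide +kernel))
    · rw [k1 l h]
      exact let_mem _ l (hL L hL' l hl)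
  · rw [hemb.card, F.emb.card]

end Cfsg.Lib.M12S
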