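import Cfsg.Agent.SporChar.WFormCnt
import Cfsg.Agent.SporChar.WFormFast
import Cfsg.Agent.Co3M.ModC

/-! Counting the solutions of a word formula by evaluation on a base. -/

set_option autoImplicit false

namespace Cfsg.Lib.M12S

open Subgroup MulAction Cfsg.Lib.Co3M
open Cfsg.Lib.Spor Cfsg.Lib.Spor.Bulk Cfsg.Lib.Spor.PK Cfsg.Lib.Spor.WF

variable {G : Type*} [Group G]

/-- The sum of `f` over the elements of a chain, given as maps on points. -/
noncomputable def sumP (P : Par) (f : (ℕ → ℕ) → ℕ) (lvs : List Lv) : (ℕ → ℕ) → ℕ :=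
  List.rec (motive := fun _ => (ℕ → ℕ) → ℕ) f
    (fun lv _ ih x => force (ih x) fun a => Nat.add a (sumL lv.pts fun i =>
      forc (act P.M lv.T (Nat.mul P.W i)) fun v =>
        ih fun p => Nat.land (Nat.shiftRight v (x p)) P.m)) lvs

theorem sumP_eq {Ω : Type*} [MulAction G Ω] {w n : ℕ} {pt : ℕ → Ω} [Finite G] (C : Ctx G w n pt)
    {P : Par} (hP : P.Ok w n) {Γ H : Subgroup G} {lvs : List Lv} (h : Chain w n pt H lvs)
    (hH : H ≤ Γ) {f : (ℕ → ℕ) → ℕ} {F : G → ℕ} (hf : ∀ c g, Dn w n pt c g → g ∈ Γ → f c = F g)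
    {x : ℕ → ℕ} {k : G} (hx : Dn w n pt x k) (hk : k ∈ Γ) :
    sumP P f lvs x = ∑ᶠ g ∈ (H : Set G), F (g * k) := by
  classical
  induction h generalizing x k with
  | nil => rw [coe_bot, finsum_mem_singleton, one_mul]; exact hf x k hx hk
  | @cons H lv lvs tab orb tail ih =>
    replace ih := @ih (inf_le_left.trans hH)
    choose! v hv hd he using fun i hi => (tab.den i hi).2
    have hb : v lv.b = 1 := (hd _ List.mem_cons_self).unique C (tab.base ▸ den_one C)
    have h1 : sumP P f (lv :: lvs) x = ((lv.b :: lv.pts).map fun i =>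
        ∑ᶠ g ∈ ((H ⊓ stabilizer G (pt lv.b) : Subgroup G) : Set G), F (g * (v i * k))).sum := by
      change force (sumP P f lvs x) (fun a => a + sumL lv.pts fun i => sumP P f lvs fun p =>
        Nat.land (Nat.shiftRight (act P.M lv.T (P.W * i)) (x p)) P.m) = _
      rw [force_eq, sumL_eq, List.map_cons, List.sum_cons, hb, one_mul, ih hx hk]
      congr 2
      refine List.map_congr_left fun i hi => ?_
      rw [hP.M_eq, hP.W_eq, hP.m_eq, act_fld]
      exact ih (hx.comp (hd i (List.mem_cons_of_mem _ hi)))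
        (mul_mem (hH (hv i (List.mem_cons_of_mem _ hi))) hk)
    have h2 : (H : Set G) = ⋃ i ∈ ((lv.b :: lv.pts).toFinset : Set ℕ),
        (fun g => g * v i) '' (H ⊓ stabilizer G (pt lv.b) : Subgroup G) := by
      ext g
      simp only [Set.mem_iUnion, List.mem_toFinset, Set.mem_image, SetLike.mem_coe]
      constructor
      · intro hg
        obtain ⟨i, hi, e⟩ := orb g⁻¹ (H.inv_mem hg)
        refine ⟨i, hi, g * (v i)⁻¹, mem_inf.2 ⟨H.mul_mem hg (H.inv_mem (hv i hi)), ?_⟩, by group⟩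
        rw [mem_stabilizer_iff, mul_smul]
        conv_lhs => rw [← he i hi, inv_smul_smul, ← e, smul_inv_smul]
      · rintro ⟨i, hi, s, hs, rfl⟩
        exact H.mul_mem hs.1 (hv i hi)
    rw [h1, ← List.sum_toFinset _ tab.nodup]
    conv_rhs => rw [h2]
    rw [finsum_mem_biUnion _ (Finset.finite_toSet _) fun _ _ => Set.toFinite _, finsum_mem_coe_finset]
    · refine Finset.sum_congr rfl fun i _ => ?_
      rw [finsum_mem_image (mul_left_injective _).injOn]
      simp only [mul_assoc]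
    · intro i hi j hj hij
      rw [Finset.mem_coe, List.mem_toFinset] at hi hj
      refine Set.disjoint_left.2 ?_
      rintro _ ⟨s, hs, rfl⟩ ⟨s', hs', e⟩
      refine hij (C.inj i (tab.den i hi).1 j (tab.den j hj).1 (smul_left_cancel (s * v i) ?_))
      have e' : s' * v j = s * v i := e
      conv_rhs => rw [← e']
      rw [mul_smul, mul_smul, he i hi, he j hj, mem_stabilizer_iff.1 hs.2, mem_stabilizer_iff.1 hs'.2]

theorem ncard_map {K : Type*} [Group K] (f : G →* K) (hf : Function.Injective f) (g : ℕ → G)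
    (W : ℕ → List (List ℕ)) (i : ℕ) (q : Fm) :
    {y | y ∈ sub (fun l => f (g l)) (W i) ∧ q.sem (fun i => sub (fun l => f (g l)) (W i))
      (upd (fun l => f (g l)) 40 y)}.ncard =
      {y | y ∈ sub g (W i) ∧ q.sem (fun i => sub g (W i)) (upd g 40 y)}.ncard := by
  rw [← Set.ncard_image_of_injective _ hf]
  congr 1
  ext x
  simp only [← sub_map, Set.mem_ofPred_eq, Set.mem_image]
  constructor
  · rintro ⟨⟨a, ha, rfl⟩, b⟩
    exact ⟨a, ⟨ha, (q.sem_map f hf _ _).1 (by rwa [upd_map])⟩, rfl⟩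
  · rintro ⟨a, ⟨ha, b⟩, rfl⟩
    exact ⟨⟨a, ha, rfl⟩, by rw [← upd_map]; exact (q.sem_map f hf _ _).2 b⟩

/-- count the elements of subgroup `i` with a property -/
noncomputable def cnt (M : PM) (B : List ℕ) (i : ℕ) (q : Fm) (N : ℕ) : Bool :=
  withMu M.w M.n fun mu P => forceL M.cs fun cs => PM.lvK mu P cs M.SW fun r =>
    forceL (B.map fun b => Nat.mul P.w b) fun B' =>
      Nat.beq (sumP P (fun c => cond (q.evB P B' (PM.getL r)
        (upd (fun l p => Nat.land (Nat.shiftRight (nth P.o cs l) p) P.m) 40 c)) 1 0)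
        (PM.getL r i) fun p => p) N

/-- `B` is a base of the group generated by the letters -/
def Base (M : PM) [NeZero M.n] (B : List ℕ) : Prop :=
  (∀ b ∈ B, b < M.n) ∧ ∃ Γ : Subgroup (Equiv.Perm (Fin M.n)),
    (∀ x ∈ Γ, (∀ b ∈ B, x • Fin.ofNat M.n b = Fin.ofNat M.n b) → x = 1) ∧ ∀ l, M.m l ∈ Γ

/-- `B` contains the base of the first chain -/
noncomputable def baseB (M : PM) (B : List ℕ) : Bool :=
  withMu M.w M.n fun mu P => forceL M.cs fun cs => PM.lvK mu P cs M.SW fun r =>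
    PK.allL (PM.getL r 0) fun lv => anyL B fun b => Nat.beq b lv.b

variable {M : PM} [NeZero M.n] (h : M.ok = true) (h' : M.subsOK = true)
include h h'

theorem chain_getL (i : ℕ) : Chain M.w M.n (Fin.ofNat M.n) (sub M.m (M.W i))
    (PM.getL (M.SW.map fun s => levels (pmul M.w M.n) (mkPar M.w M.n) s.2
      (PM.evs (pmul M.w M.n) (one M.w M.n) M.cs s.1)) i) := by
  convert PM.chain h h' i
  rw [PM.getL_eq, PM.K, PM.W]
  by_cases hi : i < M.SW.length
  · rw [List.getD_eq_getElem _ _ hi, List.getD_eq_getElem _ _ (by simpa using hi),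
      List.getElem_map]; rfl
  · rw [List.getD_eq_default _ _ (by simpa using hi), List.getD_eq_default _ _ (by omega)]; rfl

theorem base_of {B : List ℕ} (hd : (∀ b ∈ B, b < M.n) ∧ (∀ l < M.cs.length, [l] ∈ M.W 0 ∨
    nth (one M.w M.n) M.cs l = one M.w M.n) ∧ baseB M B = true) : Base M B := by
  obtain ⟨h1, h2, h3⟩ := hd
  simp only [baseB, withMu_eq, forceL_eq, PM.lvK_eq, (mkPar_ok M.w M.n).o_eq, PK.allL_iff,
    anyL_iff, Nat.beq_eq] at h3
  refine ⟨h1, sub M.m (M.W 0), fun x hx e => eq_one_of_chain (chain_getL h h' 0) hx fun lv hl => ?_,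
    fun l => ?_⟩
  · obtain ⟨b, hb, e'⟩ := h3 lv hl
    exact e' ▸ e b hb
  · by_cases a : l < M.cs.length
    · exact (h2 l a).elim (let_mem _ l) fun a => PM.m_eq_one h a ▸ one_mem _
    · rw [PM.m_eq_one h (by rw [nth_eq, List.getD_eq_default _ _ (by omega)])]; exact one_mem _

theorem holdsB {B : List ℕ} (hB : Base M B) {g : ℕ → G} (he : Emb M.m g) {p : Fm}
    (hd : M.decB B p = true) : p.sem (fun i => sub g (M.W i)) g :=
  let ⟨h1, _, h2, h3⟩ := hB
  (he.sem _ p).1 ((PM.decB_iff h h' h1 h2 h3 p).1 hd)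

theorem ncard_cnt {B : List ℕ} (hB : Base M B) {g : ℕ → G} (he : Emb M.m g) {i N : ℕ} {q : Fm}
    (hc : cnt M B i q N = true) :
    {y | y ∈ sub g (M.W i) ∧ q.sem (fun i => sub g (M.W i)) (upd g 40 y)}.ncard = N := by
  classical
  obtain ⟨h1, Γ, h2, h3⟩ := hB
  have C := PM.ctx h
  have hP := mkPar_ok M.w M.n
  have hle : ∀ i, sub M.m (M.W i) ≤ Γ := fun i => sub_le fun L _ => wv_mem _ fun l _ => h3 l
  simp only [cnt, withMu_eq, forceL_eq, PM.lvK_eq, hP.o_eq, hP.w_eq, hP.m_eq, Nat.beq_eq] at hc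
  rw [sumP_eq C hP (chain_getL h h' i) (hle i) (F := fun a =>
    if q.sem (fun i => sub M.m (M.W i)) (upd M.m 40 a) then 1 else 0) (fun c a hc ha => by
      have := q.evB_iff C hP h1 h2 (chain_getL h h') hle (g := upd M.m 40 a)
        (e := upd (fun l p => Nat.land (Nat.shiftRight (nth (one M.w M.n) M.cs l) p) (2 ^ M.w - 1))
          40 c) fun l => by
          unfold upd; cases Nat.beq l 40
          exacts [⟨by simpa using dn_one.comp (PM.den h l), h3 l⟩, ⟨hc, ha⟩]
      simp only [← this]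
      cases q.evB _ _ _ _ <;> rfl) dn_one (one_mem _)] at hc
  have e1 : {y | y ∈ sub M.m (M.W i) ∧ q.sem (fun i => sub M.m (M.W i)) (upd M.m 40 y)}.ncard =
      N := by
    rw [← hc]
    generalize sub M.m (M.W i) = H
    have := Fintype.ofFinite (Equiv.Perm (Fin M.n))
    rw [← Set.coe_toFinset (H : Set (Equiv.Perm (Fin M.n))), finsum_mem_coe_finset, ← Finset.card_filter,
      ← Set.ncard_coe_finset]
    congr 1
    ext x
    simp
  obtain ⟨H, hm, φ, hφ, e⟩ := he
  rw [← e1, ← show (fun l => φ ⟨_, hm l⟩) = g from funext e, ncard_map φ hφ]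
  exact (ncard_map H.subtype H.subtype_injective (fun l => ⟨_, hm l⟩) _ _ _).symm

end Cfsg.Lib.M12S
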