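import Cfsg.Agent.M12S.Mod
import Cfsg.Agent.Co3M.KFr2
import Cfsg.Agent.Gold.Cm

/-! Standard subgroups isomorphic to `M₁₂`: definitions. -/

set_option autoImplicit false

namespace Cfsg.Lib.M12S

open Subgroup Cfsg.Lib.Gold Cfsg.Lib.Trans Cfsg.Lib.Co3M

variable {G Γ : Type*} [Group G] [Group Γ]

/-- facts on the subgroups of the frame -/
structure Fc1 (F : OW G) : Prop where
  C_or : ∀ x ∈ F.C, x ∈ F.Ah ∨ F.e * x ∈ F.Ah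
  Ah_or : ∀ x ∈ F.Ah, x ∈ F.A ∨ F.c * x ∈ F.A
  eAh : F.e ∉ F.Ah
  cA : F.c ∉ F.A
  ce : ∀ x ∈ F.C, x * F.e = F.e * x
  nA : F.C ≤ Ns F.A
  sqA : ∀ x ∈ F.C, x * x ∈ F.A
  comA : ∀ a ∈ F.C, ∀ b ∈ F.C, a * b * a⁻¹ * b⁻¹ ∈ F.A
  sylT : IsSylowIn 2 F.T F.C
  sylTh : IsSylowIn 2 F.Th F.Ah
  sylT1 : IsSylowIn 2 F.T1 F.A
  memY : ∀ x ∈ F.C, x * F.z = F.z * x → x ∈ F.Y
  memD : ∀ x ∈ F.C, x * F.z = F.z * x → x * F.y = F.y * x → x ∈ F.D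
  memR1 : ∀ x ∈ F.A, x * F.z = F.z * x → x ∈ F.R1
  memCz : ∀ x ∈ F.Ah, x * F.z = F.z * x → x ∈ F.Cz
  memCt : ∀ x ∈ F.Ah, x * F.t = F.t * x → x ∈ F.Ct
  memCc : ∀ x ∈ F.Ah, x * F.c = F.c * x → x ∈ F.Cc
  cenQ : ∀ x ∈ F.C, x * F.z = F.z * x → x * F.y = F.y * x → x * F.t = F.t * x →
    x * F.r = F.r * x → x * F.a3 = F.a3 * x → x = 1 ∨ x = F.e ∨ x = F.z ∨ x = F.e * F.z
  three : ∀ x ∈ F.Y, x * x * x = 1 → x = 1 ∨ ∃ k ∈ F.R1, k * x = F.p * k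
  o3 : ∀ x ∈ F.Y, x * x = 1 → x * F.p * x * F.p * x * F.p = 1 →
    x ∈ F.E ∨ ∃ k ∈ F.Y, k * F.p = F.p * k ∧ k * x = F.t * k
  o4 : ∀ x ∈ F.E, x * F.p * x * F.p * x * F.p = 1 → x * F.t = F.t * x →
    x * F.r = F.r * F.z * x → x = F.y
  nE : F.Y ≤ Ns F.E
  abE : ∀ a ∈ F.E, ∀ b ∈ F.E, a * b = b * a
  cz12 : ∀ x ∈ F.Ah, x * F.z = F.z * x → x * F.p = F.p * x → x * x = 1 → x = 1 ∨ x = F.z
  c7 : ∀ x ∈ F.Ah, x * F.z = F.z * x → x * F.y = F.y * x → x * F.t = F.t * x →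
    x * F.g = F.g * x → x * F.v = F.v * x → x = 1 ∨ x = F.t ∨ x = F.c ∨ x = F.t * F.c
  ct : ∀ x ∈ F.Ah, x * F.c = F.c * x → x * F.t = F.t * x

/-- facts on the classes of the frame -/
structure Fc2 (F : OW G) : Prop where
  invA : ∀ x ∈ F.A, x * x = 1 → x = 1 ∨ ∃ k ∈ F.A, k * x = F.z * k ∨ k * x = F.t * k
  invO : ∀ x ∈ F.Ah, x ∉ F.A → x * x = 1 → ∃ k ∈ F.A, k * x = F.c * k
  f5 : ∀ x ∈ F.Ah, ∀ s ∈ F.Ah, ∀ u ∈ F.Ah, ∀ w ∈ F.Ah, x ^ 5 = 1 → x ≠ 1 → s * x = x * x * s →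
    u * u = 1 → u ≠ 1 → Commute u x → Commute u s → Commute u w → Commute w x → Commute w s →
    w = 1 ∨ w = u
  f3 : ∀ x ∈ F.Ah, ∀ i ∈ F.Ah, ∀ y ∈ F.Ah, ∀ u ∈ F.Ah, ∀ w ∈ F.Ah, x * x * x = 1 → x ≠ 1 →
    i * x = x * x * i → y * y = 1 → y ≠ 1 → y * x * y * x * y * x = 1 → Commute i y →
    u * u = 1 → u ≠ 1 → Commute u x → Commute u i → Commute u y → Commute u w → Commute w x →
    Commute w i → Commute w y → w = 1 ∨ w = u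
  noOdd : ∀ Y ≤ F.Ah, Odd (Nat.card Y) → F.z ∈ Ns Y → F.y ∈ Ns Y → Y = ⊥

/-- the action of the normalizer of `A` on `A`, in the model -/
structure Pi (A : Subgroup G) (π : G → P26) : Prop where
  mul : ∀ x ∈ Ns A, ∀ y ∈ Ns A, π (x * y) = π x * π y
  ker : ∀ x ∈ Ns A, π x = 1 ↔ x ∈ Cs A
  rng : ∀ x ∈ Ns A, π x ∈ M0.Ah
  mem : ∀ a ∈ A, π a ∈ M0.A
  sur : ∀ u ∈ M0.A, ∃ a ∈ A, π a = u
  inj : ∀ a ∈ A, π a = 1 → a = 1

/-- the centralizer of `A` has a `2`-subgroup of order larger than two -/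
structure Bad (A : Subgroup G) (π : G → P26) : Prop extends Pi A π where
  std : IsStandardSubgroup A
  simple : IsSimpleGroup A
  big : ∃ P ≤ Cs A, IsPGroup 2 P ∧ 2 < Nat.card P

/-- no involution of `A` is conjugate into its centralizer -/
def TwoP (A : Subgroup G) : Prop :=
  ∀ g ∉ Ns A, ∀ a ∈ A, a * a = 1 → a ≠ 1 → g * a * g⁻¹ ∉ Cs A

/-- no involution of `A C(A)` outside `C(A)` is conjugate into `C(A)` -/
def InnP (A : Subgroup G) : Prop :=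
  ∀ g ∉ Ns A, ∀ a ∈ A, ∀ k ∈ Cs A, a * a = 1 → a ≠ 1 → k * k = 1 → g * (a * k) * g⁻¹ ∉ Cs A

/-- the centralizer of `A` has Sylow `2`-subgroups of order two -/
structure St (A O : Subgroup G) (e : G) (π : G → P26) : Prop extends Pi A π where
  e2 : e * e = 1
  e1 : e ≠ 1
  eK : e ∈ Cs A
  OK : O ≤ Cs A
  Oe : O ≤ C1 e
  odd : Odd (Nat.card O)
  ck : ∀ k ∈ Cs A, k * e = e * k → k ∈ O ∨ k * e ∈ O
  cN : C1 e ≤ Ns A

/-- the passage to the quotient of the normalizer of `O` by `O` -/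
structure SL (A O : Subgroup G) (e : Ns O) (π : G → P26) (ρ : Ns O →* Γ) : Prop
    extends St A O e π where
  sj : Function.Surjective ρ
  kr : ∀ x, ρ x = 1 ↔ (x : G) ∈ O

/-- the image of a subgroup -/
def Ab {H : Subgroup G} (A : Subgroup G) (ρ : H →* Γ) : Subgroup Γ := (A.subgroupOf H).map ρ

/-- a quotient by an odd kernel of a subgroup that contains the centralizer of `e` -/
structure LF (H : Subgroup G) (ρ : H →* Γ) (e : H) : Prop where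
  sj : Function.Surjective ρ
  odd : Odd (Nat.card ρ.ker)
  e2 : e * e = 1
  e1 : e ≠ 1
  cen : C1 (e : G) ≤ H
  ck : ∀ o ∈ ρ.ker, e * o = o * e

/-- the images of the conjugates of `e` -/
def LX {H : Subgroup G} (ρ : H →* Γ) (e : H) (x : Γ) : Prop :=
  ∃ h : H, ρ h = x ∧ IsConj (e : G) h

/-- `2`-subgroups of centralizers embed in a Sylow subgroup of the centralizer of `e` -/
def IntoP (e : Γ) (X : Γ → Prop) : Prop :=
  ∀ (x : Γ) (P T : Subgroup Γ) (hx : x ∈ P), X x → IsPGroup 2 P → P ≤ C1 x →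
    IsSylowIn 2 T (C1 e) → ∃ φ : P →* Γ, Function.Injective φ ∧ φ.range ≤ T ∧ φ ⟨x, hx⟩ = e

/-- the consequence of transfer -/
def ParX (e : Γ) (X : Γ → Prop) : Prop :=
  ∀ (T R K : Subgroup Γ) (he : e ∈ T), IsSylowIn 2 T (C1 e) → T ≤ R → IsPGroup 2 R →
    (∀ a ∈ R, ∀ b ∈ R, a * b * a⁻¹ * b⁻¹ ∈ K) → e ∉ K →
    ∃ φ : T →* Γ, Function.Injective φ ∧ φ.range ≤ R ∧ X (φ ⟨e, he⟩) ∧ φ ⟨e, he⟩ ∉ K ∧
      ∀ k ∈ R, k * e * k⁻¹ ≠ φ ⟨e, he⟩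

/-- fusion to a central involution is visible -/
def FzP (e : Γ) (A : Subgroup Γ) (X : Γ → Prop) : Prop :=
  ∀ a ∈ A, X (e * a) → ∀ T, IsSylowIn 2 T (C1 e) → T ≤ C1 (e * a) → IsConj e (e * a)

/-- the exported fusion data -/
structure FX (e : Γ) (A : Subgroup Γ) (X : Γ → Prop) : Prop where
  xe : X e
  cj : ∀ k x, X x → X (k * x * k⁻¹)
  into : IntoP e X
  par : ParX e X
  fz : FzP e A X

/-- the transfer lemma in `G` -/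
def ParP (G : Type*) [Group G] : Prop :=
  ∀ (e : G) (T R K : Subgroup G), e * e = 1 → e ∈ T → IsSylowIn 2 T (C1 e) → T ≤ R →
    IsPGroup 2 R → (∀ a ∈ R, ∀ b ∈ R, a * b * a⁻¹ * b⁻¹ ∈ K) → e ∉ K →
    ∃ g, (∀ x ∈ T, g * x * g⁻¹ ∈ R) ∧ g * e * g⁻¹ ∉ K ∧ ∀ k ∈ R, k * e * k⁻¹ ≠ g * e * g⁻¹

/-- the centralizer of `e` modulo `e` in the model -/
structure PF (e : Γ) (A : Subgroup Γ) (π : Γ → P26) : Prop where
  e2 : e * e = 1
  e1 : e ≠ 1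
  eA : e ∉ A
  le : A ≤ C1 e
  nm : C1 e ≤ Ns A
  mul : ∀ x ∈ C1 e, ∀ y ∈ C1 e, π (x * y) = π x * π y
  ker : ∀ x ∈ C1 e, π x = 1 ↔ x = 1 ∨ x = e
  rng : ∀ x ∈ C1 e, π x ∈ M0.Ah
  mem : ∀ a ∈ A, π a ∈ M0.A
  sur : ∀ u ∈ M0.A, ∃ a ∈ A, π a = u

/-- an involution swapping `e` and `e z` -/
structure Ob (F : OF G) (b : G) : Prop where
  bb : b * b = 1
  e : b * F.e = F.e * F.z * b
  z : b * F.z = F.z * b
  y : b * F.y = F.y * b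
  t : b * F.t = F.t * b
  r : b * F.r = F.r * b
  a3 : b * F.a3 = F.a3 * b
  p : b * F.p = F.p * b
  c : b * F.c = F.c * b
  a1 : b * F.a1 = F.a1 * b ∨ b * F.a1 = F.a1 * F.z * b

/-- the letter `c` can be replaced by `c e` -/
def TwP (G : Type*) [Group G] : Prop :=
  ∀ F : OF G, ∃ F' : OF G, (∀ l, l ≠ 16 → F'.g0 l = F.g0 l) ∧ F'.c = F.c * F.e

/-- the wreath case is impossible -/
def NoW (Γ : Type*) [Group Γ] : Prop :=
  ∀ (F : CF Γ) (A : Subgroup Γ) (X : Γ → Prop) (b : Γ), FX F.e A X → F.Nb b → b * b = 1 →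
    b * F.a3 * b⁻¹ = F.a3 → b * F.a1 * b⁻¹ = F.a1 → False

/-- order, number of involutions, number of involutions with elementary centralizer -/
noncomputable def iv (P : Subgroup G) : ℕ × ℕ × ℕ :=
  (Nat.card P, {u | u ∈ P ∧ u * u = 1}.ncard,
    {u | u ∈ P ∧ u * u = 1 ∧ ∀ v ∈ P, u * v = v * u → v * v = 1}.ncard)

/-- the frame of the centralizer of the four-group modulo the four-group -/
structure LFr (D E T : Subgroup Γ) (e t s u : Γ) : Prop where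
  s2 : s * s = 1
  uE : u ∈ E
  ue : u * e * u⁻¹ = t
  ut : u * t * u⁻¹ = e * t
  sqD : ∀ a ∈ D, a * a = 1
  eD : e ∈ D
  sD : s ∉ D
  DE : D ≤ E
  syl : IsSylowIn 2 T ⊤
  DT : D ≤ T
  sT : s ∈ T
  cT : Nat.card T = Nat.card D * 2
  nD : ∀ n, ∀ d ∈ D, n * d * n⁻¹ ∈ D
  NE : ∀ n, n ∈ E ∨ s * n ∈ E
  hM : ∀ M : Subgroup Γ, M.index = 2 → E ≤ M
  H1 : ∀ n, n * e = e * n → n ∈ D
  h1 : ∀ n ∈ E, n * e * n * e = e * n * e * n → n * e = e * n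
  h2 : ∀ n ∈ E, n * e = t * n → ∀ w ∈ D, n * w = w * n → w = 1
  h3 : ∀ n ∈ E, n * e * n * t = e * n * t * n → n * t = t * n ∨ n * t = e * n

/-- `2`-elements lift uniquely, and conjugates of `e` fix a unique point -/
structure TP (H : Subgroup G) (ρ : H →* Γ) (e : H) : Prop extends LF H ρ e where
  ck4 : ∀ a : H, a ^ 4 = 1 → ∀ o ∈ ρ.ker, a * o = o * a
  uniq : ∀ a b : H, a ^ 4 = 1 → b ^ 4 = 1 → ρ a = ρ b → a = b
  lift : ∀ q : Γ, q ^ 4 = 1 → ∃ a : H, a ^ 4 = 1 ∧ ρ a = q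
  fp : ∀ (g : G) (a : H), IsConj (ρ e) (ρ a) → a * a = 1 → g * a * g⁻¹ ∈ H → g ∈ H
  nsq : ∀ w x : G, IsConj (e : G) x → w * w ≠ x

/-- the frame for the four-group `z`, `y` -/
def FrL.{u} {Γ : Type u} [Group Γ] (e z y : Γ) : Prop :=
  z * z = 1 ∧ y * y = 1 ∧ z * y = y * z ∧
  ∃ (B : Type u) (_ : Group B) (_ : Finite B) (σ : centralizer ({z, y} : Set Γ) →* B),
    Function.Surjective σ ∧ (∀ x, σ x = 1 ↔ (x : Γ) ∈ closure {z, y}) ∧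
    ∃ (D E T : Subgroup B) (t u : B) (e' s : centralizer ({z, y} : Set Γ)), (e' : Γ) = e ∧
      IsConj e s ∧ LFr D E T (σ e') t (σ s) u

/-- the frame for the involution `z` -/
def FrZ.{u} {Γ : Type u} [Group Γ] (e z y : Γ) : Prop :=
  z * z = 1 ∧ y * y = 1 ∧ (∃ a, a * a = y) ∧
  (∀ w, w * z = z * w → w * w = 1 → w = 1 ∨ w = z ∨ IsConj e w ∨
    ∃ k, k * z = z * k ∧ k * w * k⁻¹ = y) ∧
  ∃ (B : Type u) (_ : Group B) (_ : Finite B) (σ : C1 z →* B) (y' : C1 z),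
    Function.Surjective σ ∧ (∀ x, σ x = 1 ↔ (x : Γ) = 1 ∨ (x : Γ) = z) ∧ (y' : Γ) = y ∧
    IsSimpleGroup B ∧ ¬ IsMulCommutative B ∧
    (∀ n : ℕ, ¬ Nonempty (B ≃* alternatingGroup (Fin n))) ∧ IsTwoCentralInvolution (σ y') ∧
    ∃ k : B, σ y' * (k * σ y' * k⁻¹) = k * k * σ y' * (k * k)⁻¹

/-- the lifted dihedral argument -/
def TopP.{u} : Prop :=
  ∀ {G B : Type u} [Group G] [Group B] [Finite G] {N : Subgroup G} (ψ : N →* B),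
    Function.Surjective ψ → Odd (Nat.card ψ.ker) →
    (∀ a : N, a * a = 1 → ∀ o ∈ ψ.ker, a * o = o * a) →
    ∀ {D E T : Subgroup B} {t u : B} {e s : N}, LFr D E T (ψ e) t (ψ s) u → e * e = 1 →
      s * s = 1 → (∀ g : G, g * e * g⁻¹ ∈ N → g ∈ N) → (∀ g : G, g * s * g⁻¹ ∈ N → g ∈ N) → N = ⊤

/-- Holt's theorem modulo an odd kernel -/
def HoltP.{u} : Prop :=
  ∀ {G B : Type u} [Group G] [Group B] [Finite G] {P : Subgroup G} (ψ : P →* B),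
    Function.Surjective ψ → Odd (Nat.card ψ.ker) → IsSimpleGroup B → ¬ IsMulCommutative B →
    (∀ n : ℕ, ¬ Nonempty (B ≃* alternatingGroup (Fin n))) → ∀ r : P, r * r = 1 →
    (∀ o ∈ ψ.ker, r * o = o * r) → IsTwoCentralInvolution (ψ r) →
    (∃ k : B, ψ r * (k * ψ r * k⁻¹) = k * k * ψ r * (k * k)⁻¹) →
    (∀ g : G, g * r * g⁻¹ ∈ P → g ∈ P) → P = ⊤

/-- descent of a homomorphism to a quotient -/
theorem descend {C B B' : Type*} [Group C] [Group B] [Group B'] (σ : C →* B) {P : Subgroup C}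
    (τ : P →* B') (h : ∀ x : P, σ x = 1 → τ x = 1) :
    ∃ ψ : P.map σ →* B', ∀ x : P, ψ ⟨σ x, mem_map_of_mem σ x.2⟩ = τ x := by
  have hs := MonoidHom.subgroupMap_surjective σ P
  refine ⟨(σ.subgroupMap P).liftOfSurjective hs ⟨τ, fun x hx => h x (congrArg Subtype.val hx)⟩,
    fun x => ?_⟩
  exact MonoidHom.liftOfRightInverse_comp_apply _ _ _ _ x

end Cfsg.Lib.M12S
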