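import Cfsg.Agent.M12S.Defs
import Cfsg.Agent.Co3M.Abs2
import Cfsg.Agent.HK.Lift
import Cfsg.Agent.Local.NormalFour

/-! The dihedral argument modulo an odd kernel. -/

set_option autoImplicit false

namespace Cfsg.Lib.M12S

open Subgroup Cfsg.Lib.Gold Cfsg.Lib.Trans Cfsg.Lib.Co3M

universe u

variable {G : Type*} [Group G]

theorem Dih.le_of [Finite G] {D E N M : Subgroup G} {e t s u : G} (he : e * e = 1)
    (hu : u ∈ N) (hs : s ∈ N) (ht : u * e * u⁻¹ = t) (hD : ∀ a ∈ D, ∀ b ∈ D, a * b = b * a)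
    (heD : e ∈ D) (htD : t ∈ D) (hsD : s * e * s⁻¹ ∈ D) (hDN : D ≤ N) (hDM : D ≤ M) (hsM : s ∉ M)
    (H1 : ∀ n, n * n = 1 → n * e = e * n → n ∈ D) (H1b : ∀ n, n * e = e * n → n ∈ M)
    (H1' : ∀ n, n * (e * t) = e * t * n → n ∈ N)
    (H2 : ∀ n, n * e * n⁻¹ ∈ N → n ∈ N) (hE : ∀ n ∈ N, n ∈ M → n ∈ E)
    (h1 : ∀ n ∈ E, n * e * n * e = e * n * e * n → n * e = e * n)
    (h2 : ∀ n ∈ E, n * e = t * n → ∀ w ∈ D, n * w = w * n → w = 1)
    (h3 : ∀ n ∈ E, n * e * n * t = e * n * t * n → n * t = t * n ∨ n * t = e * n) :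
    M ≤ N := by
  suffices H : ∀ n, ∀ Y : Subgroup G, Nat.card Y = n → D ≤ Y → Y ≤ M → Y ≤ N from
    H _ M rfl hDM le_rfl
  intro n
  induction n using Nat.strong_induction_on with
  | _ n ih =>
  rintro Y rfl hDY hYM k hk
  by_contra hkN
  have H2' : ∀ v ∈ N, ∀ n, n * (v * e * v⁻¹) * n⁻¹ ∈ N → n ∈ N := fun v hv n h =>
    (mul_mem_cancel_right hv).1 (H2 _ (by convert h using 1; group))
  have key : ∀ v ∈ N, v * e * v⁻¹ ∈ D → (∃ n ∈ Y, n * e * n⁻¹ = v * e * v⁻¹) ∨
      ∃ w ∈ D, w ≠ 1 ∧ (∀ x ∈ Y, x * w = w * x) ∧ ∃ n ∈ Y, n * (v * e * v⁻¹) * n⁻¹ = e * w :=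
    fun v hv hvD => by
      rcases dihedral he (j := k * (v * e * v⁻¹) * k⁻¹) (by simp [conj_mul, he]) (hDY heD)
        (mul_mem (mul_mem hk (hDY hvD)) (inv_mem hk)) with ⟨n, hn, a⟩ | ⟨w, w1, we, wj, n, hn, a⟩
      · exact Or.inl ⟨k⁻¹ * n, mul_mem (inv_mem hk) hn, by
          calc _ = k⁻¹ * (n * e * n⁻¹) * k := by group
            _ = _ := by rw [a]; group⟩
      have wD := H1 w (by
        have : e * w * (e * w) = 1 := by rcases a with a | a <;> rw [← a] <;> simp [conj_mul, he]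
        rwa [Commute.mul_mul_mul_comm we, he, one_mul] at this) we
      have hc : Y ≤ centralizer {w} := by
        by_contra hc
        have lt : Y ⊓ centralizer {w} < Y := lt_of_le_of_ne inf_le_left fun e => hc (inf_eq_left.1 e)
        exact hkN (H2' v hv k (ih _ (card_lt_of_lt lt) _ rfl
          (le_inf hDY fun x hx => mem_centralizer_singleton_iff.2 (hD x hx w wD))
          (inf_le_left.trans hYM) (mem_inf.2 ⟨mul_mem (mul_mem hk (hDY hvD)) (inv_mem hk),
            mem_centralizer_singleton_iff.2 wj.symm⟩)))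
      have hc' : ∀ x ∈ Y, x * w = w * x := fun x hx => mem_centralizer_singleton_iff.1 (hc hx)
      rcases a with a | a
      · refine absurd ?_ w1
        have b := of_cj a
        have := h1 n (hE n (H2 n (a ▸ hDN (mul_mem heD wD))) (hYM hn)) (by
          rw [mul_assoc e n, mul_assoc _ n e, mul_assoc n e (n * e), b]
          simp only [mul_assoc, as1 he, as (hc' n hn)])
        rwa [b, mul_left_inj, mul_eq_left] at this
      · exact Or.inr ⟨w, wD, w1, hc', n * k, mul_mem hn hk, by rw [← a]; group⟩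
  have hZ : ∀ w ∈ D, (∀ x ∈ Y, x * w = w * x) → w = 1 := fun w hw hc => by
    rcases key u hu (ht ▸ htD) with ⟨n, hn, a⟩ | ⟨w', hw', w1, hc', n, hn, a⟩
    · rw [ht] at a
      exact h2 n (hE n (H2 n (a ▸ hDN htD)) (hYM hn)) (of_cj a) w hw (hc n hn)
    · have hnN := H2' u hu n (a ▸ hDN (mul_mem heD hw'))
      rw [ht] at a
      have b := of_cj a
      have c := (h3 n (hE n hnN (hYM hn)) (by
        rw [mul_assoc e n, b, mul_assoc _ n t, b]
        simp only [mul_assoc, as1 he, as (hc' n hn)])).resolve_right fun c =>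
          w1 (by rwa [b, mul_left_inj, mul_eq_left] at c)
      rw [cj_of c] at a
      refine absurd (H1' k ?_) hkN
      rw [a, as1 he]
      exact hc' k hk
  rcases key s hs hsD with ⟨n, hn, a⟩ | ⟨w, hw, w1, hc, -⟩
  · refine hsM ((mul_mem_cancel_left (inv_mem (hYM hn))).1 (H1b _ (of_cj ?_)))
    calc _ = n⁻¹ * (s * e * s⁻¹) * n := by group
      _ = _ := by rw [← a]; group
  · exact w1 (hZ w hw hc)

theorem topP : TopP.{u} := by
  intro G B _ _ _ N ψ hs ho ck D E T t u e s F e2 s2 he hsN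
  have : Fact (Nat.Prime 2) := ⟨Nat.prime_two⟩
  have := Finite.of_surjective ψ hs
  obtain ⟨u, rfl⟩ := hs u
  have uq : ∀ {a b : N}, a * a = 1 → b * b = 1 → ψ a = ψ b → a = b := fun {a b} ha hb h =>
    HK.Lift.uniq ho (mem_centralizer_iff.2 fun o h => (ck a ha o h).symm) h (HK.Lift.four ha)
      (HK.Lift.four hb)
  have sq : ∀ {a : N} (y : N), a * a = 1 → y * a * y⁻¹ * (y * a * y⁻¹) = 1 := fun y h => by
    rw [conj_mul, h]; group
  have cD : ∀ a ∈ D, ∀ b ∈ D, a * b = b * a := fun a ha b hb => by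
    rw [← inv_eq_of_mul_eq_one_right (F.sqD _ (mul_mem ha hb)), mul_inv_rev,
      inv_eq_of_mul_eq_one_right (F.sqD a ha), inv_eq_of_mul_eq_one_right (F.sqD b hb)]
  have cm : ∀ {n a b : N}, a * a = 1 → b * b = 1 → ψ n * ψ a = ψ b * ψ n → n * a = b * n :=
    fun {n a b} ha hb h => of_cj (uq (sq n ha) hb (by rw [map_mul, map_mul, h, map_inv, mul_inv_cancel_right]))
  let D' : Subgroup N :=
    { carrier := {a | a * a = 1 ∧ ψ a ∈ D}
      one_mem' := ⟨mul_one 1, by rw [map_one]; exact one_mem D⟩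
      mul_mem' := fun {a b} ha hb => ⟨by
        rw [Commute.mul_mul_mul_comm (cm ha.1 ha.1 (cD _ hb.2 _ ha.2)), ha.1, hb.1, mul_one], by
        rw [map_mul]; exact mul_mem ha.2 hb.2⟩
      inv_mem' := fun {a} ha => by rwa [inv_eq_of_mul_eq_one_right ha.1] }
  obtain ⟨M, hM, hsM⟩ := Local.exists_index_two_not_mem_of_index_mod_four ((D.comap ψ).map N.subtype) (by
      obtain ⟨S, hS, h⟩ := exists_isSylowIn_ge (H := N) (p := 2) (Q := zpowers (e : G))
        (IsPGroup.of_card_dvd_pow (n := 1) (by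
          rw [Nat.card_zpowers, pow_one]
          exact orderOf_dvd_of_pow_eq_one (by rw [pow_two]; exact congrArg Subtype.val e2)))
        (zpowers_le.2 e.2)
      have h1 := (sylow_top hS (h (mem_zpowers _)) he).2.2
      have h2 := F.syl.2.2
      have h3 := card_mul_relIndex F.DT
      rw [relIndex_top_right] at h1 h2
      rw [F.cT, mul_right_inj' Nat.card_pos.ne'] at h3
      rw [← relIndex_mul_index (map_subtype_le _), relIndex, subgroupOf, comap_map_eq_self_of_injective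
        N.subtype_injective, index_comap_of_surjective _ hs, ← relIndex_mul_index F.DT, h3, mul_assoc]
      have := Nat.prime_two.not_dvd_mul h2 (mt (·.trans (index_dvd_of_le hS.1)) h1)
      omega) s (by rw [pow_two]; exact congrArg Subtype.val s2) (by
      rintro g ⟨x, hx, h⟩
      have hg := hsN g (h ▸ x.2)
      obtain rfl : x = ⟨g, hg⟩ * s * ⟨g, hg⟩⁻¹ := Subtype.ext h
      simpa [mul_assoc] using mt (fun h => by simpa [mul_assoc] using h) F.sD
        (F.nD (ψ ⟨g, hg⟩)⁻¹ _ hx))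
  have kM : ψ.ker ≤ M.subgroupOf N := fun o h => by
    obtain ⟨m, hm⟩ := ho
    have := mul_self_mem_of_index_two hM ((o : G) ^ (m + 1))
    rwa [← pow_add, show m + 1 + (m + 1) = Nat.card ψ.ker + 1 by omega, pow_succ, ← SubmonoidClass.coe_pow,
      HK.Lift.pow_card h, OneMemClass.coe_one, one_mul] at this
  have EM : ∀ n : N, ψ n ∈ E → (n : G) ∈ M := fun n hn => by
    have := normal_of_index_eq_two hM
    have := F.hM ((M.subgroupOf N).map ψ) (by
      rw [index_map_eq _ hs kM]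
      exact ((Nat.dvd_prime Nat.prime_two).1 (hM ▸ relIndex_dvd_index_of_normal M N)).resolve_left
        fun h => hsM (relIndex_eq_one.1 h s.2)) hn
    rwa [mem_map_ker kM] at this
  have t2 := sq u e2
  have pt : ψ (u * e * u⁻¹) = t := by rw [map_mul, map_mul, map_inv, F.ue]
  have eD : e ∈ D' := ⟨e2, F.eD⟩
  have tD : u * e * u⁻¹ ∈ D' := ⟨t2, pt ▸ F.ue ▸ F.nD _ _ F.eD⟩
  have cN : ∀ n : G, n * e = e * n → n ∈ N := fun n h => he n (by rw [cj_of h]; exact e.2)
  have := Dih.le_of (D := D'.map N.subtype) (E := (E.comap ψ).map N.subtype) (N := N) (M := M)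
    (e := (e : G)) (t := ((u * e * u⁻¹ : N) : G)) (s := (s : G)) (u := (u : G))
    (congrArg Subtype.val e2) u.2 s.2 rfl (by
      rintro _ ⟨a, ha, rfl⟩ _ ⟨b, hb, rfl⟩
      exact congrArg Subtype.val (cm hb.1 hb.1 (cD _ ha.2 _ hb.2))) ⟨e, eD, rfl⟩ ⟨_, tD, rfl⟩
    ⟨s * e * s⁻¹, ⟨sq s e2, by rw [map_mul, map_mul, map_inv]; exact F.nD _ _ F.eD⟩, rfl⟩
    (map_subtype_le _) (by rintro _ ⟨a, ha, rfl⟩; exact EM a (F.DE ha.2)) hsM
    (fun n h1 h2 => ⟨⟨n, cN n h2⟩, ⟨Subtype.ext h1, F.H1 _ (by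
      rw [← map_mul, ← map_mul]; exact congrArg ψ (Subtype.ext h2))⟩, rfl⟩)
    (fun n h2 => EM ⟨n, cN n h2⟩ (F.DE (F.H1 _ (by
      rw [← map_mul, ← map_mul]; exact congrArg ψ (Subtype.ext h2)))))
    (fun n h => by
      have h1 : u * (u * e * u⁻¹) * u⁻¹ = e * (u * e * u⁻¹) := uq (sq u t2) (mul_mem eD tD).1 (by
        rw [map_mul, map_mul, map_mul ψ e, pt, map_inv, F.ut])
      have := he (n * u * u) (by
        rw [show n * u * u * e * (n * u * u)⁻¹ = n * (u * (u * e * u⁻¹) * u⁻¹ : N) * n⁻¹ by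
          simp [mul_assoc], h1, coe_mul, cj_of h]
        exact mul_mem e.2 (SetLike.coe_mem _))
      rwa [mul_mem_cancel_right u.2, mul_mem_cancel_right u.2] at this) he
    (fun n h1 h2 => ⟨⟨n, h1⟩, (F.NE _).resolve_right fun h => hsM ((mul_mem_cancel_right h2).1
      (EM (s * ⟨n, h1⟩) (by rwa [map_mul]))), rfl⟩) (by
      rintro _ ⟨n, hn, rfl⟩ h
      exact congrArg Subtype.val (cm e2 e2 (F.h1 _ hn (by
        simpa only [map_mul] using congrArg ψ (Subtype.ext h : n * e * n * e = e * n * e * n))))) (by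
      rintro _ ⟨n, hn, rfl⟩ h _ ⟨w, hw, rfl⟩ h'
      refine congrArg Subtype.val (HK.Lift.eq_one ho (F.h2 _ hn ?_ _ hw.2 ?_) (HK.Lift.four hw.1))
      · rw [← pt, ← map_mul, ← map_mul]; exact congrArg ψ (Subtype.ext h)
      · rw [← map_mul, ← map_mul]; exact congrArg ψ (Subtype.ext h')) (by
      rintro _ ⟨n, hn, rfl⟩ h
      refine (F.h3 _ hn ?_).imp (fun a => congrArg Subtype.val (cm t2 t2 (pt ▸ a)))
        fun a => congrArg Subtype.val (cm t2 e2 (pt ▸ a))
      rw [← pt]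
      simpa only [map_mul] using congrArg ψ
        (Subtype.ext h : n * e * n * (u * e * u⁻¹) = e * n * (u * e * u⁻¹) * n))
  refine eq_top_iff.2 fun g _ => ?_
  by_cases hg : g ∈ M
  · exact this hg
  · exact (mul_mem_cancel_right s.2).1 (this ((mul_mem_iff_of_index_two hM).2 (iff_of_false hg hsM)))

end Cfsg.Lib.M12S
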