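import Cfsg.Agent.M12S.Defs

/-! Standard subgroups isomorphic to `M₁₂`: an involution swapping `e` and `e z`. -/

set_option autoImplicit false

namespace Cfsg.Lib.M12S

open Subgroup Cfsg.Lib.Gold Cfsg.Lib.Trans Cfsg.Lib.Co3M Cfsg.Lib.Spor.WF

variable {Γ : Type*} [Group Γ]

namespace ObL

variable {F : OF Γ}

theorem cent (F : OF Γ) : F.C = C1 F.e := F.cent

theorem memC {x : Γ} : x ∈ F.C ↔ x * F.e = F.e * x := by rw [cent, mem_C1]

theorem A_le (F : OW Γ) : F.A ≤ F.Ah := sub_le fun L hL => wv_mem_sub _ (by revert L; decide +kernel)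
theorem R1_le (F : OW Γ) : F.R1 ≤ F.Y := sub_le fun L hL => wv_mem_sub _ (by revert L; decide +kernel)
theorem Y_le (F : OW Γ) : F.Y ≤ F.C := sub_le fun L hL => wv_mem_sub _ (by revert L; decide +kernel)

theorem Y_z (F : OW Γ) : F.Y ≤ C1 F.z := sub_le fun L hL => by
  rw [mem_C1]
  simp only [Spor.WF.PM.W, List.getD_cons_succ, List.getD_cons_zero, List.mem_cons,
    List.not_mem_nil, or_false] at hL
  rcases hL with rfl | rfl | rfl | rfl | rfl | rfl | rfl | rfl | rfl | rfl <;> ow F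

theorem nsq (f : Fc1 F.toOW) {x w : Γ} (h : IsConj F.e x) : w * w ≠ x := by
  obtain ⟨k, rfl⟩ := isConj_iff.1 h
  intro e
  have h1 : k⁻¹ * w * k * (k⁻¹ * w * k) = F.e := by
    calc _ = k⁻¹ * (w * w) * k := by group
      _ = _ := by rw [e]; group
  exact f.eAh (A_le _ (h1 ▸ f.sqA _ (memC.2 (by rw [← h1]; simp only [mul_assoc]))))

/-- an element swapping `e` and `e z` -/
structure Sw (F : OF Γ) (k : Γ) : Prop where
  e : k * F.e = F.e * F.z * k
  z : k * F.z = F.z * k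

theorem Sw.ez {k : Γ} (h : Sw F k) : k * (F.e * F.z) = F.e * k := by
  have z2 : F.z * F.z = 1 := by ow F.toOW
  rw [← mul_assoc, h.e, mul_assoc, h.z, mul_assoc, as1 z2]

theorem Sw.inv {k : Γ} (h : Sw F k) : Sw F k⁻¹ :=
  ⟨by rw [inv_mul_eq_iff_eq_mul, ← mul_assoc, h.ez, mul_inv_cancel_right],
    (Commute.inv_left h.z).eq⟩

theorem Sw.mul {k m : Γ} (h : Sw F k) (hm : m ∈ F.Y) : Sw F (m * k) := by
  have h1 := memC.1 (Y_le _ hm)
  have h2 := mem_C1.1 (Y_z _ hm)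
  exact ⟨by rw [mul_assoc, h.e, mul_assoc, as h1, as h2, mul_assoc], by rw [mul_assoc, h.z, as h2]⟩

theorem Sw.cjY (f : Fc1 F.toOW) {k x : Γ} (h : Sw F k) (hx : x ∈ F.Y) : k * x * k⁻¹ ∈ F.Y := by
  have h1 := memC.1 (Y_le _ hx)
  have h2 := mem_C1.1 (Y_z _ hx)
  have h3 := cj_comm (k := k) h2
  have h4 := cj_comm (k := k) (a := x) (b := F.e * F.z) (by rw [as h1, h2, mul_assoc])
  rw [cj_of h.z] at h3
  rw [cj_of h.ez] at h4
  exact f.memY _ (memC.2 h4) h3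

theorem Sw.nE (f : Fc1 F.toOW) {k : Γ} (h : Sw F k) : k * F.t * k⁻¹ ∉ F.E := by
  intro hE
  have h1 := mem_normalizer_conj (f.nE (h.cjY f (x := F.a1) (let_mem _ 6 (by decide +kernel)))) hE
  have h2 := mem_normalizer_conj (f.nE (h.cjY f (x := F.p) (let_mem _ 14 (by decide +kernel)))) hE
  have h3 := cj_comm (k := k⁻¹) (f.abE _ h1 _ h2)
  simp only [mul_inv_rev, inv_inv, mul_assoc, inv_mul_cancel_left, inv_mul_cancel, mul_one] at h3
  revert h3
  change _ ≠ _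
  ow F.toOW

theorem exists_sw0 [Finite Γ] (f : Fc1 F.toOW) {A : Subgroup Γ} {X : Γ → Prop} (fx : FX F.e A X)
    (hz : F.z ∈ A) : IsConj F.e (F.e * F.z) ∧ F.T ≤ C1 (F.e * F.z) := by
  have he : F.e ∈ F.T := let_mem _ 1 (by decide +kernel)
  have hT : IsSylowIn 2 F.T (C1 F.e) := cent F ▸ f.sylT
  obtain ⟨φ, inj, hr, hX, hA, hk⟩ := fx.par F.T F.T F.Ah he hT le_rfl hT.isPGroup
    (fun a ha b hb => A_le _ (f.comA a (f.sylT.le ha) b (f.sylT.le hb))) f.eAh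
  have hr' : φ.range = F.T := eq_of_le_of_card_ge hr
    (Nat.card_congr (MonoidHom.ofInjective inj).toEquiv).le
  have hc : ∀ u ∈ F.T, φ ⟨_, he⟩ * u = u * φ ⟨_, he⟩ := by
    intro u hu
    obtain ⟨x, rfl⟩ : u ∈ φ.range := hr'.ge hu
    rw [← map_mul, ← map_mul]
    exact congrArg φ (Subtype.ext (f.ce _ (f.sylT.le x.2)).symm)
  rcases f.cenQ _ (f.sylT.le (hr ⟨_, rfl⟩)) (hc _ (let_mem _ 2 (by decide +kernel)))
    (hc _ (let_mem _ 3 (by decide +kernel))) (hc _ (let_mem _ 4 (by decide +kernel)))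
    (hc _ (let_mem _ 5 (by decide +kernel))) (hc _ (let_mem _ 10 (by decide +kernel)))
    with e | e | e | e
  · exact absurd (e ▸ one_mem _) hA
  · exact absurd (by rw [e]; simp) (hk 1 (one_mem _))
  · exact absurd (e ▸ let_mem _ 2 (by decide +kernel)) hA
  · rw [e] at hX hc
    have h1 : F.T ≤ C1 (F.e * F.z) := fun u hu => mem_C1.2 (hc u hu).symm
    exact ⟨fx.fz _ hz hX _ hT h1, h1⟩

theorem exists_sw [Finite Γ] (f : Fc1 F.toOW) (h : IsConj F.e (F.e * F.z))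
    (h1 : F.T ≤ C1 (F.e * F.z)) : ∃ k, Sw F k := by
  have : Fact (Nat.Prime 2) := ⟨Nat.prime_two⟩
  obtain ⟨k, hk⟩ := isConj_iff.1 h
  have hT : IsSylowIn 2 F.T (C1 F.e) := cent F ▸ f.sylT
  have h2 := hT.cj k
  rw [cj_centralizer_set, Set.image_singleton, hk] at h2
  obtain ⟨x, hx, e⟩ := (h2.of_card_ge hT.isPGroup h1 (card_cj _ _).le).exists_cj_eq h2
  rw [cj_cj] at e
  have hk' : x * k * F.e * (x * k)⁻¹ = F.e * F.z := by
    rw [← cj_of (mem_C1.1 hx), ← hk]; group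
  generalize x * k = m at e hk'
  refine ⟨m, of_cj hk', of_cj ?_⟩
  have hm : ∀ u ∈ F.T, m * u * m⁻¹ ∈ F.T := fun u hu => e ▸ conj_mem_cj.2 hu
  have TY : F.T ≤ F.Y := sub_le fun L hL => wv_mem_sub _ (by revert L; decide +kernel)
  have hc : ∀ u ∈ F.T, m * F.z * m⁻¹ * u = u * (m * F.z * m⁻¹) := by
    intro u hu
    have := cj_comm (k := m) (mem_C1.1 (Y_z _ (TY (mem_cj.1 (e.ge hu)))))
    simp only [mul_assoc, mul_inv_cancel_left, mul_inv_cancel, mul_one] at this ⊢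
    exact this.symm
  have hA : m * F.z * m⁻¹ ∈ F.A := by
    have := f.sqA _ (f.sylT.le (hm F.a3 (let_mem _ 10 (by decide +kernel))))
    rwa [conj_mul, (by ow F.toOW : F.a3 * F.a3 = F.z)] at this
  rcases f.cenQ _ (f.sylT.le (hm _ (let_mem _ 2 (by decide +kernel))))
    (hc _ (let_mem _ 2 (by decide +kernel)))
    (hc _ (let_mem _ 3 (by decide +kernel))) (hc _ (let_mem _ 4 (by decide +kernel)))
    (hc _ (let_mem _ 5 (by decide +kernel))) (hc _ (let_mem _ 10 (by decide +kernel)))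
    with e | e | e | e
  · exact absurd (conj_eq_one_iff.1 e : F.z = 1) (by change _ ≠ _; ow F.toOW)
  · exact absurd (A_le _ (e ▸ hA)) f.eAh
  · exact e
  · have hz : F.z ∈ F.A := let_mem _ 2 (by decide +kernel)
    exact absurd (A_le _ ((mul_mem_cancel_right hz).1 (e ▸ hA))) f.eAh

theorem Sw.p (f : Fc1 F.toOW) {k : Γ} (h : Sw F k) : ∃ k, Sw F k ∧ k * F.p = F.p * k := by
  rcases f.three _ (h.cjY f (x := F.p) (let_mem _ 14 (by decide +kernel))) (by
    rw [conj_mul, conj_mul, (by ow F.toOW : F.p * F.p * F.p = 1)]; group) with e | ⟨m, hm, e⟩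
  · exact absurd (by simpa using e : F.p = 1) (by change _ ≠ _; ow F.toOW)
  · exact ⟨m * k, h.mul (R1_le _ hm), by rw [← mul_assoc, ← e]; group⟩

theorem cube {k x p : Γ} (hp : k * p = p * k) (h : x * p * x * p * x * p = 1) :
    k * x * k⁻¹ * p * (k * x * k⁻¹) * p * (k * x * k⁻¹) * p = 1 := by
  rw [← cj_of hp]
  simp only [conj_mul]
  rw [h]; group

theorem Sw.t (f : Fc1 F.toOW) {k : Γ} (h : Sw F k) (hp : k * F.p = F.p * k) :
    ∃ k, Sw F k ∧ k * F.p = F.p * k ∧ k * F.t = F.t * k := by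
  rcases f.o3 _ (h.cjY f (x := F.t) (let_mem _ 4 (by decide +kernel))) (by
    rw [conj_mul, (by ow F.toOW : F.t * F.t = 1)]; group) (cube hp (by ow F.toOW))
    with e | ⟨m, hm, e1, e⟩
  · exact absurd e (h.nE f)
  · exact ⟨m * k, h.mul hm, by rw [mul_assoc, hp, as e1], by rw [← mul_assoc, ← e]; group⟩

theorem Sw.y (f : Fc1 F.toOW) {k : Γ} (h : Sw F k) (hp : k * F.p = F.p * k)
    (ht : k * F.t = F.t * k) (hr : k * F.r = F.r * k) : k * F.y = F.y * k := by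
  have h3 := cube hp (by ow F.toOW : F.y * F.p * F.y * F.p * F.y * F.p = 1)
  rcases f.o3 _ (h.cjY f (x := F.y) (let_mem _ 3 (by decide +kernel))) (by
    rw [conj_mul, (by ow F.toOW : F.y * F.y = 1)]; group) h3 with e | ⟨m, hm, -, e⟩
  · refine of_cj (f.o4 _ e h3 ?_ ?_)
    · have := cj_comm (k := k) (by ow F.toOW : F.y * F.t = F.t * F.y)
      rwa [cj_of ht] at this
    · have : k * F.y * k⁻¹ * (k * F.r * k⁻¹) = k * F.r * k⁻¹ * (k * F.z * k⁻¹) * (k * F.y * k⁻¹) := by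
        simp only [conj_mul]
        rw [(by ow F.toOW : F.y * F.r = F.r * F.z * F.y)]
      rwa [cj_of hr, cj_of h.z] at this
  · refine absurd ?_ ((h.mul hm).inv.nE f)
    have : (m * k)⁻¹ * F.t * (m * k)⁻¹⁻¹ = F.y := by
      rw [← cj_of e]; group
    rw [this]
    exact let_mem _ 3 (by decide +kernel)

/-- a normalized swapping element -/
structure Sq (F : OF Γ) (k : Γ) : Prop extends Sw F k where
  y : k * F.y = F.y * k
  t : k * F.t = F.t * k
  r : k * F.r = F.r * k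
  a3 : k * F.a3 = F.a3 * k
  p : k * F.p = F.p * k

theorem Sw.sq (f : Fc1 F.toOW) {k : Γ} (h : Sw F k) : ∃ k, Sq F k := by
  obtain ⟨k, h, hp⟩ := h.p f
  obtain ⟨k, h, hp, ht⟩ := h.t f hp
  have hr : k * F.r = F.r * k := by
    rw [(by ow F.toOW : F.r = F.p * F.t * F.p⁻¹)]
    exact Commute.mul_right (Commute.mul_right hp ht) (Commute.inv_right hp)
  have hy := h.y f hp ht hr
  refine ⟨k, h, hy, ht, hr, ?_, hp⟩
  rw [(by ow F.toOW : F.a3 = F.t * (F.p * F.y * F.p⁻¹))]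
  exact Commute.mul_right ht (Commute.mul_right (Commute.mul_right hp hy) (Commute.inv_right hp))

theorem dev {k m q w : Γ} (hq : k * q = q * k) (hw : k * w = w * k) (h : m * q = w * m) :
    m⁻¹ * (k * m * k⁻¹) * q = q * (m⁻¹ * (k * m * k⁻¹)) := by
  have h1 : k⁻¹ * q = q * k⁻¹ := Commute.inv_left hq
  have h2 : m⁻¹ * w = q * m⁻¹ := by rw [inv_mul_eq_iff_eq_mul, ← mul_assoc, h, mul_inv_cancel_right]
  simp only [mul_assoc]
  rw [h1, as h, as hw, as h2]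

theorem Sq.dev4 (f : Fc1 F.toOW) {k m : Γ} (h : Sq F k) (hm : m ∈ F.Y) {w1 w2 w3 w4 : Γ}
    (c1 : k * w1 = w1 * k) (c2 : k * w2 = w2 * k) (c3 : k * w3 = w3 * k) (c4 : k * w4 = w4 * k)
    (e1 : m * F.y = w1 * m) (e2 : m * F.t = w2 * m) (e3 : m * F.r = w3 * m)
    (e4 : m * F.a3 = w4 * m) : k * m * k⁻¹ = m ∨ k * m * k⁻¹ = m * F.e ∨ k * m * k⁻¹ = m * F.z ∨
      k * m * k⁻¹ = m * (F.e * F.z) := by
  have := f.cenQ _ (Y_le _ (mul_mem (inv_mem hm) (h.cjY f hm)))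
    (dev h.z h.z (mem_C1.1 (Y_z _ hm))) (dev h.y c1 e1) (dev h.t c2 e2) (dev h.r c3 e3)
    (dev h.a3 c4 e4)
  simpa only [inv_mul_eq_iff_eq_mul, mul_one] using this

theorem Sq.a1 (f : Fc1 F.toOW) {k : Γ} (h : Sq F k) (hc : IsConj F.e (F.e * F.z)) :
    k * F.a1 = F.a1 * k ∨ k * F.a1 = F.a1 * F.z * k := by
  have key : ∀ w, k * F.a1 * k⁻¹ = F.a1 * w → ∀ m, m * (F.e * F.z) = F.t * (F.a1 * w) * m →
      False := by
    intro w e m hm
    have h1 : IsConj F.z (F.t * F.a1) := conj_of_mul (k := F.g * F.p * F.g) (by ow F.toOW)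
    have h2 : IsConj (F.t * F.a1) (F.t * (F.a1 * w)) :=
      isConj_iff.2 ⟨k, by rw [← e, ← conj_mul, cj_of h.t]⟩
    exact nsq f (w := F.a3) ((hc.trans (conj_of_mul hm)).trans (h1.trans h2).symm) (by ow F.toOW)
  rcases h.dev4 f (m := F.a1) (let_mem _ 6 (by decide +kernel)) h.y
    (Commute.mul_right h.y h.t) (Commute.mul_right (Commute.mul_right h.y h.r) h.a3) h.a3
    (by ow F.toOW) (by ow F.toOW) (by ow F.toOW) (by ow F.toOW) with e | e | e | e
  · exact Or.inl (of_cj e)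
  · exact (key _ e (F.g * F.p * F.g) (by ow F.toOW)).elim
  · exact Or.inr (of_cj e)
  · exact (key _ e (F.a3 * (F.g * F.p * F.g)) (by ow F.toOW)).elim

theorem Sq.sq (f : Fc1 F.toOW) {k : Γ} (h : Sq F k) : k * k = 1 ∨ k * k = F.z := by
  have z1 : F.z ≠ 1 := by ow F.toOW
  have h1 : k * (k * k) = k * k * k := (mul_assoc _ _ _).symm
  rcases f.cenQ (k * k) (memC.2 (by rw [mul_assoc, h.e, ← mul_assoc, h.ez, mul_assoc]))
    (Commute.mul_left h.z h.z) (Commute.mul_left h.y h.y) (Commute.mul_left h.t h.t)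
    (Commute.mul_left h.r h.r) (Commute.mul_left h.a3 h.a3) with e | e | e | e
  · exact Or.inl e
  · rw [e, h.e] at h1
    exact absurd (by simpa using h1) z1
  · exact Or.inr e
  · rw [e, h.ez] at h1
    exact absurd (by simpa using h1) z1

theorem Sq.c (f : Fc1 F.toOW) {k : Γ} (h : Sq F k) :
    k * F.c * k⁻¹ = F.c ∨ k * F.c * k⁻¹ = F.c * F.z := by
  have h1 : k * (k * F.c * k⁻¹) * k⁻¹ = F.c := by
    have : k * k * F.c = F.c * (k * k) := by
      rcases h.sq f with e | e <;> rw [e] <;> ow F.toOW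
    refine Eq.trans ?_ (cj_of this); group
  rcases h.dev4 f (m := F.c) (let_mem _ 16 (by decide +kernel)) h.y h.t
    (Commute.mul_right h.t h.r) (Commute.mul_right h.y h.a3)
    (by ow F.toOW) (by ow F.toOW) (by ow F.toOW) (by ow F.toOW) with e | e | e | e
  · exact Or.inl e
  · rw [e, ← conj_mul, e, cj_of h.e] at h1
    exact absurd h1 (by change _ ≠ _; ow F.toOW)
  · exact Or.inr e
  · rw [e, ← conj_mul, e, cj_of h.ez] at h1
    exact absurd h1 (by change _ ≠ _; ow F.toOW)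

theorem Sq.ob {k : Γ} (h : Sq F k) (h2 : k * k = 1 ∨ k * k = F.z) (hc : k * F.c = F.c * k)
    (ha : k * F.a1 = F.a1 * k ∨ k * F.a1 = F.a1 * F.z * k) : ∃ b, Ob F b := by
  rcases h2 with h2 | h2
  · exact ⟨k, h2, h.e, h.z, h.y, h.t, h.r, h.a3, h.p, hc, ha⟩
  have cm : ∀ {q w : Γ}, k * q = w * k → F.e * q = q * F.e → k * F.e * q = w * (k * F.e) :=
    fun h1 h3 => by rw [mul_assoc, h3, as h1]
  refine ⟨k * F.e, ?_, cm h.e rfl, cm h.z (by ow F.toOW), cm h.y (by ow F.toOW),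
    cm h.t (by ow F.toOW), cm h.r (by ow F.toOW), cm h.a3 (by ow F.toOW), cm h.p (by ow F.toOW),
    cm hc (by ow F.toOW), ha.imp (cm · (by ow F.toOW)) (cm · (by ow F.toOW))⟩
  rw [← mul_assoc, h.e, mul_assoc _ k k, h2]
  ow F.toOW

end ObL

open ObL in
theorem OF.exists_ob [Finite Γ] (F : OF Γ) (f : Fc1 F.toOW) (tw : TwP Γ) {A : Subgroup Γ}
    {X : Γ → Prop} (fx : FX F.e A X) (hz : F.z ∈ A) :
    ∃ (F' : OF Γ) (b : Γ), F'.e = F.e ∧ Ob F' b := by
  obtain ⟨h1, h2⟩ := exists_sw0 f fx hz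
  obtain ⟨k, h⟩ := exists_sw f h1 h2
  obtain ⟨k, h⟩ := h.sq f
  rcases h.c f with e | e
  · obtain ⟨b, hb⟩ := h.ob (h.sq f) (of_cj e) (h.a1 f h1)
    exact ⟨F, b, rfl, hb⟩
  obtain ⟨F', hl, hc⟩ := tw F
  have l1 : F'.e = F.e := hl 1 (by decide)
  have l2 : F'.z = F.z := hl 2 (by decide)
  have l3 : F'.y = F.y := hl 3 (by decide)
  have l4 : F'.t = F.t := hl 4 (by decide)
  have l5 : F'.r = F.r := hl 5 (by decide)
  have l6 : F'.a1 = F.a1 := hl 6 (by decide)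
  have l10 : F'.a3 = F.a3 := hl 10 (by decide)
  have l14 : F'.p = F.p := hl 14 (by decide)
  have h' : Sq F' k := ⟨⟨by rw [l1, l2, h.e], by rw [l2, h.z]⟩, by rw [l3, h.y], by rw [l4, h.t],
    by rw [l5, h.r], by rw [l10, h.a3], by rw [l14, h.p]⟩
  obtain ⟨b, hb⟩ := h'.ob (by rw [l2]; exact h.sq f) (of_cj (by
    rw [hc, ← conj_mul, e, cj_of h.e]; ow F.toOW)) (by rw [l6, l2]; exact h.a1 f h1)
  exact ⟨F', b, l1, hb⟩

end Cfsg.Lib.M12S
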