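import Cfsg.Agent.M12S.Defs

/-! Standard subgroups isomorphic to `M₁₂`: facts on the subgroups of the frame. -/

set_option autoImplicit false
set_option maxRecDepth 100000
set_option linter.unusedSimpArgs false
set_option maxHeartbeats 1000000

namespace Cfsg.Lib.M12S

open Subgroup Cfsg.Lib.Gold Cfsg.Lib.Trans Cfsg.Lib.Co3M
open Cfsg.Lib.Spor Cfsg.Lib.Spor.Bulk Cfsg.Lib.Spor.PK Cfsg.Lib.Spor.WF

variable {G : Type*} [Group G]

/-- decide a formula in the model -/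
macro "owraw " F:term:max p:term : tactic =>
  `(tactic| (
    have hh := OW.holds $F (p := $p) (by decide +kernel)
    simp only [Fm.sem, wv_cons, wv_nil, one_mul, upd_apply, Nat.reduceEqDiff, ↓reduceIte,
      OW.l1 $F, OW.l2 $F, OW.l3 $F, OW.l4 $F, OW.l5 $F, OW.l6 $F, OW.l8 $F, OW.l10 $F, OW.l12 $F,
      OW.l14 $F, OW.l16 $F, OW.l17 $F] at hh
    exact hh))

namespace Fc1L

variable (F : OW G)

theorem le_C1 (W : List (List ℕ)) (l : ℕ)
    (h : ∀ L ∈ W, (bare MO).dec (.eq (l :: L) (L ++ [l])) = true) : sub F.g0 W ≤ C1 (F.g0 l) :=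
  sub_le fun L hL => mem_C1.2 (by
    have := w_eq MO_ok F.emb (h L hL)
    rwa [← w_mul, ← w_let, wv_cons] at this)

theorem le_of {W W' : List (List ℕ)} (h : ∀ L ∈ W, L ∈ W') : sub F.g0 W ≤ sub F.g0 W' :=
  sub_le fun L hL => wv_mem_sub _ (h L hL)

theorem cc : F.c * F.c = 1 := by ow F
theorem ee : F.e * F.e = 1 := by ow F

theorem ce {x : G} (h : x ∈ F.C) : x * F.e = F.e * x :=
  mem_C1.1 (le_C1 F _ 1 (by decide +kernel) h)

theorem A_le : F.A ≤ F.Ah := le_of F (by decide +kernel)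
theorem Ah_le : F.Ah ≤ F.C := le_of F (by decide +kernel)

theorem conj_e {x : G} (h : x ∈ F.C) : F.e * x * F.e = x := by
  rw [← ce F h, mul_assoc, ee, mul_one]

/-- the action of `c` on the letters -/
def cw : ℕ → List ℕ
  | 5 => [4, 5]
  | 6 => [2, 3, 6]
  | 7 => [7, 3, 2]
  | 8 => [2, 8]
  | 9 => [9, 2]
  | 10 => [3, 10]
  | 11 => [11, 3]
  | 14 => [15]
  | 15 => [14]
  | l => [l]

theorem cA' {x : G} (h : x ∈ F.A) : F.c * x * F.c⁻¹ ∈ F.A := by
  have : ∀ L ∈ MQ.W 2, (bare MO).dec (.eq (16 :: (L ++ [16])) (L.flatMap cw)) = true ∧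
      ∀ l ∈ L.flatMap cw, [l] ∈ MQ.W 2 := by decide +kernel
  refine conj_mem_sub (fun L hL => ?_) x h
  have e := w_eq MO_ok F.emb (this L hL).1
  rw [wv_cons, ← w_mul, ← w_let, F.l16] at e
  rw [inv_eq_of_mul_eq_one_right (cc F), e]
  exact wv_mem_of fun l hl => let_mem _ l ((this L hL).2 l hl)

theorem cA'' {x : G} (h : x ∈ F.A) : F.c * x * F.c ∈ F.A := by
  have := cA' F h
  rwa [inv_eq_of_mul_eq_one_right (cc F)] at this

theorem C_or {x : G} (h : x ∈ F.C) : x ∈ F.Ah ∨ F.e * x ∈ F.Ah :=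
  mem_or_mul_mem (ee F) (fun x hx => by rwa [conj_e F (Ah_le F hx)]) (fun L hL => by
    have : ∀ L ∈ MQ.W 0, L = [1] ∨ L ∈ MQ.W 1 := by decide +kernel
    exact (this L hL).imp (fun e => by rw [e]; exact F.ws.1.symm) (wv_mem_sub _)) h

theorem Ah_or {x : G} (h : x ∈ F.Ah) : x ∈ F.A ∨ F.c * x ∈ F.A :=
  mem_or_mul_mem (cc F) (fun _ => cA'' F) (fun L hL => by
    have : ∀ L ∈ MQ.W 1, L = [16] ∨ L ∈ MQ.W 2 := by decide +kernel
    exact (this L hL).imp (fun e => by rw [e]; exact (w_let _ _).symm) (wv_mem_sub _)) h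

theorem sqAh {x : G} (h : x ∈ F.Ah) : x * x ∈ F.A := by
  rcases Ah_or F h with a | a
  · exact mul_mem a a
  · have := mul_mem (cA'' F a) a
    simpa only [mul_assoc, as1 (cc F)] using this

theorem sqA {x : G} (h : x ∈ F.C) : x * x ∈ F.A := by
  rcases C_or F h with a | a
  · exact sqAh F a
  · have := sqAh F a
    rwa [← mul_assoc, conj_e F h] at this

theorem vA : F.v ∈ F.A := by
  have g : F.g ∈ F.A := let_mem _ 12 (by decide +kernel)
  have p : F.p ∈ F.A := let_mem _ 14 (by decide +kernel)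
  have q := inv_mem p
  rw [F.v_eq]
  repeat' first | assumption | apply mul_mem

theorem le_Ah {W : List (List ℕ)} (h : ∀ L ∈ W, L = [17] ∨ L ∈ MQ.W 1) : sub F.g0 W ≤ F.Ah :=
  sub_le fun L hL => (h L hL).elim (fun e => by rw [e, ← w_let]; exact A_le F (vA F)) (wv_mem_sub _)

theorem Cz_le : F.Cz ≤ F.Ah := le_Ah F (by decide +kernel)
theorem Ct_le : F.Ct ≤ F.Ah := le_Ah F (by decide +kernel)
theorem Cc_le : F.Cc ≤ F.Ah := le_Ah F (by decide +kernel)
theorem Cz_z : F.Cz ≤ C1 F.z := le_C1 F _ 2 (by decide +kernel)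
theorem Ct_t : F.Ct ≤ C1 F.t := le_C1 F _ 4 (by decide +kernel)
theorem Cc_c : F.Cc ≤ C1 F.c := le_C1 F _ 16 (by decide +kernel)
theorem Cc_t : F.Cc ≤ C1 F.t := le_C1 F _ 4 (by decide +kernel)

variable [Finite G]

theorem eAh : F.e ∉ F.Ah := fun h => by
  have : F.C ≤ F.Ah := fun x hx => (C_or F hx).elim id fun h' => (mul_mem_cancel_left h).1 h'
  have := Subgroup.card_le_of_le this
  rw [F.card_C, F.card_Ah] at this
  omega

theorem cA : F.c ∉ F.A := fun h => by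
  have : F.Ah ≤ F.A := fun x hx => (Ah_or F hx).elim id fun h' => (mul_mem_cancel_left h).1 h'
  have := Subgroup.card_le_of_le this
  rw [F.card_Ah, F.card_A] at this
  omega

theorem nA : F.C ≤ Ns F.A := sub_le fun L hL => by
  have : ∀ L ∈ MQ.W 0, L = [1] ∨ L = [16] ∨ L ∈ MQ.W 2 := by decide +kernel
  rcases this L hL with rfl | rfl | h
  · refine mem_normalizer_fintype fun n hn => ?_
    rwa [← w_let, F.l1, ← ce F (Ah_le F (A_le F hn)), mul_inv_cancel_right]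
  · exact mem_normalizer_fintype fun n hn => by rw [← w_let]; exact cA' F hn
  · exact le_normalizer (wv_mem_sub _ h)

theorem mem_of {H K : Subgroup G} {a x : G} (h1 : K ≤ H) (h2 : K ≤ C1 a)
    (h3 : Nat.card ↥(H ⊓ centralizer {a}) = Nat.card K) (hx : x ∈ H) (hc : x * a = a * x) :
    x ∈ K := by
  rw [eq_of_le_of_card_ge (le_inf h1 h2) h3.le]
  exact ⟨hx, mem_C1.2 hc⟩

theorem memY {x : G} (h : x ∈ F.C) (hc : x * F.z = F.z * x) : x ∈ F.Y :=
  mem_of (le_of F (by decide +kernel)) (le_C1 F _ 2 (by decide +kernel))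
    (F.card_cz.trans F.card_Y.symm) h hc

theorem memCz {x : G} (h : x ∈ F.Ah) (hc : x * F.z = F.z * x) : x ∈ F.Cz :=
  mem_of (Cz_le F) (Cz_z F) (F.card_hz.trans F.card_Cz.symm) h hc

theorem memCt {x : G} (h : x ∈ F.Ah) (hc : x * F.t = F.t * x) : x ∈ F.Ct :=
  mem_of (Ct_le F) (Ct_t F) (F.card_ht.trans F.card_Ct.symm) h hc

theorem memCc {x : G} (h : x ∈ F.Ah) (hc : x * F.c = F.c * x) : x ∈ F.Cc :=
  mem_of (Cc_le F) (Cc_c F) (F.card_hc.trans F.card_Cc.symm) h hc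

theorem memR1 {x : G} (h : x ∈ F.A) (hc : x * F.z = F.z * x) : x ∈ F.R1 := by
  have n : F.c ∈ Ns F.R1 := norm_of_dec MO_ok MO_subs (Hm.of_emb F.emb) [[16]] 9
    (by decide +kernel) (let_mem _ 16 (by decide +kernel))
  refine (mem_or_mul_mem (H := F.R1) (cc F) (fun x hx => ?_) (fun L hL => ?_)
    (memCz F (A_le F h) hc)).resolve_right fun h' => cA F ?_
  · have := (mem_normalizer_iff.1 n x).1 hx
    rwa [inv_eq_of_mul_eq_one_right (cc F)] at this
  · have : ∀ L ∈ MO.W 5, L = [16] ∨ L ∈ MO.W 9 := by decide +kernel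
    exact (this L hL).imp (fun e => by rw [e]; exact (w_let _ _).symm) (wv_mem_sub _)
  · exact (mul_mem_cancel_right h).1 (le_of F (W' := MQ.W 2) (by decide +kernel) h')

omit [Finite G] in
theorem rD : ∀ x ∈ F.Y, x * F.y = F.y * x → ∃ d ∈ F.D, x = d := by
  owraw F (.all 1 40 (.imp (.eq [3,40] [40,3]) (.ex 2 41 (.eq [40] [41]))))

omit [Finite G] in
theorem rQ : ∀ x ∈ F.Y, x * F.y = F.y * x → x * F.t = F.t * x → x * F.r = F.r * x →
    x * F.a3 = F.a3 * x → x = 1 ∨ x = F.e ∨ x = F.z ∨ x = F.e * F.z := by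
  owraw F (.all 1 40 (.imp (.eq [3,40] [40,3]) (.imp (.eq [4,40] [40,4]) (.imp (.eq [5,40] [40,5])
    (.imp (.eq [10,40] [40,10]) (.or (.eq [40] []) (.or (.eq [40] [1]) (.or (.eq [40] [2])
    (.eq [40] [2,1])))))))))

omit [Finite G] in
theorem r3 : ∀ x ∈ F.Y, x * x * x = 1 → x = 1 ∨ ∃ k ∈ F.R1, k * x = F.p * k := by
  owraw F (.all 1 40 (.imp (.eq [40,40,40] []) (.or (.eq [40] []) (.ex 9 41 (.eq [40,41] [41,14])))))

omit [Finite G] in
theorem ro3 : ∀ x ∈ F.Y, x * x = 1 → x * F.p * x * F.p * x * F.p = 1 →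
    (∃ d ∈ F.E, x = d) ∨ ∃ k ∈ F.Y, k * F.p = F.p * k ∧ k * x = F.t * k := by
  owraw F (.all 1 40 (.imp (.eq [40,40] []) (.imp (.eq [14,40,14,40,14,40] [])
    (.or (.ex 11 41 (.eq [40] [41])) (.ex 1 41 (.and (.eq [14,41] [41,14]) (.eq [40,41] [41,4])))))))

omit [Finite G] in
theorem ro4 : ∀ x ∈ F.E, x * F.p * x * F.p * x * F.p = 1 → x * F.t = F.t * x →
    x * F.r = F.r * F.z * x → x = F.y := by
  owraw F (.all 11 40 (.imp (.eq [14,40,14,40,14,40] []) (.imp (.eq [4,40] [40,4])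
    (.imp (.eq [5,40] [40,2,5]) (.eq [40] [3])))))

omit [Finite G] in
theorem rE : ∀ a ∈ F.E, ∀ b ∈ F.E, a * b = b * a := by
  owraw F (.all 11 40 (.all 11 41 (.eq [41,40] [40,41])))

omit [Finite G] in
theorem r12 : ∀ x ∈ F.Cz, x * F.p = F.p * x → x * x = 1 → x = 1 ∨ x = F.z := by
  owraw F (.all 5 40 (.imp (.eq [14,40] [40,14]) (.imp (.eq [40,40] [])
    (.or (.eq [40] []) (.eq [40] [2])))))

omit [Finite G] in
theorem r7 : ∀ x ∈ F.Ct, x * F.z = F.z * x → x * F.y = F.y * x → x * F.g = F.g * x →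
    x * F.v = F.v * x → x = 1 ∨ x = F.t ∨ x = F.c ∨ x = F.t * F.c := by
  owraw F (.all 6 40 (.imp (.eq [2,40] [40,2]) (.imp (.eq [3,40] [40,3]) (.imp (.eq [12,40] [40,12])
    (.imp (.eq [17,40] [40,17]) (.or (.eq [40] []) (.or (.eq [40] [4]) (.or (.eq [40] [16])
    (.eq [40] [16,4])))))))))

end Fc1L

open Fc1L

theorem OW.fc1 [Finite G] (F : OW G) : Fc1 F where
  C_or _ := C_or F
  Ah_or _ := Ah_or F
  eAh := eAh F
  cA := cA F
  ce _ := ce F
  nA := nA F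
  sqA _ := sqA F
  comA a ha b hb := by
    rw [show a * b * a⁻¹ * b⁻¹ = a * b * (a * b) * (b⁻¹ * (a⁻¹ * a⁻¹) * b⁻¹⁻¹) * (b⁻¹ * b⁻¹) by
      group]
    exact mul_mem (mul_mem (sqA F (mul_mem ha hb)) ((mem_normalizer_iff.1 (nA F (inv_mem hb)) _).1
      (sqA F (inv_mem ha)))) (sqA F (inv_mem hb))
  sylT := sylow_of_card (n := 8) (m := 1485) (le_of F (by decide +kernel)) F.card_T F.card_C
    (by norm_num)
  sylTh := sylow_of_card (n := 7) (m := 1485) (le_of F (by decide +kernel)) F.card_Th F.card_Ah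
    (by norm_num)
  sylT1 := sylow_of_card (n := 6) (m := 1485) (le_of F (by decide +kernel)) F.card_T1 F.card_A
    (by norm_num)
  memY _ := memY F
  memD x hx h1 h2 := by
    obtain ⟨d, hd, rfl⟩ := rD F x (memY F hx h1) h2
    exact hd
  memR1 _ := memR1 F
  memCz _ := memCz F
  memCt _ := memCt F
  memCc _ := memCc F
  cenQ x hx h1 := rQ F x (memY F hx h1)
  three := r3 F
  o3 x hx h1 h2 := (ro3 F x hx h1 h2).imp_left fun ⟨_, hd, e⟩ => e ▸ hd
  o4 := ro4 F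
  nE := norm_of_dec MO_ok MO_subs (Hm.of_emb F.emb) (MO.W 1) 11 (by decide +kernel)
  abE := rE F
  cz12 x hx h1 := r12 F x (memCz F hx h1)
  c7 x hx h1 h2 h3 := r7 F x (memCt F hx h3) h1 h2
  ct _ hx h := mem_C1.1 (Cc_t F (memCc F hx h))

end Cfsg.Lib.M12S
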