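import Cfsg.Agent.M12S.Fc1
import Cfsg.Agent.Bender.TwoRank

/-! Standard subgroups isomorphic to `M₁₂`: facts on the classes of the frame. -/

set_option autoImplicit false
set_option maxRecDepth 100000
set_option linter.unusedSimpArgs false
set_option maxHeartbeats 1000000
set_option linter.unusedSectionVars false
set_option linter.unusedVariables false

namespace Cfsg.Lib.M12S

open Subgroup Cfsg.Lib.Gold Cfsg.Lib.Trans Cfsg.Lib.Co3M
open Cfsg.Lib.Spor Cfsg.Lib.Spor.Bulk Cfsg.Lib.Spor.PK Cfsg.Lib.Spor.WF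

variable {G : Type*} [Group G]

namespace Fc2L

open Fc1L

theorem cmem {H : Subgroup G} {k x : G} (hk : k ∈ H) (hx : x ∈ H) : k * x * k⁻¹ ∈ H :=
  mul_mem (mul_mem hk hx) (inv_mem hk)

theorem back {k w u u' : G} (e : k * u = u' * k) (h : k * w * k⁻¹ = 1 ∨ k * w * k⁻¹ = u') :
    w = 1 ∨ w = u :=
  h.imp conj_eq_one_iff.1 fun h => by simpa using h.trans (cj_of e).symm

/-- the hypotheses of the fact on elements of order five -/
def P5 (x u s w : G) : Prop :=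
  x * x * x * x * x = 1 ∧ x ≠ 1 ∧ s * x = x * x * s ∧ x * u = u * x ∧ s * u = u * s ∧
    w * u = u * w ∧ w * x = x * w ∧ w * s = s * w

theorem P5.map {x u s w : G} (h : P5 x u s w) (φ : G ≃* G) : P5 (φ x) (φ u) (φ s) (φ w) := by
  simpa only [P5, ← map_mul, φ.map_eq_one_iff, Ne, φ.apply_eq_iff_eq] using h

theorem P5.red {H : Subgroup G} {k x u x' u' : G} (hk : k ∈ H) (e1 : k * x = x' * k)
    (e2 : k * u = u' * k) (h' : ∀ s ∈ H, ∀ w ∈ H, P5 x' u' s w → w = 1 ∨ w = u') :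
    ∀ s ∈ H, ∀ w ∈ H, P5 x u s w → w = 1 ∨ w = u := fun s hs w hw h =>
  back e2 (h' _ (cmem hk hs) _ (cmem hk hw) (cj_of e1 ▸ cj_of e2 ▸ h.map (MulAut.conj k)))

/-- the hypotheses of the fact on elements of order three -/
def P3 (x u i y w : G) : Prop :=
  x * x * x = 1 ∧ x ≠ 1 ∧ i * x = x * x * i ∧ y * y = 1 ∧ y ≠ 1 ∧ y * x * y * x * y * x = 1 ∧
    i * y = y * i ∧ x * u = u * x ∧ i * u = u * i ∧ y * u = u * y ∧ w * u = u * w ∧
    w * x = x * w ∧ w * i = i * w ∧ w * y = y * w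

theorem P3.map {x u i y w : G} (h : P3 x u i y w) (φ : G ≃* G) :
    P3 (φ x) (φ u) (φ i) (φ y) (φ w) := by
  simpa only [P3, ← map_mul, φ.map_eq_one_iff, Ne, φ.apply_eq_iff_eq] using h

theorem P3.red {H : Subgroup G} {k x u x' u' : G} (hk : k ∈ H) (e1 : k * x = x' * k)
    (e2 : k * u = u' * k) (h' : ∀ i ∈ H, ∀ y ∈ H, ∀ w ∈ H, P3 x' u' i y w → w = 1 ∨ w = u') :
    ∀ i ∈ H, ∀ y ∈ H, ∀ w ∈ H, P3 x u i y w → w = 1 ∨ w = u := fun i hi y hy w hw h =>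
  back e2 (h' _ (cmem hk hi) _ (cmem hk hy) _ (cmem hk hw)
    (cj_of e1 ▸ cj_of e2 ▸ h.map (MulAut.conj k)))

theorem one_of_odd {Y : Subgroup G} (hY : Odd (Nat.card Y)) {m : G} (hm : m ∈ Y) {k : ℕ}
    (h : m ^ 2 ^ k = 1) : m = 1 :=
  orderOf_eq_one_iff.1 (Nat.eq_one_of_dvd_coprimes ((Nat.coprime_two_left.2 hY).pow_left k)
    (orderOf_dvd_of_pow_eq_one h) (Subgroup.orderOf_dvd_natCard Y hm))

variable (F : OW G)

theorem rTh : ∀ x ∈ F.Th, x * x = 1 → x = 1 ∨ ∃ k ∈ F.Cz, k * x = F.z * k ∨ k * x = F.y * k ∨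
    k * x = F.t * k ∨ k * x = F.c * k ∨ k * x = F.t * F.a1 * k := by
  owraw F (.all 4 40 (.imp (.eq [40,40] []) (.or (.eq [40] []) (.ex 5 41 (.or (.eq [40,41] [41,2])
    (.or (.eq [40,41] [41,3]) (.or (.eq [40,41] [41,4]) (.or (.eq [40,41] [41,16])
    (.eq [40,41] [41,6,4])))))))))

theorem r5z : ∀ x ∈ F.Cz, x * x * x * x * x = 1 → x = 1 := by
  owraw F (.all 5 40 (.imp (.eq [40,40,40,40,40] []) (.eq [40] [])))

theorem r5t : ∀ x ∈ F.Ct, x * x * x * x * x = 1 → x = 1 ∨ ∃ k ∈ F.Ct, k * x = F.v * k := by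
  owraw F (.all 6 40 (.imp (.eq [40,40,40,40,40] []) (.or (.eq [40] [])
    (.ex 6 41 (.eq [40,41] [41,17])))))

theorem r5v : ∀ s ∈ F.Ct, s * F.v = F.v * F.v * s → ∀ w ∈ F.Ct, w * F.v = F.v * w →
    w * s = s * w → w = 1 ∨ w = F.t := by
  owraw F (.all 6 40 (.imp (.eq [17,40] [40,17,17]) (.all 6 41 (.imp (.eq [17,41] [41,17])
    (.imp (.eq [40,41] [41,40]) (.or (.eq [41] []) (.eq [41] [4])))))))

theorem r5c : ∀ x ∈ F.Cc, x * x * x * x * x = 1 → x = 1 ∨ ∀ s ∈ F.Cc, ¬ s * x = x * x * s := by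
  owraw F (.all 7 40 (.imp (.eq [40,40,40,40,40] []) (.or (.eq [40] [])
    (.all 7 41 (.not (.eq [40,41] [41,40,40]))))))

theorem r3z : ∀ w ∈ F.Cz, w * F.p = F.p * w → ∀ i ∈ F.Cz, i * F.p = F.p * F.p * i →
    w * i = i * w → w = 1 ∨ w = F.z := by
  owraw F (.all 5 40 (.imp (.eq [14,40] [40,14]) (.all 5 41 (.imp (.eq [14,41] [41,14,14])
    (.imp (.eq [41,40] [40,41]) (.or (.eq [40] []) (.eq [40] [2])))))))

theorem r3t : ∀ x ∈ F.Ct, x * x * x = 1 → x = 1 ∨ ∃ k ∈ F.Ct, k * x = F.g * k := by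
  owraw F (.all 6 40 (.imp (.eq [40,40,40] []) (.or (.eq [40] []) (.ex 6 41 (.eq [40,41] [41,12])))))

theorem r3c : ∀ x ∈ F.Cc, x * x * x = 1 → x = 1 ∨ ∃ k ∈ F.Cc, k * x = F.g * k := by
  owraw F (.all 7 40 (.imp (.eq [40,40,40] []) (.or (.eq [40] []) (.ex 7 41 (.eq [40,41] [41,12])))))

theorem r3g : ∀ y ∈ F.Ct, y * y = 1 → y * F.g * y * F.g * y * F.g = 1 → y = 1 ∨
    ∀ i ∈ F.Ct, i * F.g = F.g * F.g * i → i * y = y * i → ∀ w ∈ F.Ct, w * F.g = F.g * w →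
      w * y = y * w → w * i = i * w → w = 1 ∨ w = F.t := by
  owraw F (.all 6 40 (.imp (.eq [40,40] []) (.imp (.eq [12,40,12,40,12,40] []) (.or (.eq [40] [])
    (.all 6 41 (.imp (.eq [12,41] [41,12,12]) (.imp (.eq [40,41] [41,40]) (.all 6 42
    (.imp (.eq [12,42] [42,12]) (.imp (.eq [40,42] [42,40]) (.imp (.eq [41,42] [42,41])
    (.or (.eq [42] []) (.eq [42] [4])))))))))))))

theorem r3h : ∀ y ∈ F.Cc, y * y = 1 → y * F.g * y * F.g * y * F.g = 1 → y = 1 ∨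
    ∀ i ∈ F.Cc, i * F.g = F.g * F.g * i → ¬ i * y = y * i := by
  owraw F (.all 7 40 (.imp (.eq [40,40] []) (.imp (.eq [12,40,12,40,12,40] []) (.or (.eq [40] [])
    (.all 7 41 (.imp (.eq [12,41] [41,12,12]) (.not (.eq [40,41] [41,40]))))))))

theorem rq : ∀ x ∈ F.Cz, ∃ q ∈ F.Q, x * F.y = q * x := by
  owraw F (.all 5 40 (.ex 10 41 (.eq [3,40] [40,41])))

theorem r8 : ∀ x ∈ F.Cz, x * F.y = F.y * x → x * x * x * x * x * x * x * x = 1 := by
  owraw F (.all 5 40 (.imp (.eq [3,40] [40,3]) (.eq [40,40,40,40,40,40,40,40] [])))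

theorem rV : ∀ v ∈ F.V, v = 1 ∨ v = F.z ∨ v = F.y ∨ v = F.y * F.z := by
  owraw F (.all 3 40 (.or (.eq [40] []) (.or (.eq [40] [2]) (.or (.eq [40] [3]) (.eq [40] [2,3])))))

theorem gA : F.g ∈ F.Ah := let_mem _ 12 (by decide +kernel)
theorem pA : F.p ∈ F.Ah := let_mem _ 14 (by decide +kernel)
theorem cAh : F.c ∈ F.Ah := let_mem _ 16 (by decide +kernel)

variable {F} [Finite G] (f : Fc1 F)
include f

theorem cls0 {x : G} (hx : x ∈ F.Ah) (h2 : x * x = 1) :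
    x = 1 ∨ ∃ k ∈ F.Ah, k * x = F.z * k ∨ k * x = F.t * k ∨ k * x = F.c * k := by
  have : Fact (Nat.Prime 2) := ⟨Nat.prime_two⟩
  obtain ⟨m, hm, e⟩ := f.sylTh.exists_cj_le (Q := zpowers x) (isPGroup_of_pow (n := 1) (by
    rintro _ ⟨i, rfl⟩
    rw [← zpow_natCast, ← zpow_mul, mul_comm, zpow_mul, zpow_natCast, pow_one, pow_two, h2,
      one_zpow])) (zpowers_le.2 hx)
  rcases rTh F _ (cj_le_iff.1 e x (mem_zpowers x)) (by rw [conj_mul, h2, mul_one, mul_inv_cancel])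
    with h | ⟨k, hk, h⟩
  · exact Or.inl (conj_eq_one_iff.1 h)
  have key : ∀ {a j b : G}, k * (m * x * m⁻¹) = a * k → j * a = b * j →
      j * k * m * x = b * (j * k * m) := fun {a j b} h1 h2 =>
    calc _ = j * (k * (m * x * m⁻¹)) * m := by group
      _ = _ := by rw [h1, ← mul_assoc j, h2]; group
  have hk' := Cz_le F hk
  have g := inv_mem (gA F)
  refine Or.inr ?_
  rcases h with h | h | h | h | h
  · exact ⟨_, mul_mem (mul_mem (one_mem _) hk') hm, Or.inl (key h (by group))⟩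
  · exact ⟨_, mul_mem (mul_mem g hk') hm, Or.inl (key h (by ow F))⟩
  · exact ⟨_, mul_mem (mul_mem (one_mem _) hk') hm, Or.inr (Or.inl (key h (by group)))⟩
  · exact ⟨_, mul_mem (mul_mem (one_mem _) hk') hm, Or.inr (Or.inr (key h (by group)))⟩
  · exact ⟨_, mul_mem (mul_mem (mul_mem (mul_mem g (inv_mem (pA F))) g) hk') hm,
      Or.inl (key h (by ow F))⟩

theorem cls {x : G} (hx : x ∈ F.Ah) (h2 : x * x = 1) :
    x = 1 ∨ ∃ k ∈ F.A, k * x = F.z * k ∨ k * x = F.t * k ∨ k * x = F.c * k := by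
  refine (cls0 f hx h2).imp_right fun ⟨k, hk, h⟩ => (f.Ah_or k hk).elim (fun a => ⟨k, a, h⟩)
    fun a => ⟨_, a, ?_⟩
  have key : ∀ {w : G}, F.c * w = w * F.c → k * x = w * k → F.c * k * x = w * (F.c * k) :=
    fun h1 h2 => by rw [mul_assoc, h2, as h1]
  exact h.imp (key (by ow F)) (Or.imp (key (by ow F)) (key rfl))

theorem q5 {x u : G} (hx : x ∈ F.Ah) (hu : u = F.z ∨ u = F.t ∨ u = F.c) :
    ∀ s ∈ F.Ah, ∀ w ∈ F.Ah, P5 x u s w → w = 1 ∨ w = u := by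
  intro s hs w hw h
  rcases hu with rfl | rfl | rfl
  · exact absurd (r5z F x (f.memCz x hx h.2.2.2.1) h.1) h.2.1
  · obtain ⟨k, hk, e⟩ := (r5t F x (f.memCt x hx h.2.2.2.1) h.1).resolve_left h.2.1
    exact P5.red (Ct_le F hk) e (mem_C1.1 (Ct_t F hk)) (fun s hs w hw ⟨_, _, a, _, b, c, d, e⟩ =>
      r5v F s (f.memCt s hs b) a w (f.memCt w hw c) d e) s hs w hw h
  · exact absurd h.2.2.1 ((r5c F x (f.memCc x hx h.2.2.2.1) h.1).resolve_left h.2.1 s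
      (f.memCc s hs h.2.2.2.2.1))

theorem q3 {x u : G} (hx : x ∈ F.Ah) (hu : u = F.z ∨ u = F.t ∨ u = F.c) :
    ∀ i ∈ F.Ah, ∀ y ∈ F.Ah, ∀ w ∈ F.Ah, P3 x u i y w → w = 1 ∨ w = u := by
  intro i hi y hy w hw h
  have xu := h.2.2.2.2.2.2.2.1
  rcases hu with rfl | rfl | rfl
  · obtain ⟨k, hk, e⟩ := (f.three x (f.memY x (Ah_le F hx) xu) h.1).resolve_left h.2.1
    have hk' : k ∈ F.Cz := le_of F (by decide +kernel) hk
    exact P3.red (Cz_le F hk') e (mem_C1.1 (Cz_z F hk'))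
      (fun i hi y _ w hw ⟨_, _, a, _, _, _, _, _, b, _, c, d, e, _⟩ =>
        r3z F w (f.memCz w hw c) d i (f.memCz i hi b) a e) i hi y hy w hw h
  · obtain ⟨k, hk, e⟩ := (r3t F x (f.memCt x hx xu) h.1).resolve_left h.2.1
    exact P3.red (Ct_le F hk) e (mem_C1.1 (Ct_t F hk))
      (fun i hi y hy w hw ⟨_, _, a3, a4, a5, a6, a7, _, a9, b1, b2, b3, b4, b5⟩ =>
        (r3g F y (f.memCt y hy b1) a4 a6).resolve_left a5 i (f.memCt i hi a9) a3 a7 w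
          (f.memCt w hw b2) b3 b5 b4) i hi y hy w hw h
  · obtain ⟨k, hk, e⟩ := (r3c F x (f.memCc x hx xu) h.1).resolve_left h.2.1
    exact P3.red (Cc_le F hk) e (mem_C1.1 (Cc_c F hk))
      (fun i hi y hy w _ ⟨_, _, a3, a4, a5, a6, a7, _, a9, b1, _⟩ => absurd a7
        ((r3h F y (f.memCc y hy b1) a4 a6).resolve_left a5 i (f.memCc i hi a9) a3)) i hi y hy w hw h

theorem odd0 {Y : Subgroup G} (h : Y ≤ F.Ah) (ho : Odd (Nat.card Y)) (hy : F.y ∈ Ns Y) {n : G}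
    (hn : n ∈ Y) (hz : n * F.z = F.z * n) : n = 1 := by
  have nC := f.memCz n (h hn) hz
  obtain ⟨q, hq, e⟩ := rq F n nC
  have yQ : F.y ∈ F.Q := let_mem _ 3 (by decide +kernel)
  have m1 : q * F.y⁻¹ ∈ Y := by
    rw [← cj_of e, show n * F.y * n⁻¹ * F.y⁻¹ = n * (F.y * n⁻¹ * F.y⁻¹) by group]
    exact mul_mem hn ((mem_normalizer_iff.1 hy _).1 (inv_mem hn))
  have m2 := one_of_odd ho m1 (k := 5) (orderOf_dvd_iff_pow_eq_one.1
    ((Subgroup.orderOf_dvd_natCard _ (mul_mem hq (inv_mem yQ))).trans (by rw [F.card_Q]; norm_num)))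
  rw [mul_inv_eq_one.1 m2] at e
  exact one_of_odd ho hn (k := 3) (by simpa [pow_succ] using r8 F n nC e)

theorem odd1 {Y : Subgroup G} (h : Y ≤ F.Ah) (ho : Odd (Nat.card Y)) {k a b : G} (hk : k ∈ F.Ah)
    (e1 : k * a = F.z * k) (e2 : k * b = F.y * k) (hb : b ∈ Ns Y) :
    Y ⊓ centralizer {a} ≤ ⊥ := fun n hn =>
  conj_eq_one_iff.1 (odd0 f (cj_le_of_mem_of_le hk h) (by rwa [card_cj]) (by
    rw [Ns, ← cj_normalizer, ← cj_of e2]
    exact conj_mem_cj.2 hb) (conj_mem_cj.2 hn.1) (by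
    rw [← cj_of e1]
    exact cj_comm (mem_C1.1 hn.2)))

theorem noOdd {Y : Subgroup G} (h : Y ≤ F.Ah) (ho : Odd (Nat.card Y)) (hz : F.z ∈ Ns Y)
    (hy : F.y ∈ Ns Y) : Y = ⊥ := by
  have : Fact (Nat.Prime 2) := ⟨Nat.prime_two⟩
  refine le_bot_iff.1 (Bender.le_of_four_group (x := F.z) (y := F.y)
    (orderOf_eq_prime (by rw [pow_two]; ow F) (by ow F))
    (orderOf_eq_prime (by rw [pow_two]; ow F) (by ow F)) (by ow F) (by ow F) ho hz hy
    fun a ha o => ?_)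
  have : closure {F.z, F.y} ≤ F.V := (closure_le _).2 (Set.pair_subset
    (let_mem _ 2 (by decide +kernel)) (let_mem _ 3 (by decide +kernel)))
  rcases rV F a (this ha) with rfl | rfl | rfl | rfl
  · simp at o
  · exact odd1 f h ho (one_mem _) (by group) (by group) hy
  · exact odd1 f h ho (inv_mem (gA F)) (by ow F) (by ow F) (mul_mem hy hz)
  · exact odd1 f h ho (gA F) (by ow F) (by ow F) hz

end Fc2L

open Fc1L Fc2L

theorem OW.fc2 [Finite G] (F : OW G) (f : Fc1 F) : Fc2 F where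
  invA x hx h2 := (cls f (A_le F hx) h2).imp_right fun ⟨k, hk, h⟩ =>
    ⟨k, hk, h.imp_right fun h => h.resolve_right fun h => f.cA (cj_of h ▸ cmem hk hx)⟩
  invO x hx hn h2 := by
    have key : ∀ {k w : G}, k ∈ F.A → w ∈ F.A → k * x ≠ w * k := fun hk hw e =>
      hn ((mul_mem_cancel_left hk).1 (e ▸ mul_mem hw hk))
    obtain ⟨k, hk, h⟩ := (cls f hx h2).resolve_left fun e => hn (e ▸ one_mem _)
    exact ⟨k, hk, (h.resolve_left (key hk (let_mem _ 2 (by decide +kernel)))).resolve_left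
      (key hk (let_mem _ 4 (by decide +kernel)))⟩
  f5 x hx s hs u hu w hw a1 a2 a3 a4 a5 a6 a7 a8 a9 b1 := by
    obtain ⟨k, hk, h⟩ := (cls0 f hu a4).resolve_left a5
    exact P5.red hk (x' := k * x * k⁻¹) (u' := k * u * k⁻¹) (by group) (by group)
      (q5 f (cmem hk hx) (h.imp cj_of (Or.imp cj_of cj_of))) s hs w hw
      ⟨by simpa [pow_succ] using a1, a2, a3, a6.symm, a7.symm, a8.symm, a9, b1⟩
  f3 x hx i hi y hy u hu w hw a1 a2 a3 a4 a5 a6 a7 a8 a9 b1 b2 b3 b4 b5 b6 b7 := by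
    obtain ⟨k, hk, h⟩ := (cls0 f hu a8).resolve_left a9
    exact P3.red hk (x' := k * x * k⁻¹) (u' := k * u * k⁻¹) (by group) (by group)
      (q3 f (cmem hk hx) (h.imp cj_of (Or.imp cj_of cj_of))) i hi y hy w hw
      ⟨a1, a2, a3, a4, a5, a6, a7, b1.symm, b2.symm, b3.symm, b4.symm, b5, b6, b7⟩
  noOdd _ h ho hz hy := noOdd f h ho hz hy

end Cfsg.Lib.M12S
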