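import Cfsg.Agent.M12S.TopA

/-! Exporting fusion through an odd kernel. -/

set_option autoImplicit false

namespace Cfsg.Lib.M12S

open Subgroup Cfsg.Lib.Gold Cfsg.Lib.Trans Cfsg.Lib.Co3M

variable {G Γ : Type*} [Group G] [Group Γ]

theorem Into.eq_one {ρ : G →* Γ} (ho : Odd (Nat.card ρ.ker)) {a : G} (h : ρ a = 1)
    (h2 : ∃ n, a ^ 2 ^ n = 1) : a = 1 :=
  h2.elim fun n h2 => orderOf_eq_one_iff.1 (Nat.eq_one_of_dvd_coprimes
    ((Nat.coprime_two_left.2 ho).pow_left n) (orderOf_dvd_of_pow_eq_one h2)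
    (orderOf_dvd_of_pow_eq_one (HK.Lift.pow_card h)))

theorem Into.sec [Finite G] {ρ : G →* Γ} (hs : Function.Surjective ρ) (ho : Odd (Nat.card ρ.ker))
    {P : Subgroup Γ} (hP : IsPGroup 2 P) {a : G} (a2 : a * a = 1) (ha : ρ a ∈ P) :
    ∃ σ : P →* G, (∀ x, ρ (σ x) = x) ∧ σ ⟨ρ a, ha⟩ = a := by
  obtain ⟨S, hS, aS⟩ := exists_isSylowIn_ge (p := 2) (Q := closure {a}) (H := P.comap ρ)
    (isPGroup_closure (by rintro _ rfl _ rfl; rfl) (by rintro _ rfl; exact HK.Lift.four a2))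
    ((closure_le _).2 (Set.singleton_subset_iff.2 ha))
  have h1 := hS.map ρ
  rw [map_comap_eq_self_of_surjective hs] at h1
  let f : S →* P := (ρ.comp S.subtype).codRestrict P fun x => hS.le x.2
  let E := MulEquiv.ofBijective f ⟨(injective_iff_map_eq_one f).2 fun x hx =>
    Subtype.ext (Into.eq_one ho (congrArg Subtype.val hx)
      ((hS.isPGroup x).imp fun _ k => congrArg S.subtype k)), fun x => by
    obtain ⟨y, hy, k⟩ := (h1.eq_of_le hP h1.le le_rfl).le x.2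
    exact ⟨⟨y, hy⟩, Subtype.ext k⟩⟩
  exact ⟨S.subtype.comp E.symm.toMonoidHom, fun x => congrArg Subtype.val (E.apply_symm_apply x),
    congrArg Subtype.val (E.symm_apply_apply ⟨a, aS (subset_closure rfl)⟩)⟩

theorem Into.inj {H : Subgroup G} {ρ : H →* Γ} (ho : Odd (Nat.card ρ.ker)) {P : Type*} [Group P]
    (hP : IsPGroup 2 P) {j : P →* G} (hj : Function.Injective j) (g : G)
    (m : ∀ x, ((MulAut.conj g).toMonoidHom.comp j) x ∈ H) :
    Function.Injective (ρ.comp (MonoidHom.codRestrict _ H m)) :=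
  (injective_iff_map_eq_one _).2 fun x hx => by
    have := congrArg Subtype.val (Into.eq_one ho hx ((hP x).imp fun _ k => by
      rw [← map_pow, k, map_one]))
    exact (map_eq_one_iff ((MulAut.conj g).toMonoidHom.comp j)
      ((MulAut.conj g).injective.comp hj)).1 this

theorem LF.into [Finite G] {H : Subgroup G} {ρ : H →* Γ} {e : H} (h : LF H ρ e) :
    IntoP (ρ e) (LX ρ e) := by
  rintro _ P T hx ⟨a, rfl, c⟩ hP hle hT
  have := Finite.of_surjective ρ h.sj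
  obtain ⟨σ, h1, h2⟩ := Into.sec h.sj h.odd hP
    (Subtype.ext (TopA.sq c (congrArg Subtype.val h.e2))) hx
  obtain ⟨g, hg⟩ := isConj_iff.1 c.symm
  have m : ∀ x, ((MulAut.conj g).toMonoidHom.comp (H.subtype.comp σ)) x ∈ C1 (e : G) := fun x => by
    have : σ x * a = a * σ x := by
      rw [← h2, ← map_mul, ← map_mul]; exact congrArg σ (Subtype.ext (mem_C1.1 (hle x.2)))
    rw [mem_C1, ← hg]; exact cj_comm (congrArg Subtype.val this)
  have hi := Into.inj h.odd hP (H.subtype_injective.comp fun x y k =>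
    Subtype.ext (by rw [← h1, k, h1]) : Function.Injective (H.subtype.comp σ)) g
    fun x => h.cen (m x)
  obtain ⟨k, hk, kT⟩ := hT.exists_cj_le (hP.of_surjective _ (MonoidHom.rangeRestrict_surjective
    (ρ.comp (MonoidHom.codRestrict _ H fun x => h.cen (m x))))) (by
      rintro _ ⟨x, rfl⟩
      rw [mem_C1, MonoidHom.comp_apply, ← map_mul, ← map_mul]
      exact congrArg ρ (Subtype.ext (mem_C1.1 (m x))))
  refine ⟨(MulAut.conj k).toMonoidHom.comp _, (MulAut.conj k).injective.comp hi, ?_, ?_⟩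
  · rintro _ ⟨x, rfl⟩; exact kT ⟨_, ⟨x, rfl⟩, rfl⟩
  · refine Eq.trans ?_ (cj_of (mem_C1.1 hk))
    exact congrArg (fun w => k * ρ w * k⁻¹) (Subtype.ext
      ((congrArg (fun w : H => g * w * g⁻¹) h2).trans hg))

theorem LF.par [Finite G] {H : Subgroup G} {ρ : H →* Γ} {e : H} (h : LF H ρ e) (hp : ParP G) :
    ParX (ρ e) (LX ρ e) := by
  intro T R K he hT TR hR hK eK
  obtain ⟨σ, h1, h2⟩ := Into.sec h.sj h.odd hR h.e2 (TR he)
  let j := (H.subtype.comp σ).comp (inclusion TR)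
  have hj : Function.Injective j := (H.subtype_injective.comp fun x y k =>
    Subtype.ext (by rw [← h1, k, h1])).comp (inclusion_injective TR)
  have je : j ⟨_, he⟩ = e := congrArg Subtype.val h2
  obtain ⟨g, m, g1, g2⟩ := hp e j.range (H.subtype.comp σ).range ((K.comap ρ).map H.subtype)
    (congrArg Subtype.val h.e2) ⟨_, je⟩ (isSylowIn_of_maximal (by
      rintro _ ⟨x, rfl⟩
      rw [mem_C1, ← je, ← map_mul, ← map_mul]
      exact congrArg j (Subtype.ext (mem_C1.1 (hT.le x.2))))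
      (hT.isPGroup.of_surjective _ j.rangeRestrict_surjective) fun Q hQ TQ QC q hq => by
        have qT := (hT.eq_of_le ((isPGroup_subgroupOf hQ H).map ρ)
          (fun t ht => ⟨_, TQ ⟨⟨t, ht⟩, rfl⟩, h1 ⟨t, TR ht⟩⟩) (by
            rintro _ ⟨x, hx, rfl⟩
            rw [mem_C1, ← map_mul, ← map_mul]
            exact congrArg ρ (Subtype.ext (mem_C1.1 (QC hx))))).le
          (mem_map_of_mem ρ (show (⟨q, h.cen (QC hq)⟩ : H) ∈ Q.subgroupOf H from hq))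
        refine ⟨⟨_, qT⟩, (congrArg Subtype.val (inv_mul_eq_one.1 (Into.eq_one h.odd
          (a := (⟨q, h.cen (QC hq)⟩ : H)⁻¹ * σ ⟨_, TR qT⟩) (by
            rw [map_mul, map_inv, h1, inv_mul_cancel])
          ((hQ ⟨_, mul_mem (inv_mem hq) (TQ ⟨⟨_, qT⟩, rfl⟩)⟩).imp fun _ k =>
            Subtype.ext (congrArg Q.subtype k :))))).symm⟩)
    (by rintro _ ⟨x, rfl⟩; exact ⟨_, rfl⟩)
    (hR.of_surjective _ (MonoidHom.rangeRestrict_surjective _))
    (by
      rintro _ ⟨a, rfl⟩ _ ⟨b, rfl⟩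
      refine ⟨σ a * σ b * (σ a)⁻¹ * (σ b)⁻¹, ?_, rfl⟩
      simpa only [SetLike.mem_coe, mem_comap, map_mul, map_inv, h1] using hK _ a.2 _ b.2)
    (fun ⟨x, hx, k⟩ => eK (Subtype.ext k ▸ hx))
  have m' : ∀ x, ((MulAut.conj g).toMonoidHom.comp j) x ∈ H := fun x => by
    obtain ⟨r, k⟩ := m _ ⟨x, rfl⟩
    exact k.subst (motive := (· ∈ H)) (σ r).2
  have ev : ∀ x, ∃ r, σ r = MonoidHom.codRestrict _ H m' x := fun x =>
    (m _ ⟨x, rfl⟩).imp fun _ k => Subtype.ext k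
  have ee : (MonoidHom.codRestrict _ H m' ⟨_, he⟩ : G) = g * e * g⁻¹ := congrArg (g * · * g⁻¹) je
  refine ⟨_, Into.inj h.odd hT.isPGroup hj g m', ?_, ⟨_, rfl, isConj_iff.2 ⟨g, ee.symm⟩⟩,
    fun k => g1 ⟨_, k, ee⟩, fun k hk k' => g2 _ ⟨⟨k, hk⟩, rfl⟩ ?_⟩
  · rintro _ ⟨x, rfl⟩
    obtain ⟨r, k⟩ := ev x
    rw [MonoidHom.comp_apply, ← k, h1]; exact r.2
  · obtain ⟨r, k1⟩ := ev ⟨_, he⟩
    rw [MonoidHom.comp_apply, ← k1, h1] at k'
    rw [← ee, ← k1, ← show ⟨k, hk⟩ * ⟨_, TR he⟩ * (⟨k, hk⟩ : R)⁻¹ = r from Subtype.ext k',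
      map_mul, map_mul, map_inv, h2]; rfl

theorem LF.fx [Finite G] {H : Subgroup G} {ρ : H →* Γ} {e : H} (h : LF H ρ e) (hp : ParP G)
    {A : Subgroup Γ} (hz : FzP (ρ e) A (LX ρ e)) : FX (ρ e) A (LX ρ e) := by
  refine ⟨⟨e, rfl, IsConj.refl _⟩, ?_, h.into, h.par hp, hz⟩
  rintro k _ ⟨a, rfl, c⟩
  obtain ⟨k, rfl⟩ := h.sj k
  exact ⟨k * a * k⁻¹, by rw [map_mul, map_mul, map_inv], c.trans (isConj_iff.2 ⟨k, rfl⟩)⟩

end Cfsg.Lib.M12S
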