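import Cfsg.Agent.M12S.ObW1

/-! Standard subgroups isomorphic to `M₁₂`: one of the six models of the outer case dies. -/

set_option autoImplicit false
set_option maxRecDepth 100000
set_option linter.unusedSimpArgs false
set_option maxHeartbeats 1000000

namespace Cfsg.Lib.M12S

open Subgroup Cfsg.Lib.Spor Cfsg.Lib.Spor.Bulk Cfsg.Lib.Spor.PK Cfsg.Lib.Spor.WF
open Cfsg.Lib.Co3M Cfsg.Lib.Gold Cfsg.Lib.Trans

/-- permutation model -/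
@[reducible] def MKW1 : PM := ⟨MW1.w, MW1.n, csW1,
  [([[1],[2],[3],[4],[6],[8],[10],[15],[16],[5,1],[14,1],[17,1],[13,17,12,1]],
    [⟨0, [64, 130, 836, 901, 326, 587, 5068, 450, 1476, 1541, 646, 203, 5196, 261, 966, 5388, 522, 1611, 5324,
    5644, 6028, 5772, 5120, 5957, 5830, 5450, 5516, 5900, 6092, 5580, 5702], [[2, 9, 2], [12, 0, 9, 12, 0],
    [12, 10, 4, 12, 11], [11, 8, 5, 0]]⟩,
     ⟨6, [2176, 4673, 2434, 3075, 4803, 1282, 770], [[1, 3, 0], [3, 2], [0, 3, 2, 0], [3, 1, 0], [2, 3]]⟩,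
     ⟨3, [834], [[4], [2, 3], [1], [0]]⟩,
     ⟨11, [1408], [[1], [2], [3]]⟩,
     ⟨1, [450], [[0], [1]]⟩,
     ⟨4, [897], [[0]]⟩,
     ⟨8, [1472], []⟩]),
   ([[2],[3],[4],[6],[8],[10],[15],[16],[5,1],[14,1],[17,1],[13,17,12,1]],
    [⟨6, [768, 1027, 1988, 2053, 1288, 713, 3018, 1803, 1923, 1092, 1157, 2184, 1417, 3658, 3403, 2568, 3273, 3850,
    1739, 4040, 3530, 4296, 1866, 1225, 2890, 5003, 1667, 3332, 1354, 3587, 3461, 3912, 2825, 2443, 2696,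
    4168, 2376, 3786, 2760, 2121, 4362, 4555, 2250, 4872, 3721, 3083, 4232, 4105, 4938, 3145, 2312, 3977,
    4744, 2500, 3210, 2955, 4425, 4617, 2634, 4488, 4808, 5257, 4680], [[0, 8, 10, 7, 11, 8], [9, 4, 7, 11],
    [8, 9, 11, 8, 9, 10, 0], [10, 5, 1, 10, 0]]⟩,
     ⟨0, [5760, 5889, 128], [[1, 0], [2, 1], [1, 3, 0], [1, 2]]⟩,
     ⟨3, [832], [[3], [1], [2]]⟩,
     ⟨11, [1408], [[2], [0, 1]]⟩,
     ⟨1, [449], [[0]]⟩,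
     ⟨8, [1472], []⟩])]⟩

instance : NeZero MKW1.n := ⟨by decide⟩

theorem MKW1_ok : MKW1.ok = true := MW1_ok

theorem MKW1_subs : MKW1.subsOK = true := by decide +kernel

/-- classes -/
def MKW1_L : List KC :=
  [⟨[11],
    [⟨5, [640, 962, 260, 197, 6, 1610, 523, 6028, 580, 70, 6092, 900, 837, 134, 1483, 5836, 5964, 5580, 5068, 1540,
    454, 5708, 5452, 5760, 5317, 5382, 5196, 5892, 5510, 5642, 5132], [[1, 10, 12, 12, 4, 0], [9, 10, 6, 7, 6,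
    0], [0, 12, 10, 9, 6, 12, 10, 9, 10], [2, 7, 4, 9, 11, 0]]⟩,
     ⟨95, [5696, 5505, 5187], [[0, 2, 0], [3, 0, 1], [3, 3, 0]]⟩,
     ⟨56, [1408, 705, 3840], [[0, 1], [2], [0, 2, 0], [0, 0]]⟩,
     ⟨59, [3520], [[1], [2], [3]]⟩,
     ⟨36, [3970], [[0], [1]]⟩,
     ⟨68, [2880], [[0, 1]]⟩,
     ⟨30, [1024], []⟩],
    128, [],
    [], true, 0⟩,
   ⟨[],
    [⟨88, [5696, 5954, 6020, 5061, 5318, 5577, 6090, 5771, 972, 5125, 5190, 5513, 5387, 1548, 5828, 5899, 332, 268,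
    5450, 844, 12, 140, 588, 652, 1600, 900, 1483, 76, 524, 204, 453], [[0, 11, 12, 12, 9], [2, 4, 7, 11, 0],
    [10, 3, 0], [5, 12, 9, 12]]⟩,
     ⟨89, [5184, 5505, 6080], [[3, 1], [0, 0, 1, 1], [0, 0, 3, 0], [0, 2, 0]]⟩,
     ⟨30, [4032, 1025, 2369], [[0, 3, 0], [1, 3], [1, 2], [0, 1, 0]]⟩,
     ⟨51, [1664], [[1, 2, 0, 3], [1, 0, 3, 0, 3], [0, 3, 1, 1]]⟩,
     ⟨90, [5889], [[0], [2]]⟩,
     ⟨94, [5824], [[1]]⟩,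
     ⟨15, [320], []⟩],
    256, [],
    [], true, 0⟩,
   ⟨[8],
    [⟨14, [1536, 258, 324, 133, 198, 841, 459, 5644, 578, 644, 518, 1481, 971, 5900, 5, 75, 5964, 1610, 6028, 5388,
    5580, 5324, 5516, 5696, 5061, 6090, 5771, 5452, 5132, 5836, 5196], [[0, 9, 12, 10, 12, 6], [0, 12, 9, 12,
    11], [2, 11, 12, 6, 12, 0], [2, 11, 9, 5, 0]]⟩,
     ⟨23, [513, 1538, 578], [[1, 2, 0, 2, 1], [2, 2, 1], [1, 2, 3], [3, 2, 1]]⟩,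
     ⟨11, [2688, 1409, 4226], [[2], [0, 2, 3, 0], [0, 0], [0, 1, 1, 1]]⟩,
     ⟨20, [2177], [[0], [1, 3], [2]]⟩,
     ⟨0, [129], [[0], [1, 2]]⟩,
     ⟨1, [449], [[0]]⟩,
     ⟨18, [2048], []⟩],
    256, [[0],[9],[11],[12,8,9,12]],
    [⟨0, [64, 578, 835, 194, 1539, 256, 513, 322, 1603, 1472, 897, 642, 963, 130, 451], [[2, 0, 3], [3, 0, 3, 3, 1,
    2], [2, 1, 3, 0]]⟩,
     ⟨3, [256, 833, 898], [[2], [1, 0, 0]]⟩,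
     ⟨4, [896], [[0, 1]]⟩,
     ⟨6, [768], []⟩], false, 32⟩,
   ⟨[10],
    [⟨61, [3200, 4865, 4740, 4549, 4358, 3017, 1291, 2764, 4481, 4804, 4613, 4422, 3721, 4235, 2508, 4932, 4997,
    2886, 3657, 2187, 4300, 3529, 4043, 4172, 3593, 5258, 2380, 3465, 2954, 2826, 2059, 2444, 1216, 2565, 393,
    2688, 1161, 4676, 4108, 2633, 3979, 2124, 2249, 2316, 715, 1868, 3401, 1673, 3785, 3849, 3084, 777, 1931,
    1993, 3145, 1097, 1354, 1419, 1029, 3339, 1804, 3273, 1737], [[9, 12, 6, 9, 5, 0], [0, 12, 11, 10, 5], [0,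
    10], [0, 6, 9, 2, 12, 9, 1]]⟩,
     ⟨66, [2688], [[0, 0], [3, 0], [1, 0], [0, 2]]⟩,
     ⟨84, [5056, 1603, 643], [[0, 3, 3], [1], [0, 3, 1, 3], [0, 3, 2, 3]]⟩,
     ⟨88, [5953], [[1, 2], [0], [3]]⟩,
     ⟨80, [5440], [[1], [0, 2]]⟩,
     ⟨81, [5505], [[0]]⟩,
     ⟨43, [4288], []⟩],
    256, [[2],[8],[0,9],[0,11],[0,4,10]],
    [⟨0, [128, 66, 259, 836, 450, 899, 196, 515, 1476, 964, 1538, 324, 578, 1602, 644], [[2, 4, 0, 3, 2], [0, 1],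
    [2, 4, 1, 4, 2]]⟩,
     ⟨1, [640, 449, 1601], [[1, 2], [0, 0]]⟩,
     ⟨6, [768], [[0, 1]]⟩,
     ⟨11, [1408], []⟩], true, 80⟩,
   ⟨[10,8,11,8,11],
    [⟨24, [896, 578, 644, 453, 518, 1481, 971, 5900, 258, 324, 133, 198, 841, 5644, 1604, 69, 5772, 6092, 5516, 11,
    5452, 5132, 5836, 5700, 5323, 5964, 6028, 5388, 5580, 5061, 5196], [[0, 6, 8, 9, 0], [6, 11, 6, 10, 4],
    [11, 4, 0], [0, 12, 5, 9, 12, 9, 0]]⟩,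
     ⟨14, [256, 833, 194], [[0, 1, 1, 0], [2, 1, 0], [3, 1], [1, 2]]⟩,
     ⟨20, [2049, 2178, 1153], [[0], [3], [1, 2, 1], [1, 0, 1]]⟩,
     ⟨30, [1025], [[0], [1, 3], [1, 2]]⟩,
     ⟨31, [1089], [[0], [2]]⟩,
     ⟨77, [4736], [[1]]⟩,
     ⟨38, [3072], []⟩],
    256, [[2],[8],[0,10],[11,9],[12,9,12,0]],
    [⟨0, [128, 579, 1539], [[3, 2, 3], [0, 1], [3, 1, 3], [3, 4], [0, 3, 0, 3], [2]]⟩,
     ⟨1, [448], [[0, 3, 0, 3, 0, 3], [0, 3, 0, 3, 0, 1], [4, 0, 3, 0, 3], [5, 5, 5], [0, 2, 0, 1, 4]]⟩,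
     ⟨3, [832], [[1, 1, 4], [1, 1, 2], [1, 4, 4], [0, 3, 2, 2]]⟩,
     ⟨8, [1475], [[0], [2], [1]]⟩,
     ⟨11, [1409], [[1, 2], [0]]⟩,
     ⟨4, [896], [[1]]⟩,
     ⟨6, [768], []⟩], true, 144⟩,
   ⟨[9],
    [⟨91, [5888, 6018, 5636, 5573, 5062, 6091, 908, 5762, 5700, 5509, 5126, 5323, 1612, 5956, 5382, 268, 972, 5451,
    140, 5195, 844, 588, 1536, 324, 198, 459, 652, 524, 76, 12, 1477], [[5, 11, 10, 6], [12, 4, 9, 12, 2], [0,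
    11, 8, 5], [0, 4, 9, 11, 2]]⟩,
     ⟨90, [5120, 5442, 5888], [[2, 1, 2, 0], [0, 2], [0, 1], [0, 3]]⟩,
     ⟨14, [832, 257, 194], [[1, 2, 0], [0, 0], [0, 3, 1], [0, 1, 0]]⟩,
     ⟨50, [4480], [[2], [0, 1], [0, 3]]⟩,
     ⟨36, [3968], [[1], [0, 2]]⟩,
     ⟨74, [4929], [[0]]⟩,
     ⟨17, [1984], []⟩],
    256, [[0],[7],[8],[10],[11,9,12,9,12]],
    [⟨0, [64, 129, 452], [[1, 2, 4, 4, 1], [1, 3, 1, 0, 4, 3, 1], [1, 3, 1, 0, 0, 4], [0, 3, 0, 4], [1, 3, 1, 0, 0,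
    2, 0], [4, 1, 0, 4, 2, 1, 0]]⟩,
     ⟨1, [448], [[0, 1, 0, 1, 0, 3], [0, 2, 0, 1, 0, 3], [0, 3, 0, 2, 0, 5], [0, 1, 0, 3, 0, 4], [0, 4, 0, 3, 0,
    3]]⟩,
     ⟨3, [832], [[0, 2, 0, 1, 0, 2], [3, 0, 2, 0, 1], [4, 0, 2, 3], [0, 1, 0, 1, 3]]⟩,
     ⟨8, [1473], [[1, 2], [0], [3]]⟩,
     ⟨4, [897], [[0], [2]]⟩,
     ⟨6, [768], [[1]]⟩,
     ⟨11, [1408], []⟩], true, 144⟩]

theorem MKW1_cds : C3R.cdsB MKW1 (MKW1.W 0) (2 ^ 12 * 2) (MKW1_L.map (KC.cd MKW1)) = true := by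
  decide +kernel

theorem MKW1_cnt : cnt MKW1 [0,6,3,4,11,1,8] 1 (.eq [40, 1, 40, 1] []) 224 = true := by
  decide +kernel

theorem MKW1_iv : ∀ a ∈ MKW1_L, a.ok MKW1 [0,6,3,4,11,1,8] (256, 72, 16) = true := by
  decide +kernel

theorem killW1 {Γ : Type*} [Group Γ] [Finite Γ] {F : OF Γ} {b f : Γ} {A : Subgroup Γ}
    {X : Γ → Prop} (fx : FX F.e A X) (h : Sat (gN F b f) 18 iB rW1) : False :=
  n3_kill fx MKW1_ok MKW1_subs MW1_base (MW1_emb h :) (by decide +kernel) MKW1_cds MKW1_cnt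
    MKW1_iv

end Cfsg.Lib.M12S
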