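import Cfsg.Agent.M12S.ObW2

/-! Standard subgroups isomorphic to `M₁₂`: one of the six models of the outer case dies. -/

set_option autoImplicit false
set_option maxRecDepth 100000
set_option linter.unusedSimpArgs false
set_option maxHeartbeats 1000000

namespace Cfsg.Lib.M12S

open Subgroup Cfsg.Lib.Spor Cfsg.Lib.Spor.Bulk Cfsg.Lib.Spor.PK Cfsg.Lib.Spor.WF
open Cfsg.Lib.Co3M Cfsg.Lib.Gold Cfsg.Lib.Trans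

/-- permutation model -/
@[reducible] def MKW2 : PM := ⟨MW2.w, MW2.n, csW2,
  [([[1],[2],[3],[4],[6],[8],[10],[15],[16],[5,1],[14,1],[17,1],[13,17,12,1]],
    [⟨0, [64, 130, 836, 901, 326, 587, 450, 1412, 1477, 646, 203, 261, 966, 522, 1547], [[4, 10, 8, 11], [11, 12,
    6], [9], [0, 5, 9, 12]]⟩,
     ⟨6, [1024, 1857, 1282, 2883, 768, 1921, 2306, 2435, 2051, 2561, 1155, 1792, 1089, 2179, 3008], [[0, 2, 3, 1],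
    [0, 0, 3, 3, 0], [3, 1, 3, 1], [3, 0, 3], [1, 2, 0, 3]]⟩,
     ⟨3, [834], [[3], [1], [4], [0]]⟩,
     ⟨11, [1347], [[2], [0], [1]]⟩,
     ⟨1, [450], [[0], [1]]⟩,
     ⟨4, [896], [[1]]⟩,
     ⟨8, [1408], []⟩]),
   ([[2],[3],[4],[6],[8],[10],[15],[16],[5,1],[14,1],[17,1],[13,17,12,1]],
    [⟨6, [768, 1027, 1860, 1925, 1288, 713, 2506, 1739, 1795, 1092, 1157, 2056, 1353, 2312, 2633, 1674, 2888, 2568,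
    1225, 2827, 1603, 2692, 2760, 2376, 3016, 2184, 2440, 1993, 2123, 2953, 2250], [[4, 11, 9, 3], [3, 9, 6,
    10, 3], [3, 10, 4, 9], [4, 8, 11, 9, 8]]⟩,
     ⟨0, [320, 193, 259, 128, 897, 832, 962], [[3, 0, 1], [3, 2, 0], [1, 0, 3], [3, 2, 2, 3]]⟩,
     ⟨3, [832], [[1], [0, 2], [3]]⟩,
     ⟨11, [1344], [[2], [0, 1]]⟩,
     ⟨1, [448], [[1]]⟩,
     ⟨8, [1408], []⟩])]⟩

instance : NeZero MKW2.n := ⟨by decide⟩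

theorem MKW2_ok : MKW2.ok = true := MW2_ok

theorem MKW2_subs : MKW2.subsOK = true := by decide +kernel

/-- classes -/
def MKW2_L : List KC :=
  [⟨[],
    [⟨14, [1472, 258, 324, 133, 198, 841, 459, 578, 644, 518, 1417, 971, 5, 75, 1546], [[6, 7, 9], [4, 10, 7, 11,
    2], [6, 12, 6, 0], [0, 11, 8, 4, 2]]⟩,
     ⟨23, [1409, 1538, 66, 579, 449, 641, 513], [[1, 3, 1, 0, 3], [1, 2, 1, 0, 1, 2], [1, 3, 0, 1, 3], [2, 1, 3,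
    2]]⟩,
     ⟨5, [0, 129, 963], [[3, 2, 1], [3, 0, 1], [3, 1, 0], [0, 3, 0]]⟩,
     ⟨10, [1536], [[3], [0, 1], [0, 2]]⟩,
     ⟨40, [2432], [[1], [0, 2]]⟩,
     ⟨43, [2368], [[0, 1]]⟩,
     ⟨29, [1088], []⟩],
    256, [],
    [], true, 0⟩,
   ⟨[8],
    [⟨14, [1472, 258, 324, 133, 198, 841, 459, 578, 644, 518, 1417, 971, 5, 75, 1546], [[0, 9, 12, 5, 11, 3, 12,
    6], [4, 10, 12, 11, 9, 12, 6], [4, 10, 6, 12, 6, 4, 11, 6, 0], [0, 11, 9, 4, 6, 8, 9]]⟩,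
     ⟨22, [1472, 513, 642, 579, 450, 1538, 65], [[2, 1, 0, 2, 0], [3, 0], [1, 2, 2], [1, 2, 0, 2]]⟩,
     ⟨42, [2240, 2945, 1667], [[0, 3, 2], [3, 1, 2], [0, 2], [1, 3, 0]]⟩,
     ⟨45, [2176], [[0, 1], [0, 2], [3]]⟩,
     ⟨29, [1088], [[0, 2], [0, 1]]⟩,
     ⟨44, [2112], [[1]]⟩,
     ⟨39, [1728], []⟩],
    256, [[0],[9],[11],[12,9,12]],
    [⟨0, [64, 578, 835, 194, 1475, 256, 513, 322, 643, 1408, 897, 1538, 963, 131, 451], [[3, 2, 3, 3, 0], [1], [2,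
    3, 2, 2, 0]]⟩,
     ⟨3, [256, 832, 896], [[0, 0, 0, 2], [0, 1]]⟩,
     ⟨4, [897], [[0]]⟩,
     ⟨6, [768], []⟩], true, 88⟩,
   ⟨[10],
    [⟨11, [384, 1345, 1604, 2693, 2502, 1225, 1100, 769, 1028, 1861, 1926, 1289, 1740, 2628, 1669, 1993, 2249,
    1802, 1164, 2825, 2761, 2571, 2185, 2057, 2313, 2889, 2377, 2953, 2121, 2443, 3018], [[4, 12, 4, 10, 5],
    [1, 9, 11, 12, 9, 4], [1, 5, 11, 5, 0], [0, 6, 11], [0, 12, 9, 3, 11, 9, 0]]⟩,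
     ⟨39, [1731], [[1], [2], [3, 0, 3], [4, 3]]⟩,
     ⟨30, [1856, 769, 1025, 1155, 1794, 386, 1088], [[3, 0], [0, 3, 2, 3], [0, 1, 2, 3, 1, 0], [1, 2, 2, 1]]⟩,
     ⟨43, [2368], [[2], [0, 3], [0, 1]]⟩,
     ⟨2, [1], [[1, 2], [0]]⟩,
     ⟨13, [192], [[0, 1]]⟩,
     ⟨6, [768], []⟩],
    1024, [],
    [], true, 0⟩,
   ⟨[1,10],
    [⟨29, [2688, 1089, 1156, 773, 1030, 2889, 1674, 2635, 1732, 1349, 1606, 2825, 1924, 389, 1798, 2185, 2441, 716,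
    2057, 2508, 2313, 1228, 2121, 2953, 2377, 1993, 2249, 3019, 2569, 1289, 2762], [[1, 6, 12, 0], [4, 9, 10,
    11, 9, 5], [6, 12, 10], [5, 9, 12, 9, 10], [10, 9, 12, 9, 1]]⟩,
     ⟨30, [1152], [[0, 2, 0], [0, 3], [4, 0], [0, 1]]⟩,
     ⟨12, [384], [[1], [0, 3], [0, 2]]⟩,
     ⟨10, [1408, 513, 1536], [[1, 2, 0], [1, 0], [2]]⟩,
     ⟨22, [512], [[2], [0, 1], [0, 0]]⟩,
     ⟨33, [2240, 2818, 2946], [[0, 1]]⟩,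
     ⟨44, [], [[0]]⟩,
     ⟨4, [896], []⟩],
    512, [],
    [], true, 0⟩,
   ⟨[0,10],
    [⟨22, [832, 514, 452, 645, 582, 1481, 202, 139, 12, 325, 262, 905, 1547, 68, 970], [[0, 11, 1, 5], [10, 2, 0],
    [2, 4, 12, 0], [0, 9, 6, 10]]⟩,
     ⟨24, [640, 451, 67], [[0, 3, 3], [0, 3, 2, 3, 0], [2, 0], [1]]⟩,
     ⟨1, [448], [[1], [0, 3], [0, 2]]⟩,
     ⟨9, [], [[0], [1], [2]]⟩,
     ⟨34, [1280, 2049, 2880], [[2, 1, 0, 1, 0], [0, 2, 0, 2], [1, 1, 1, 0, 0, 2, 0]]⟩,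
     ⟨47, [2306], [[0], [2, 0, 2], [1]]⟩,
     ⟨16, [1920, 1153, 1793], [[2]]⟩,
     ⟨28, [], [[0]]⟩,
     ⟨33, [2816], []⟩],
    1024, [],
    [], true, 0⟩,
   ⟨[11,6],
    [⟨9, [256, 1474, 1540, 69, 1414, 521, 331, 898, 964, 5, 838, 201, 644, 453, 139], [[0, 9, 10, 6, 11, 12, 4],
    [0, 4, 3, 10, 4, 11, 4, 0], [11, 12, 4, 0, 2, 11, 5], [2, 12, 10, 4, 9, 6, 2]]⟩,
     ⟨23, [], [[0], [1], [2], [3]]⟩,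
     ⟨6, [2304, 1857, 1090, 3011, 2561, 2432, 769], [[0, 1, 3, 2, 1], [2, 1, 3, 1, 0], [2, 2, 2, 1], [3, 2, 0, 1]]⟩,
     ⟨29, [1088], [[0, 2], [1], [3]]⟩,
     ⟨40, [3009, 2304, 2433], [[1, 1, 2, 1], [1, 0, 1], [1, 0, 2]]⟩,
     ⟨16, [1793], [[1, 2], [0]]⟩,
     ⟨30, [], [[0], [1]]⟩,
     ⟨41, [1601], [[0]]⟩,
     ⟨42, [1664], []⟩],
    512, [],
    [], true, 0⟩,
   ⟨[1,11],
    [⟨4, [576, 898, 964, 5, 838, 201, 75, 1474, 1540, 1414, 521, 331, 133, 459, 650], [[4, 10, 6, 12, 6], [0, 6,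
    10, 9], [5, 0, 12, 6], [5, 11, 0]]⟩,
     ⟨15, [129, 322, 0], [[2, 1, 1], [0], [1, 0, 2, 0, 1], [3]]⟩,
     ⟨1, [512, 1474, 1539, 642, 1411, 576, 451], [[1, 0], [3, 1, 2], [0, 2, 1, 3, 0], [0, 2, 3]]⟩,
     ⟨7, [], [[0], [1], [2], [3]]⟩,
     ⟨31, [1217], [[1, 2], [0], [3]]⟩,
     ⟨44, [2113], [[2], [0]]⟩,
     ⟨10, [1536], [[1]]⟩,
     ⟨24, [], [[0]]⟩,
     ⟨12, [384], []⟩],
    512, [],
    [], true, 0⟩,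
   ⟨[11],
    [⟨28, [2624, 1025, 772, 1925, 1862, 3017, 1610, 2699, 1348, 2501, 2953, 388, 1157, 1094, 2313, 1675, 2057,
    1739, 2569, 715, 2889, 2250, 2764, 2825, 1993, 1289, 2441, 2185, 2380, 2121, 1225], [[9, 8, 9, 9, 12, 10,
    9, 5], [1, 11, 9, 12, 9, 6, 5, 12, 4, 0], [1, 6, 9, 11, 9, 6, 0, 0, 4, 12, 11, 0], [4, 11, 2, 5, 0, 9, 10,
    12, 9, 1], [1, 6, 10, 12, 4, 1, 9, 12, 6, 9, 12, 6]]⟩,
     ⟨30, [1152], [[0, 3], [0, 2, 0], [0, 1], [0, 4, 0]]⟩,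
     ⟨45, [3008, 2561, 1282, 2051, 2434, 2306, 2178], [[2, 0, 1], [3, 2, 1, 2, 0], [3, 1, 0], [0, 2, 0, 1, 0]]⟩,
     ⟨43, [2368], [[0, 2], [0, 3], [1]]⟩,
     ⟨46, [2242], [[0], [1]]⟩,
     ⟨11, [1345], [[0]]⟩,
     ⟨27, [], [[0]]⟩,
     ⟨41, [1600], []⟩],
    512, [],
    [], true, 0⟩,
   ⟨[0,11],
    [⟨0, [64, 130, 836, 901, 326, 587, 450, 1412, 1477, 646, 203, 261, 966, 522, 1547], [[4, 11, 8, 10, 6], [0, 4,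
    9, 6, 11], [2, 6, 12, 10, 6], [0, 5, 12, 6, 2]]⟩,
     ⟨13, [192, 897, 257], [[0, 3], [0, 1, 1], [0, 1, 2, 1], [1, 3, 1]]⟩,
     ⟨23, [64, 513, 1538, 576, 1410, 640, 448], [[0, 3], [1, 1], [2, 3, 2, 0], [1, 0, 2]]⟩,
     ⟨7, [64], [[0, 2], [1], [3]]⟩,
     ⟨11, [1344], [[0, 2], [0, 1]]⟩,
     ⟨39, [], [[0], [1]]⟩,
     ⟨18, [1921], [[0]]⟩,
     ⟨28, [], [[0]]⟩,
     ⟨12, [384], []⟩],
    512, [],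
    [], true, 0⟩,
   ⟨[0,10,8,11,8,11],
    [⟨5, [640, 962, 260, 197, 6, 1546, 523, 580, 70, 900, 837, 134, 1419, 1476, 454], [[0, 4, 9, 10, 5], [0, 4,
    11], [2, 5, 12, 5, 0], [11, 5, 10]]⟩,
     ⟨14, [832, 257, 195], [[0, 3, 2, 0, 3, 1], [2, 1, 1], [2, 3, 1], [0, 3, 3, 3, 0, 0, 3, 1, 0]]⟩,
     ⟨19, [1984, 2819, 2115], [[1], [0, 3, 2, 3, 0], [2, 0]]⟩,
     ⟨32, [2880, 2177, 1280], [[2], [0, 1], [0, 2, 0]]⟩,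
     ⟨8, [1410], [[0], [1]]⟩,
     ⟨16, [1792], [[1]]⟩,
     ⟨28, [], [[0]]⟩,
     ⟨34, [2880], []⟩],
    1024, [],
    [], true, 0⟩,
   ⟨[10,8,11,8,11],
    [⟨42, [1856, 1665, 1732, 1349, 1606, 2825, 1098, 780, 1156, 1030, 2889, 2635, 2500, 709, 2121, 396, 2377, 1993,
    2249, 1802, 3019, 1924, 2185, 2057, 2441, 2313, 1228, 2953, 2761, 1289, 2570], [[9, 11, 5, 12, 9, 1], [9,
    11, 10, 9, 6, 1], [0, 12, 6], [0, 11, 9, 10, 9, 11, 1], [0, 9, 12, 8, 9, 12, 0]]⟩,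
     ⟨47, [2176, 2305, 2882], [[0, 3, 0], [2, 2, 1], [2, 4, 0, 1], [1, 4]]⟩,
     ⟨5, [193, 962, 832], [[0], [1, 0, 3, 1], [1, 0, 2, 1], [1, 1]]⟩,
     ⟨8, [1408], [[2], [0, 3], [0, 1]]⟩,
     ⟨28, [1025], [[1, 2], [0]]⟩,
     ⟨43, [2369], [[0]]⟩,
     ⟨9, [1472], []⟩],
    1024, [],
    [], true, 0⟩,
   ⟨[1,10,8,11,8,11],
    [⟨0, [64, 130, 836, 901, 326, 587, 450, 1412, 1477, 646, 203, 261, 966, 522, 1547], [[4, 11, 4, 6, 11, 4, 11,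
    8, 10, 6], [0, 6, 11, 5, 0, 11, 10, 12], [11, 12, 6, 2, 5, 11, 0], [4, 11, 5, 12, 4, 10, 9, 5, 0]]⟩,
     ⟨1, [1536, 513, 1473, 578, 450, 643, 1408], [[1, 3, 0, 1, 2], [0, 3, 0, 2], [0, 2, 2, 2, 3], [2, 1]]⟩,
     ⟨33, [2688, 2819, 1664], [[3, 1, 1], [3, 0, 3, 1], [0, 3, 0], [3, 2, 1]]⟩,
     ⟨26, [2688], [[0, 1], [0, 2], [3]]⟩,
     ⟨28, [1025], [[1, 2], [0]]⟩,
     ⟨40, [2433], [[0]]⟩,
     ⟨5, [960], []⟩],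
    512, [],
    [], true, 0⟩,
   ⟨[9],
    [⟨44, [2880, 2113, 1988, 2373, 2246, 2697, 3019, 2177, 2052, 2437, 2310, 1865, 1228, 2757, 2950, 1673, 1353,
    1737, 2570, 1609, 1098, 780, 1801, 1284, 1161, 1033, 2635, 713, 2505, 396, 1929], [[1, 5, 11, 12], [0, 9,
    12, 9, 6], [1, 9, 12, 3, 9, 12], [0, 12, 10, 12], [1, 5, 12, 10, 5]]⟩,
     ⟨18, [384, 1922, 772], [[4, 2, 0], [2, 0, 1], [1, 0], [3, 2]]⟩,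
     ⟨4, [321, 898, 962], [[2, 3, 1], [3, 3], [1, 3], [0]]⟩,
     ⟨19, [1987], [[0], [2], [1]]⟩,
     ⟨21, [705], [[1, 2], [0]]⟩,
     ⟨9, [1472], [[1]]⟩,
     ⟨36, [3008], []⟩],
    256, [[0],[7],[8],[10],[11,9,12,9,12]],
    [⟨0, [64, 129, 452], [[4, 2, 4], [1, 2], [4, 1, 0], [1, 3, 4], [0, 4, 1], [4, 4]]⟩,
     ⟨1, [448], [[0, 1, 4, 5], [2, 5, 4], [3, 2, 0, 1], [5, 4, 4], [4, 2, 0, 1]]⟩,
     ⟨3, [834], [[0], [1], [4], [2, 3]]⟩,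
     ⟨4, [896], [[2], [1], [0, 3]]⟩,
     ⟨6, [768], [[2], [0, 1]]⟩,
     ⟨8, [1408], [[1]]⟩,
     ⟨11, [1344], []⟩], true, 144⟩]

theorem MKW2_cds : C3R.cdsB MKW2 (MKW2.W 0) (2 ^ 12 * 2) (MKW2_L.map (KC.cd MKW2)) = true := by
  decide +kernel

theorem MKW2_cnt : cnt MKW2 [0,6,3,4,11,1,8] 1 (.eq [40, 1, 40, 1] []) 224 = true := by
  decide +kernel

theorem MKW2_iv : ∀ a ∈ MKW2_L, a.ok MKW2 [0,6,3,4,11,1,8] (256, 72, 16) = true := by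
  decide +kernel

theorem killW2 {Γ : Type*} [Group Γ] [Finite Γ] {F : OF Γ} {b f : Γ} {A : Subgroup Γ}
    {X : Γ → Prop} (fx : FX F.e A X) (h : Sat (gN F b f) 18 iB rW2) : False :=
  n3_kill fx MKW2_ok MKW2_subs MW2_base (MW2_emb h :) (by decide +kernel) MKW2_cds MKW2_cnt
    MKW2_iv

end Cfsg.Lib.M12S
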