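import Cfsg.Agent.M12S.KKit

/-! Standard subgroups isomorphic to `M₁₂`: the wreath case is impossible. -/

set_option autoImplicit false
set_option maxRecDepth 100000
set_option linter.unusedSimpArgs false
set_option maxHeartbeats 1000000

namespace Cfsg.Lib.M12S

open Subgroup Cfsg.Lib.Spor Cfsg.Lib.Spor.Bulk Cfsg.Lib.Spor.PK Cfsg.Lib.Spor.WF
open Cfsg.Lib.Co3M Cfsg.Lib.Gold Cfsg.Lib.Trans

/-- permutation model -/
@[reducible] def MK00 : PM := res MW00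
  [([[1],[2],[3],[4],[6],[8],[10],[12],[14],[15],[16],[17],[5,1]],
    [⟨0, [64, 130, 196, 450, 516, 260, 580], [[11], [0, 12], [2, 4, 5], [0, 2, 4, 11, 4, 0], [0, 2, 4, 6, 9, 0]]⟩,
     ⟨5, [385, 898, 1027, 1090, 963, 770, 834], [[1, 2, 0, 4, 1], [2, 0, 4], [1, 3, 2, 1], [1, 3, 0, 2, 1]]⟩,
     ⟨3, [256], [[0, 1], [3, 0], [2, 0]]⟩,
     ⟨1, [513, 578, 449], [[2, 0, 1], [0]]⟩,
     ⟨10, [1152, 1409, 1281], [[0, 1, 1]]⟩,
     ⟨8, [576], []⟩]),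
   ([[2],[3],[4],[6],[8],[10],[12],[14],[15],[16],[17],[5,1]],
    [⟨5, [768, 899, 715, 1027, 1227, 1355, 1483], [[6, 3, 11, 10, 11], [0, 3, 8, 3, 0, 11, 9, 11, 3], [0, 3, 11, 8,
    11, 3, 0, 3, 8, 3], [0, 3, 6, 3, 0, 3, 11, 7, 9, 11], [10, 11, 6, 11]]⟩,
     ⟨0, [192, 258, 131], [[1], [0, 1, 2], [3, 2, 0], [4, 3]]⟩,
     ⟨3, [256], [[2, 0], [0, 3], [0, 1]]⟩,
     ⟨1, [512, 450, 576], [[0, 1, 2], [2, 0, 0]]⟩,
     ⟨10, [1280, 1409, 1152], [[1]]⟩,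
     ⟨8, [576], []⟩])]

theorem MK00_ok : MK00.ok = true := by decide +kernel

theorem MK00_subs : MK00.subsOK = true := by decide +kernel

/-- classes -/
def MK00_L : List KC :=
  [⟨[],
    [⟨3, [512, 258, 132, 578, 452, 73, 4], [[0, 2, 12, 2], [0, 9, 5, 0], [0, 4, 9, 2, 0], [10], [0, 9, 11, 4, 2,
    0]]⟩,
     ⟨8, [449, 66, 577], [[2, 0, 1], [2, 3], [0], [4, 1], [1, 2]]⟩,
     ⟨2, [1], [[0], [1, 4, 1], [1, 2, 1], [3, 1]]⟩,
     ⟨7, [67], [[2], [3, 1, 3], [3, 0, 3]]⟩,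
     ⟨6, [320, 1089, 898, 1024, 833, 960, 769], [[0, 1, 2]]⟩,
     ⟨11, [1472, 1216, 1344], []⟩],
    128, [],
    [], true, 0⟩,
   ⟨[2,11],
    [⟨20, [896, 1409, 1156, 649, 972, 1025, 772, 1356, 1100, 844, 320, 396, 1484, 1228, 714], [[0, 4, 10, 4, 1, 0],
    [9, 0, 11, 4, 0], [9, 6], [10], [9, 0, 7, 4, 0]]⟩,
     ⟨23, [1344, 706, 1219], [[4, 0], [0, 1], [3, 2, 0], [3, 4, 3]]⟩,
     ⟨3, [257, 130, 3], [[0], [2, 0, 2, 1], [3, 0, 2]]⟩,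
     ⟨4, [], [[0], [1], [2]]⟩,
     ⟨10, [1152], [[2], [1]]⟩,
     ⟨11, [], [[0], [1]]⟩,
     ⟨14, [768, 1024, 320], [[0, 1]]⟩,
     ⟨17, [960], []⟩],
    256, [],
    [], true, 0⟩,
   ⟨[10,11],
    [⟨14, [1280, 1025, 772, 1356, 1409, 1156, 649, 972, 324, 1484, 1228, 714, 1100, 844, 396], [[0, 9, 12, 11, 12,
    4, 0], [1, 4, 6], [1, 3], [1, 4, 11, 4], [0, 9, 12, 9, 12, 4, 0]]⟩,
     ⟨15, [1088, 833, 385], [[2], [0, 3], [1, 3, 1], [0, 4]]⟩,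
     ⟨1, [577, 450, 512], [[1, 0, 3], [0], [2, 1, 1]]⟩,
     ⟨7, [], [[0], [1], [2]]⟩,
     ⟨5, [769], [[0], [1, 2, 1]]⟩,
     ⟨6, [], [[0], [1]]⟩,
     ⟨19, [704, 1473, 1345], [[1, 0, 1]]⟩,
     ⟨22, [1280], []⟩],
    128, [[11],[0,12],[3,6],[3,7],[9,10]],
    [⟨1, [448], [[1], [0, 4, 0], [0, 3], [0, 2]]⟩,
     ⟨5, [384, 1027, 1091, 898, 962, 771, 835], [[0, 2, 0], [1]]⟩,
     ⟨3, [256], [[0, 1, 0]]⟩,
     ⟨10, [1408, 1152, 1280], []⟩], true, 72⟩,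
   ⟨[11],
    [⟨5, [640, 769, 900, 716, 1153, 1284, 396, 1028, 1228, 1356, 1412, 844, 972, 1484, 1100], [[0, 11, 9, 0], [0,
    1, 4, 3, 9, 0], [1, 5], [4, 12, 2, 10, 12], [0, 1, 4, 10, 4, 0]]⟩,
     ⟨6, [960, 833, 1090], [[2, 3, 0], [2, 2, 1], [1, 3], [4, 0]]⟩,
     ⟨20, [1152, 641, 1408], [[0, 0, 1, 2, 0], [2], [3]]⟩,
     ⟨21, [704, 1473, 1218], [[1, 0, 0], [1, 2]]⟩,
     ⟨8, [576], [[0, 1]]⟩,
     ⟨4, [192], []⟩],
    256, [],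
    [], true, 0⟩]

theorem MK00_cds : C3R.cdsB MK00 (MK00.W 0) (2 ^ 11 * 2) (MK00_L.map (KC.cd MK00)) = true := by
  decide +kernel

theorem MK00_cnt : cnt MK00 [0,5,3,1,10,8] 1 (.eq [40, 1, 40, 1] []) 96 = true := by
  decide +kernel

theorem MK00_iv : ∀ a ∈ MK00_L, a.ok MK00 [0,5,3,1,10,8] (128, 56, 16) = true := by
  decide +kernel

theorem MK00_base : Base MT00 [0,5,3,1,10,8] := base_of MT00_ok MT00_subs (by decide +kernel)

/-- permutation model -/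
@[reducible] def MK01 : PM := res MW01
  [([[1],[2],[3],[4],[6],[8],[10],[12],[14],[15],[16],[17],[5,1]],
    [⟨0, [64, 129, 195, 324, 390, 716, 577, 643, 772, 838, 1033, 1098, 268, 1155, 2060, 1412, 1478, 2124, 2380,
    2444, 905, 2570, 2249, 1228, 1292, 1612, 1676, 1804, 460, 2698, 1932], [[0, 4, 11, 10, 0], [0, 3, 10, 1,
    0], [0, 9, 11, 0], [0, 10, 6, 9, 0]]⟩,
     ⟨4, [1601, 1219, 1667], [[0], [1, 3, 0, 2], [2, 1]]⟩,
     ⟨1, [768, 1089, 576, 2241, 1024, 832, 641], [[1, 2]]⟩,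
     ⟨11, [2368, 2048, 2432], []⟩]),
   ([[2],[3],[4],[6],[8],[10],[12],[14],[15],[16],[17],[5,1]],
    [⟨0, [128, 194, 323, 389, 715, 1154, 2059, 1411, 1477, 2123, 2379, 2443, 904, 2569, 2697], [[3, 10, 5], [2, 3,
    8, 5, 2], [0, 10], [2, 3, 9, 5, 2]]⟩,
     ⟨4, [1600, 1665, 1217], [[3, 1], [1, 2, 0], [0, 1, 2, 1, 0]]⟩,
     ⟨1, [768, 2241, 576, 641, 1088, 832, 1025], [[1, 2]]⟩,
     ⟨11, [2432, 2048, 2368], []⟩])]

theorem MK01_ok : MK01.ok = true := by decide +kernel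

theorem MK01_subs : MK01.subsOK = true := by decide +kernel

/-- classes -/
def MK01_L : List KC :=
  [⟨[10,11],
    [⟨39, [1728, 2306, 2179, 2820, 3013, 2633, 971, 524, 1538, 1347, 2884, 2949, 2761, 1868, 1996], [[0, 3, 9, 12],
    [0, 3, 11, 12], [0, 5, 9, 5, 0], [3, 5, 9, 2]]⟩,
     ⟨32, [640, 1089, 706, 2371, 2243, 1027, 2435], [[1, 3, 3, 0], [0, 0, 2], [0, 2, 0]]⟩,
     ⟨35, [1025], [[1, 0, 1], [2, 1]]⟩,
     ⟨13, [768], [[0, 0], [0, 1]]⟩,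
     ⟨33, [897], [[1, 0, 1], [0]]⟩,
     ⟨5, [384], [[0, 1]]⟩,
     ⟨25, [1664], []⟩],
    128, [[11],[0,12],[3,6],[3,7],[9,10]],
    [⟨0, [128, 257, 1410, 1155, 1217, 1474, 195, 1794, 1283, 323, 449, 386, 1922, 1667, 1602], [[4, 0], [3, 0, 3]]⟩,
     ⟨1, [1088, 1025, 769, 832, 2240, 641, 577], []⟩], false, 48⟩,
   ⟨[],
    [⟨46, [3008, 2882, 1859, 1732, 1541, 2764, 2818, 2627, 2500, 2309, 2185, 1996, 516, 1349, 972], [[0, 5, 3, 12,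
    5], [0, 5, 9, 12], [0, 9, 11, 4, 0], [5, 4]]⟩,
     ⟨47, [2177, 2306, 2626, 2753, 2818, 2497, 962], [[1, 3, 1], [2, 0, 1, 2, 1], [2, 2, 0, 2, 2]]⟩,
     ⟨30, [1280, 1, 1792, 385, 320, 448, 129], [[0, 0, 1, 2]]⟩,
     ⟨42, [2112, 2560, 896], []⟩],
    128, [],
    [], true, 0⟩,
   ⟨[11],
    [⟨0, [64, 129, 195, 324, 390, 716, 577, 643, 772, 838, 1033, 1098, 268, 1155, 2060, 1412, 1478, 2124, 2380,
    2444, 905, 2570, 2249, 1228, 1292, 1612, 1676, 1804, 460, 2698, 1932], [[0, 10, 9, 6, 0], [3, 4, 11, 4,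
    3], [1, 3, 10, 3], [4, 10, 6]]⟩,
     ⟨4, [1216, 1667, 1603], [[1], [0, 3, 1, 3], [3, 2, 3, 0]]⟩,
     ⟨16, [576, 833, 641, 1088, 768, 65, 2241], [[0, 2]]⟩,
     ⟨40, [2112, 2688, 896], []⟩],
    256, [],
    [], true, 0⟩,
   ⟨[2,11],
    [⟨22, [1024, 1473, 387, 1156, 198, 2572, 2241, 835, 1092, 646, 73, 1804, 323, 2700, 4, 134, 2444, 908, 2124,
    714, 771, 585, 1932, 1676, 460, 1292, 268, 2380, 2058, 1612, 1228], [[0, 6, 9, 3, 0], [3, 4, 10, 4, 3],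
    [0, 1, 9, 12, 11, 12, 9, 0], [0, 1, 9, 4, 3, 0]]⟩,
     ⟨26, [256, 1603, 1217], [[3, 2, 3], [0, 1, 0, 3], [0, 3, 0]]⟩,
     ⟨10, [768, 2241, 834, 577, 1090, 64, 1024], [[0, 2, 1, 1]]⟩,
     ⟨11, [2432, 2048, 2368], []⟩],
    256, [],
    [], true, 0⟩]

theorem MK01_cds : C3R.cdsB MK01 (MK01.W 0) (2 ^ 11 * 2) (MK01_L.map (KC.cd MK01)) = true := by
  decide +kernel

theorem MK01_cnt : cnt MK01 [0,4,1,11] 1 (.eq [40, 1, 40, 1] []) 96 = true := by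
  decide +kernel

theorem MK01_iv : ∀ a ∈ MK01_L, a.ok MK01 [0,4,1,11] (128, 56, 16) = true := by
  decide +kernel

theorem MK01_base : Base MT01 [0,4,1,11] := base_of MT01_ok MT01_subs (by decide +kernel)

/-- permutation model -/
@[reducible] def MK10 : PM := res MW10
  [([[1],[2],[3],[4],[6],[8],[10],[12],[14],[15],[16],[17],[5,1]],
    [⟨0, [64, 129, 194, 260, 389, 518, 769, 834, 900, 1029, 1158, 1289, 1354, 1474, 644, 709, 582, 324, 1605, 1670,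
    1420, 1539, 454, 1738, 1222, 964, 1861, 1926, 1801, 1098, 1996], [[2, 12, 8, 2, 0], [0, 9, 12, 5, 2], [6,
    11, 6], [4, 6, 10, 5]]⟩,
     ⟨4, [384, 449, 642, 1539, 706, 320, 1602], [[0, 2, 3, 1], [1, 2, 1, 1, 0], [3, 2, 1, 0]]⟩,
     ⟨1, [1408, 897, 834, 1793, 770, 1280, 961], [[2, 1, 1]]⟩,
     ⟨14, [960], []⟩]),
   ([[2],[3],[4],[6],[8],[10],[12],[14],[15],[16],[17],[5,1]],
    [⟨0, [128, 193, 259, 388, 517, 75, 1473, 643, 708, 581, 779, 323, 1604, 1669, 1419, 1538, 453, 1035, 907, 1737,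
    1163, 833, 1288, 1353, 1227, 1099, 1803, 1995, 968, 1865, 1931], [[9], [5, 9, 11, 3, 9, 11], [0, 2], [0,
    10]]⟩,
     ⟨4, [1536, 641, 322], [[2, 1, 0], [2, 0, 1], [1, 3]]⟩,
     ⟨1, [1792, 897, 1410, 962, 1282, 768, 833], [[2, 1, 0]]⟩,
     ⟨14, [960], []⟩])]

theorem MK10_ok : MK10.ok = true := by decide +kernel

theorem MK10_subs : MK10.subsOK = true := by decide +kernel

/-- classes -/
def MK10_L : List KC :=
  [⟨[],
    [⟨3, [832, 1473, 2, 324, 1605, 1670, 1420, 66, 964, 1861, 1926, 1801, 1098, 130, 1540, 453, 1734, 260, 389,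
    518, 643, 710, 586, 1996, 770, 900, 1029, 1158, 1289, 1354, 1216], [[1, 11], [6, 10, 0, 12, 6, 2], [6, 10,
    0, 1, 11, 2, 0], [0, 10, 4, 11, 0]]⟩,
     ⟨13, [1984, 961, 898, 1089, 1026, 1921, 1344, 1217, 66, 1409, 1280, 769, 1155, 1857, 1793], [[1, 1, 1, 2, 0],
    [3, 2], [1, 2]]⟩,
     ⟨11, [320, 1601, 258], [[2, 1, 0]]⟩,
     ⟨21, [1856], []⟩],
    128, [],
    [], true, 0⟩,
   ⟨[11],
    [⟨12, [128, 65, 1410, 1284, 1349, 1222, 905, 1034, 1, 1474, 644, 709, 582, 834, 1158, 1796, 1093, 1990, 969,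
    1866, 204, 256, 396, 518, 1540, 453, 1734, 323, 1606, 1674, 1926], [[0, 2, 4, 9, 4, 0], [2, 9, 11, 5], [2,
    12, 11, 2, 0], [0, 4, 12, 10, 1]]⟩,
     ⟨18, [1920, 1986, 1219], [[0, 1], [0, 2, 1, 0, 3], [3, 0], [0, 3, 2, 0, 3]]⟩,
     ⟨0, [512, 577, 1666, 1474, 128, 194, 1728], [[0, 3], [0, 1]]⟩,
     ⟨8, [577], [[0]]⟩,
     ⟨14, [1024], []⟩],
    256, [],
    [], true, 0⟩,
   ⟨[10,11],
    [⟨14, [256, 1281, 962, 1795, 836, 1221, 1094, 777, 1035, 396, 641, 322, 1539, 196, 581, 454, 1412, 1157, 1862,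
    73, 1355, 716, 1989, 1925, 1612, 1484, 128, 517, 4, 1733, 1669], [[3, 10, 5], [5, 11, 9], [0, 6, 10, 12,
    2], [4, 12, 0, 9, 2]]⟩,
     ⟨21, [1856, 1089, 1025], [[1, 3, 1, 0], [2, 0], [0, 1, 3, 0], [1, 2]]⟩,
     ⟨23, [1728, 1, 130, 579, 193, 512, 1667], [[3, 0, 2], [2, 1]]⟩,
     ⟨26, [1728], [[0, 1]]⟩,
     ⟨12, [1216], []⟩],
    128, [[11],[0,12],[3,6],[3,7],[9,10]],
    [⟨0, [128, 514, 578], [[0, 2, 3, 2, 0], [1], [3, 0], [0, 2, 4, 2]]⟩,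
     ⟨3, [1473], [[1, 0, 1], [3], [2]]⟩,
     ⟨1, [832, 1986, 1218, 1152, 770, 1920, 1410], [[1]]⟩,
     ⟨4, [320], []⟩], true, 72⟩,
   ⟨[2,11],
    [⟨9, [1216, 513, 1730, 1604, 1541, 6, 1674, 1153, 1986, 1860, 1797, 70, 1033, 906, 779, 452, 325, 134, 388,
    645, 198, 1932, 262, 708, 1478, 1092, 965, 1353, 1290, 838, 1419], [[0, 2, 11, 12, 6, 10], [3], [2, 12, 8,
    2, 0], [0, 1, 4, 9, 12, 2]]⟩,
     ⟨3, [128, 1473, 1], [[1, 2], [0, 1, 0], [0, 3, 1], [1, 0, 0]]⟩,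
     ⟨22, [832, 1985, 66, 1155, 1921, 770, 1219], [[0, 2, 3, 1], [3, 2, 1]]⟩,
     ⟨18, [1216], [[0, 1]]⟩,
     ⟨4, [1600], []⟩],
    256, [],
    [], true, 0⟩]

theorem MK10_cds : C3R.cdsB MK10 (MK10.W 0) (2 ^ 11 * 2) (MK10_L.map (KC.cd MK10)) = true := by
  decide +kernel

theorem MK10_cnt : cnt MK10 [0,4,1,14] 1 (.eq [40, 1, 40, 1] []) 96 = true := by
  decide +kernel

theorem MK10_iv : ∀ a ∈ MK10_L, a.ok MK10 [0,4,1,14] (128, 56, 16) = true := by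
  decide +kernel

theorem MK10_base : Base MT10 [0,4,1,14] := base_of MT10_ok MT10_subs (by decide +kernel)

/-- permutation model -/
@[reducible] def MK11 : PM := res MW11
  [([[1],[2],[3],[4],[6],[8],[10],[12],[14],[15],[16],[17],[5,1]],
    [⟨0, [64, 130, 196, 325, 454, 265, 394, 652, 708, 837, 966, 1158, 908, 780, 1996], [[5, 11, 5, 2], [4, 12, 7,
    5, 0], [6, 12, 10, 6, 0], [12, 3, 0]]⟩,
     ⟨8, [1472, 577, 1282, 1793, 1667, 1217, 1858, 2818, 1345, 1602, 1730, 1921, 2881, 1409, 1538], [[1, 1, 2, 3],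
    [2, 2, 3, 2, 1, 1], [2, 1]]⟩,
     ⟨3, [256], [[0, 1], [0, 0], [2]]⟩,
     ⟨1, [641, 706, 770], [[0]]⟩,
     ⟨16, [2048], []⟩]),
   ([[2],[3],[4],[6],[8],[10],[12],[14],[15],[16],[17],[5,1]],
    [⟨8, [1216, 1603, 1860, 1349, 1736, 1482, 2123, 2820, 1099, 2379, 3019, 2635, 2251, 2507, 2763], [[8, 1, 3, 0],
    [5, 11, 10, 11, 5, 0], [4, 10, 3], [10, 9, 5]]⟩,
     ⟨0, [128, 449, 259, 1153, 195, 387, 321], [[0, 3, 2, 1, 3], [1, 2], [3, 1, 2, 3, 0]]⟩,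
     ⟨3, [257], [[1, 2, 1], [0], [2]]⟩,
     ⟨1, [768, 706, 642], [[0, 1]]⟩,
     ⟨16, [2048], []⟩])]

theorem MK11_ok : MK11.ok = true := by decide +kernel

theorem MK11_subs : MK11.subsOK = true := by decide +kernel

/-- classes -/
def MK11_L : List KC :=
  [⟨[],
    [⟨2, [640, 2, 260, 389, 1158, 201, 330, 76, 772, 901, 1990, 454, 844, 716, 972], [[0, 10, 0], [2, 11], [12, 3,
    0], [6, 12, 10, 6, 0]]⟩,
     ⟨10, [832, 961, 705, 770, 1987, 898, 67], [[0, 2, 3, 3, 3, 1], [0, 1, 3], [0, 2, 3, 2, 0, 3, 1]]⟩,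
     ⟨44, [1472, 1793, 1346, 1921, 2882, 1856, 1664], [[0, 0], [0, 2]]⟩,
     ⟨46, [2688], [[1]]⟩,
     ⟨25, [1728], []⟩],
    128, [],
    [], true, 0⟩,
   ⟨[11],
    [⟨0, [64, 130, 196, 325, 454, 265, 394, 652, 708, 837, 966, 1158, 908, 780, 1996], [[12, 3, 0], [4, 11, 4, 2],
    [10, 11, 5], [4, 12, 8, 5, 0]]⟩,
     ⟨2, [], [[0], [1], [2], [3]]⟩,
     ⟨23, [1664, 513, 1858, 1795, 577, 1282, 1730, 1920, 1344, 1219, 1408, 1539, 2819, 1602, 2881], [[1, 3, 1, 0],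
    [1, 2, 3, 1, 2, 1, 3, 2], [0, 2, 3, 1]]⟩,
     ⟨26, [1792, 1537, 1410], [[1, 2, 0], [1, 1]]⟩,
     ⟨36, [2176], [[0, 1]]⟩,
     ⟨39, [2624], []⟩],
    256, [],
    [], true, 0⟩,
   ⟨[10,11],
    [⟨9, [1088, 1281, 1924, 1413, 1670, 1546, 1803, 2060, 2113, 2756, 2245, 2502, 1228, 2884, 1036, 2956, 2572,
    2316, 2368, 2444, 2624, 2188, 3012, 524, 2828, 1740, 1484, 1609, 1355, 2700, 1868], [[0, 11, 0], [0, 9, 4,
    0], [10, 0, 7, 5, 0], [1, 4, 9, 4]]⟩,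
     ⟨21, [2817, 1730, 1859, 1473, 514, 1600, 1219], [[0], [1, 2, 2, 0, 1], [2, 0, 3, 2, 0, 1]]⟩,
     ⟨4, [320, 194, 386], [[0, 2, 0, 2], [0, 2, 1, 2]]⟩,
     ⟨5, [], [[0], [1]]⟩,
     ⟨37, [2240], [[1]]⟩,
     ⟨40, [2432], []⟩],
    128, [[11],[0,12],[3,6],[3,7],[9,10]],
    [⟨0, [128, 1154, 452], [[4, 3, 4], [2, 0, 4], [4, 1, 2]]⟩,
     ⟨1, [640, 962, 1986], [[0, 1], [0, 2, 1, 2]]⟩,
     ⟨8, [1728, 1216, 1600], [[0, 0, 0, 1]]⟩,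
     ⟨16, [2048], []⟩], false, 48⟩,
   ⟨[2,11],
    [⟨15, [448, 1986, 900, 773, 70, 1164, 388, 261, 6, 836, 709, 646, 204, 332, 140], [[12, 10, 5, 0], [2, 12, 0],
    [0, 4, 11, 9, 0], [6, 11]]⟩,
     ⟨18, [192, 258, 3, 321, 450, 387, 128], [[0, 3, 1, 2], [3, 1, 3], [0, 3, 0]]⟩,
     ⟨24, [1601, 1282, 1728, 1409, 514, 576, 1218], [[2, 0, 2], [1, 2, 2, 1]]⟩,
     ⟨25, [1728], [[1]]⟩,
     ⟨36, [2176], []⟩],
    256, [],
    [], true, 0⟩]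

theorem MK11_cds : C3R.cdsB MK11 (MK11.W 0) (2 ^ 11 * 2) (MK11_L.map (KC.cd MK11)) = true := by
  decide +kernel

theorem MK11_cnt : cnt MK11 [0,8,3,1,16] 1 (.eq [40, 1, 40, 1] []) 96 = true := by
  decide +kernel

theorem MK11_iv : ∀ a ∈ MK11_L, a.ok MK11 [0,8,3,1,16] (128, 56, 16) = true := by
  decide +kernel

theorem MK11_base : Base MT11 [0,8,3,1,16] := base_of MT11_ok MT11_subs (by decide +kernel)

/-- the model of the Sylow subgroup -/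
@[reducible] def MC1 : PM := ⟨MC.w, MC.n, MC.cs, MC.SW.take 1⟩

instance : NeZero MC1.n := ⟨by decide⟩

variable {Γ : Type*} [Group Γ]

theorem MC_base : Base MB [12, 2, 0, 1, 3, 4] := base_of MB_ok MB_subs (by decide +kernel)

theorem iv_T0 (F : CF Γ) : iv F.T0 = (128, 56, 16) :=
  iv_eq (M := MC1) (i := 0) MC_ok (by decide +kernel) MC_base F.emb (by decide +kernel)
    (by decide +kernel) (by decide +kernel)

theorem wr_kill [Finite Γ] {F : CF Γ} {b b1 b2 f1 f2 f3 : Γ} {A : Subgroup Γ} {X : Γ → Prop}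
    (fx : FX F.e A X) {M : PM} [NeZero M.n] (h : M.ok = true) (h' : M.subsOK = true)
    {B : List ℕ} (hB : Base M B) (he : Emb M.m (lf ((F.gW b b1 b2 f1 f2 f3).take 18))) {s : ℕ} {L : List KC}
    (h0 : (M.W 0 = [1] :: M.W 1 ∧ certOrder (M.K 0) = 2 ^ 11 * 2 ∧
      certOrder (M.K 1) = 2 ^ 11 ∧ (L.map fun a => 2 ^ 11 * 2 / a.c).sum = s ∧
      (bare M).dec (andL L fun a => .eq (a.x M ++ a.x M) []) = true) ∧
      ∀ l ∈ [1, 2, 3, 4, 5, 6, 8, 10], [l] ∈ M.W 0 ∨ [l, 1] ∈ M.W 0)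
    (h1 : C3R.cdsB M (M.W 0) (2 ^ 11 * 2) (L.map (KC.cd M)) = true)
    (h2 : cnt M B 1 (.eq [40, 1, 40, 1] []) s = true)
    (h3 : ∀ a ∈ L, a.ok M B (128, 56, 16) = true) : False := by
  refine kill_model h h' hB he fx ((show F.C = C1 F.e from F.cent) ▸ F.sylT0) F.memT0.1 F.sq.1
    (sub_le fun L hL => ?_) (iv_T0 F) h0.1 h1 h2 h3
  have k := fun l hl => let_mem2 (g := lf ((F.gW b b1 b2 f1 f2 f3).take 18)) F.sq.1
    (h0.1.1 ▸ List.mem_cons_self) l (h0.2 l hl)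
  simp only [PM.W, List.getD_cons_zero, List.mem_cons, List.not_mem_nil, or_false] at hL
  rcases hL with rfl | rfl | rfl | rfl | rfl | rfl | rfl | rfl <;> rw [← w_let]
  exacts [k 1 (by simp), k 2 (by simp), k 3 (by simp), k 4 (by simp), k 5 (by simp), k 6 (by simp),
    k 8 (by simp), k 10 (by simp)]

theorem noW [Finite Γ] : NoW Γ := fun F A X b fx h h2 h3 h1 => by
  have k := CF.Wb.rels ⟨h, h2, of_cj h3, of_cj h1⟩
  obtain ⟨a, c | c⟩ | ⟨a, c | c⟩ := k.rx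
  · exact wr_kill fx MK00_ok MK00_subs MK00_base (emb_res (PM.exists_hom MW00_ok MW00_subs
      (PM.sat MW00_ok MW00_sat) (sat_rl k.sat (P := PX00) (by decide)
        (by simpa [PX00, lf, CF.gW] using ⟨a, c⟩)) rfl
      (fun s => (ws00 s (by simp [ws00_U]) fun _ => letter_mem _).card_le
        (card_NB (s.mono le_rfl fun _ => List.mem_append_left _))) (by decide +kernel))
      (PM.sat MW00_ok MW00_sat).zero MT00_ok MT00_subs (by decide +kernel) MT00_z F.ne.2.1 :)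
      (by decide +kernel) MK00_cds MK00_cnt MK00_iv
  · exact wr_kill fx MK01_ok MK01_subs MK01_base (emb_res (PM.exists_hom MW01_ok MW01_subs
      (PM.sat MW01_ok MW01_sat) (sat_rl k.sat (P := PX01) (by decide)
        (by simpa [PX01, lf, CF.gW] using ⟨a, c⟩)) rfl
      (fun s => (ws01 s (by simp [ws01_U]) fun _ => letter_mem _).card_le
        (card_NB (s.mono le_rfl fun _ => List.mem_append_left _))) (by decide +kernel))
      (PM.sat MW01_ok MW01_sat).zero MT01_ok MT01_subs (by decide +kernel) MT01_z F.ne.2.1 :)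
      (by decide +kernel) MK01_cds MK01_cnt MK01_iv
  · exact wr_kill fx MK10_ok MK10_subs MK10_base (emb_res (PM.exists_hom MW10_ok MW10_subs
      (PM.sat MW10_ok MW10_sat) (sat_rl k.sat (P := PX10) (by decide)
        (by simpa [PX10, lf, CF.gW] using ⟨a, c⟩)) rfl
      (fun s => (ws10 s (by simp [ws10_U]) fun _ => letter_mem _).card_le
        (card_NB (s.mono le_rfl fun _ => List.mem_append_left _))) (by decide +kernel))
      (PM.sat MW10_ok MW10_sat).zero MT10_ok MT10_subs (by decide +kernel) MT10_z F.ne.2.1 :)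
      (by decide +kernel) MK10_cds MK10_cnt MK10_iv
  · exact wr_kill fx MK11_ok MK11_subs MK11_base (emb_res (PM.exists_hom MW11_ok MW11_subs
      (PM.sat MW11_ok MW11_sat) (sat_rl k.sat (P := PX11) (by decide)
        (by simpa [PX11, lf, CF.gW] using ⟨a, c⟩)) rfl
      (fun s => (ws11 s (by simp [ws11_U]) fun _ => letter_mem _).card_le
        (card_NB (s.mono le_rfl fun _ => List.mem_append_left _))) (by decide +kernel))
      (PM.sat MW11_ok MW11_sat).zero MT11_ok MT11_subs (by decide +kernel) MT11_z F.ne.2.1 :)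
      (by decide +kernel) MK11_cds MK11_cnt MK11_iv

end Cfsg.Lib.M12S
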