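import Cfsg.Agent.M12S.Defs
import Cfsg.Agent.Trans.OrbitTransfer

/-! The transfer lemma. -/

set_option autoImplicit false

namespace Cfsg.Lib.M12S

open Subgroup MulAction Cfsg.Lib.Gold Cfsg.Lib.Trans Cfsg.Lib.Co3M

variable {G : Type*} [Group G]

theorem parP [Finite G] (hG : commutator G = ⊤) : ParP G := by
  classical
  intro e T R K e2 eT hT TR hR hK eK
  by_contra! hc
  have : (K.subgroupOf R).Normal := ⟨fun n hn g =>
    (mul_mem_cancel_right (inv_mem hn)).1 (hK g g.2 n n.2)⟩
  let : CommGroup (R ⧸ K.subgroupOf R) :=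
    { QuotientGroup.Quotient.group _ with
      mul_comm := fun a b => by
        obtain ⟨a, rfl⟩ := QuotientGroup.mk_surjective a
        obtain ⟨b, rfl⟩ := QuotientGroup.mk_surjective b
        refine QuotientGroup.eq.2 ?_
        simpa [mem_subgroupOf, mul_assoc] using hK _ (inv_mem b.2) _ (inv_mem a.2) }
  let φ : R →* R ⧸ K.subgroupOf R := QuotientGroup.mk' _
  have := Fintype.ofFinite (G ⧸ R)
  have h1 : ∏ q, cosetVal φ e q = 1 := by
    rw [← transfer_eq_prod_cosetVal fun m hm m1 a => by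
      rw [((Nat.dvd_prime Nat.prime_two).1 (hm.trans (orderOf_dvd_of_pow_eq_one
        ((pow_two e).trans e2)))).resolve_left m1, pow_two, e2, mul_one, inv_mul_cancel,
        extOne_of_mem φ (one_mem _)]
      exact map_one φ]
    exact Abelianization.commutator_subset_ker _ (hG.ge (mem_top e))
  have sq : ∀ q, cosetVal φ e q ^ 2 = 1 := fun q => by
    by_cases k : q.out⁻¹ * e * q.out ∈ R
    · rw [cosetVal, extOne_of_mem φ k, ← map_pow, ← map_one φ]
      refine congrArg φ (Subtype.ext ?_)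
      calc _ = q.out⁻¹ * (e * e) * q.out := by rw [coe_pow, pow_two]; group
        _ = _ := by rw [e2]; simp
    · rw [cosetVal, extOne_of_not_mem φ k, one_pow]
  have inv : ∀ c ∈ C1 e, ∀ q, cosetVal φ e (c • q) = cosetVal φ e q := fun c k q => by
    rw [cosetVal_smul, mul_assoc, ← mem_C1.1 k, inv_mul_cancel_left]
  let O := orbit (C1 e) ((1 : G) : G ⧸ R)
  have h2 : ∏ q with q ∉ O, cosetVal φ e q = 1 := by
    rw [Finset.prod_filter, prod_eq_prod_fixed (D := T) _ ∅ (by simp), Finset.prod_empty]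
    intro q _
    rw [Finset.prod_congr rfl (g := fun _ => if q ∉ O then cosetVal φ e q else 1) fun r hr => by
      obtain ⟨t, rfl⟩ := (Finset.mem_filter.1 hr).2
      exact if_congr (not_congr ⟨fun k => inv_smul_smul (⟨t, hT.le t.2⟩ : C1 e) q ▸
        mem_orbit_of_mem_orbit _ k, mem_orbit_of_mem_orbit (⟨t, hT.le t.2⟩ : C1 e)⟩)
        (inv t (hT.le t.2) q) rfl,
      Finset.prod_const]
    split_ifs with hq
    · exact one_pow _
    obtain ⟨n, hn⟩ := hT.isPGroup.card_orbit q
    rw [← Fintype.card_subtype, ← Nat.card_eq_fintype_card, hn]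
    rcases n with _ | n
    · obtain ⟨a, rfl⟩ := QuotientGroup.mk_surjective q
      have fx := fun x (hx : x ∈ T) => (smul_mk_eq_iff_conj_mem x a).1
        (mem_fixedPoints_iff_card_orbit_eq_one.2 (Nat.card_eq_fintype_card.symm.trans hn) ⟨x, hx⟩)
      rw [pow_zero, pow_one, cosetVal_mk, extOne_of_mem φ (fx e eT)]
      refine (QuotientGroup.eq_one_iff _).2 (by_contra fun k => hq ?_)
      obtain ⟨k, hk, k'⟩ := hc a⁻¹ (by simpa using fx) (by simpa [mem_subgroupOf] using k)
      refine ⟨⟨a * k, mem_C1.2 (of_cj ?_)⟩, QuotientGroup.eq.2 (by simpa using hk)⟩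
      calc _ = a * (k * e * k⁻¹) * a⁻¹ := by group
        _ = _ := by rw [k']; group
    · rw [pow_succ', pow_mul, sq, one_pow]
  rw [← Finset.prod_filter_mul_prod_filter_not _ (· ∈ O), h2, mul_one,
    Finset.prod_congr rfl (g := fun _ => cosetVal φ e ((1 : G) : G ⧸ R)) fun r hr => by
      obtain ⟨c, rfl⟩ := (Finset.mem_filter.1 hr).2
      exact inv c c.2 ((1 : G) : G ⧸ R), Finset.prod_const, ← Fintype.card_subtype, ← Nat.card_eq_fintype_card,
    Nat.card_coe_set_eq, ← index_stabilizer, show stabilizer (C1 e) ((1 : G) : G ⧸ R) =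
      T.subgroupOf (C1 e) by
      rw [← hT.eq_inf hR TR, inf_subgroupOf_right]
      exact Subgroup.ext fun c => ((smul_mk_eq_iff_conj_mem (c : G) 1).trans (by simp [mem_subgroupOf]))] at h1
  obtain ⟨m, hm⟩ := Nat.odd_iff.2 (Nat.two_dvd_ne_zero.1 hT.not_dvd)
  rw [show (T.subgroupOf (C1 e)).index = _ from hm, pow_succ, pow_mul, sq, one_pow, one_mul,
    cosetVal_mk, extOne_of_mem φ (by simpa using TR eT)] at h1
  exact eK (by simpa [mem_subgroupOf] using (QuotientGroup.eq_one_iff _).1 h1)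

end Cfsg.Lib.M12S
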