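import Cfsg.Agent.M12S.Defs
import Cfsg.Agent.Known.MathieuOut

/-! The action of the normalizer of a subgroup `M₁₂` in the model. -/

set_option autoImplicit false
set_option maxRecDepth 100000
set_option maxHeartbeats 1000000

namespace Cfsg.Lib.M12S

open Subgroup Cfsg.Lib.Gold Cfsg.Lib.Trans Cfsg.Lib.Co3M
open Cfsg.Lib.Spor Cfsg.Lib.Spor.Bulk Cfsg.Lib.Spor.PK Cfsg.Lib.Spor.WF

variable {G Γ : Type*} [Group G] [Group Γ]

namespace PiEx

theorem sat_wM : Sat (sg MO.m wM) 9 Known.m12p_i Known.m12p_R := by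
  have h := (PM.dec_iff MO_ok MO_subs (.and (andL (List.range 9) fun l =>
    .eq (sb wM [Known.m12p_i l, l]) []) (andL Known.m12p_R fun r => .eq (sb wM r) []))).1
    (by decide +kernel)
  refine ⟨rfl, fun l hl => ?_, fun r hr => ?_⟩
  · have := sem_andL.1 h.1 l (List.mem_range.2 hl)
    rw [Fm.sem, wv_sb, wv_cons, wv_cons, wv_nil, one_mul] at this
    exact eq_inv_of_mul_eq_one_right this
  · have := sem_andL.1 h.2 r hr
    rwa [Fm.sem, wv_sb] at this

end PiEx

theorem exists_theta : ∃ θ : Spor.M12 →* P26, Function.Injective θ ∧ θ.range = M0.A := by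
  obtain ⟨m, hm⟩ := Known.m12p_pres
  obtain ⟨θ, hθ⟩ := hm.lift _ _ PiEx.sat_wM
  have h1 : θ.range ≤ sub MO.m (MQ.W 2) := by
    rw [MonoidHom.range_eq_map, ← hm.gen, MonoidHom.map_closure, closure_le]
    rintro _ ⟨_, ⟨l, hl, rfl⟩, rfl⟩
    rw [hθ l hl]
    have : ∀ l < 9, ∀ a ∈ wM.getD l [], [a] ∈ MQ.W 2 := by decide +kernel
    exact wv_mem_of fun a ha => let_mem _ a (this l hl a ha)
  have := MP.isSimpleGroup_M12
  have h2 : Function.Injective θ := by
    rw [← MonoidHom.ker_eq_bot_iff]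
    refine (IsSimpleGroup.eq_bot_or_eq_top_of_normal θ.ker inferInstance).resolve_right fun h => ?_
    have h3 : sg MO.m wM 5 = 1 := by rw [← hθ 5 (by omega)]; exact (h ▸ mem_top _ : m 5 ∈ θ.ker)
    exact (PM.dec_iff MO_ok MO_subs (.not (.eq (wM.getD 5 []) []))).1 (by decide +kernel) h3
  refine ⟨θ, h2, eq_of_le_of_card_ge h1 ?_⟩
  rw [← Nat.card_congr (θ.ofInjective h2).toEquiv, MP.card_M12]
  exact M0.card_A.le

namespace PiEx

theorem le_Ah : M0.A ≤ M0.Ah := sub_le fun L hL =>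
  wv_mem_sub _ ((by decide +kernel : ∀ L ∈ MQ.W 2, L ∈ MQ.W 1) L hL)

theorem le_C : M0.Ah ≤ M0.C := sub_le fun L hL =>
  wv_mem_sub _ ((by decide +kernel : ∀ L ∈ MQ.W 1, L ∈ MQ.W 0) L hL)

theorem cent (f : Fc1 M0) {x : P26} (hx : x ∈ M0.Ah) (h : x ∈ Cs M0.A) : x = 1 := by
  have hg : M0.g ∈ M0.A := let_mem _ 12 (by decide +kernel)
  have hp : M0.p ∈ M0.A := let_mem _ 14 (by decide +kernel)
  have hv : M0.v ∈ M0.A := by
    rw [M0.v_eq]
    repeat first | exact hg | exact hp | exact inv_mem hp | apply mul_mem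
  have k : ∀ a ∈ M0.A, x * a = a * x := fun a ha => (mem_centralizer_iff.1 h a ha).symm
  have hp' := k _ hp
  rcases f.c7 x hx (k _ (let_mem _ 2 (by decide +kernel))) (k _ (let_mem _ 3 (by decide +kernel)))
    (k _ (let_mem _ 4 (by decide +kernel))) (k _ hg) (k _ hv) with e | e | e | e
  · exact e
  · rw [e] at hp'; exact absurd hp' (by ow M0)
  · rw [e] at hp'; exact absurd hp' (by ow M0)
  · rw [e] at hp'; exact absurd hp' (by ow M0)

theorem card_aut (f : Fc1 M0) : Nat.card (MulAut M0.A) = 190080 := by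
  obtain ⟨θ, h1, h2⟩ := exists_theta
  have ι : Spor.M12 ≃* M0.A := (θ.ofInjective h1).trans (MulEquiv.subgroupCongr h2)
  rw [← Nat.card_congr (MulAut.congr ι).toEquiv,
    card_eq_card_quotient_mul_card_subgroup (Inn Spor.M12)]
  have h3 : Nat.card (MulAut Spor.M12 ⧸ Inn Spor.M12) = 2 := Known.card_out_m12
  have h4 : Nat.card (Inn Spor.M12) = 95040 := by
    rw [← MP.card_M12]
    refine (Nat.card_congr (MonoidHom.ofInjective ?_).toEquiv).symm
    rw [injective_iff_map_eq_one]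
    intro σ hσ
    refine ι.injective (Subtype.ext ?_)
    rw [map_one]
    refine cent f (le_Ah (ι σ).2) (mem_centralizer_iff.2 fun a ha => ?_)
    obtain ⟨τ, hτ⟩ := ι.surjective ⟨a, ha⟩
    have e := DFunLike.congr_fun hσ τ
    simp only [MulAut.conj_apply, MulAut.one_apply] at e
    have e2 := congrArg (fun s => (ι s : P26)) (mul_inv_eq_iff_eq_mul.1 e)
    simp only [map_mul, hτ, coe_mul] at e2
    exact e2.symm
  rw [h3, h4]

end PiEx

theorem exists_pi [Finite G] (f : Fc1 M0) {A : Subgroup G} (hA : Nonempty (A ≃* Spor.M12)) :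
    ∃ π, Pi A π := by
  classical
  obtain ⟨θ, h1, h2⟩ := exists_theta
  obtain ⟨e0⟩ := hA
  have ι : A ≃* M0.A := e0.trans ((θ.ofInjective h1).trans (MulEquiv.subgroupCongr h2))
  let κ : M0.Ah →* MulAut M0.A :=
    M0.A.normalizerMonoidHom.comp (inclusion (PiEx.le_C.trans f.nA))
  have hκ : ∀ (x : M0.Ah) (a : M0.A), (κ x a : P26) = x * a * (x : P26)⁻¹ := fun x a => rfl
  have hi : Function.Injective κ := by
    rw [injective_iff_map_eq_one]
    intro x hx
    refine Subtype.ext (PiEx.cent f x.2 (mem_centralizer_iff.2 fun a ha => ?_))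
    have := hκ x ⟨a, ha⟩
    rw [hx] at this
    exact eq_mul_inv_iff_mul_eq.1 this
  have hb : Function.Bijective κ :=
    hi.bijective_of_nat_card_le (by rw [PiEx.card_aut f, M0.card_Ah])
  let κ' := MulEquiv.ofBijective κ hb
  let ψ : Ns A →* M0.Ah :=
    κ'.symm.toMonoidHom.comp ((MulAut.congr ι).toMonoidHom.comp A.normalizerMonoidHom)
  have hψ : ∀ x : Ns A, κ (ψ x) = MulAut.congr ι (A.normalizerMonoidHom x) := fun x =>
    κ'.apply_symm_apply _
  have ha : ∀ a : A, (ψ ⟨a, le_normalizer a.2⟩ : P26) = ι a := fun a => by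
    have : ψ ⟨a, le_normalizer a.2⟩ = ⟨ι a, PiEx.le_Ah (ι a).2⟩ := by
      apply hi
      rw [hψ]
      ext1 b
      obtain ⟨b, rfl⟩ := ι.surjective b
      refine Subtype.ext ?_
      rw [hκ]
      have e : A.normalizerMonoidHom ⟨a, le_normalizer a.2⟩ b = a * b * a⁻¹ := Subtype.ext rfl
      simp [MulAut.congr, e]
    rw [this]
  refine ⟨fun x => if h : x ∈ Ns A then (ψ ⟨x, h⟩ : P26) else 1, fun x hx y hy => ?_,
    fun x hx => ?_, fun x hx => ?_, fun a h => ?_, fun u hu => ?_, fun a h e => ?_⟩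
  · simp only [dif_pos hx, dif_pos hy, dif_pos (mul_mem hx hy)]
    rw [← coe_mul, ← map_mul]
    rfl
  · simp only [dif_pos hx]
    rw [OneMemClass.coe_eq_one, ← map_eq_one_iff κ hi, hψ, map_eq_one_iff _ (MulAut.congr ι).injective,
      ← MonoidHom.mem_ker, normalizerMonoidHom_ker, mem_subgroupOf]
  · simp only [dif_pos hx]
    exact Subtype.property _
  · simp only [dif_pos (le_normalizer h)]
    rw [ha ⟨a, h⟩]
    exact Subtype.property _
  · obtain ⟨a, e⟩ := ι.surjective ⟨u, hu⟩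
    refine ⟨a, a.2, ?_⟩
    simp only [dif_pos (le_normalizer a.2)]
    rw [ha, e]
  · simp only [dif_pos (le_normalizer h)] at e
    rw [ha ⟨a, h⟩, OneMemClass.coe_eq_one, map_eq_one_iff _ ι.injective] at e
    exact congrArg Subtype.val e

end Cfsg.Lib.M12S
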