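import Cfsg.Agent.M12S.Defs
import Cfsg.Agent.HK.Lift
import Cfsg.Agent.HN.CentB

/-! Unique lifting, the fixed point property and the final dihedral step. -/

set_option autoImplicit false

namespace Cfsg.Lib.M12S

open Subgroup Cfsg.Lib.Gold Cfsg.Lib.Trans Cfsg.Lib.Co3M

variable {G Γ : Type*} [Group G] [Group Γ]

theorem TopA.four {a b : G} (h : a * a = b) (hb : b * b = 1) : a ^ 4 = 1 := by
  rw [show 4 = 2 * 2 from rfl, pow_mul, pow_two a, h, pow_two, hb]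

theorem TopA.sq {a b : G} (h : IsConj a b) (ha : a * a = 1) : b * b = 1 := by
  obtain ⟨c, rfl⟩ := isConj_iff.1 h
  rw [conj_mul, ha]; group

open TopA

theorem LF.tp [Finite G] [IsSimpleGroup Γ] {H : Subgroup G} {ρ : H →* Γ} {e : H} (h : LF H ρ e)
    {z : Γ} (z2 : z * z = 1) (hz : ∃ a, a * a = z)
    (h2 : ∀ w : Γ, w * w = 1 → w = 1 ∨ IsConj (ρ e) w ∨ IsConj z w)
    (hn : ∀ w x : Γ, IsConj (ρ e) x → w * w ≠ x) : TP H ρ e := by
  have hZ := ((inferInstance : (centralizer (ρ.ker : Set H)).Normal).map ρ h.sj).eq_bot_or_eq_top.resolve_left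
    fun k => h.e1 (HK.Lift.eq_one h.odd (mem_bot.1 (k.le (mem_map_of_mem ρ
      (mem_centralizer_iff.2 fun o ho => (h.ck o ho).symm)))) (HK.Lift.four h.e2))
  have lf : ∀ q : Γ, q ^ 4 = 1 → ∃ a ∈ centralizer (ρ.ker : Set H), a ^ 4 = 1 ∧ ρ a = q := fun q hq => by
    obtain ⟨n, hn, rfl⟩ := hZ.ge (mem_top q)
    obtain ⟨m, hm⟩ := h.odd
    refine ⟨n ^ (Nat.card ρ.ker * Nat.card ρ.ker), pow_mem hn _, ?_, ?_⟩
    · rw [← pow_mul, mul_comm, pow_mul, pow_mul, HK.Lift.pow_card (a := n ^ 4) (by rwa [map_pow]), one_pow]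
    · rw [map_pow, hm, show (2 * m + 1) * (2 * m + 1) = 4 * (m * m + m) + 1 by ring, pow_succ, pow_mul, hq,
        one_pow, one_mul]
  have ck : ∀ a : H, a ^ 4 = 1 → a ∈ centralizer (ρ.ker : Set H) := fun a ha => by
    obtain ⟨b, h1, h3, e⟩ := lf (ρ a) (by rw [← map_pow, ha, map_one])
    exact HK.Lift.uniq h.odd h1 e h3 ha ▸ h1
  have uq : ∀ a b : H, a ^ 4 = 1 → b ^ 4 = 1 → ρ a = ρ b → a = b := fun a b ha hb e =>
    HK.Lift.uniq h.odd (ck a ha) e ha hb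
  have nsq : ∀ w x : G, IsConj (e : G) x → w * w ≠ x := fun w x hx k => by
    obtain ⟨c, rfl⟩ := isConj_iff.1 hx
    have k' : c⁻¹ * w * c * (c⁻¹ * w * c) = e := by
      calc _ = c⁻¹ * (w * w) * c := by group
        _ = _ := by rw [k]; group
    refine hn (ρ ⟨c⁻¹ * w * c, h.cen (mem_C1.2 (by rw [← k']; group))⟩) _ (IsConj.refl _) ?_
    rw [← map_mul]; exact congrArg ρ (Subtype.ext k')
  refine ⟨h, fun a ha o ho => (ck a ha o ho).symm, uq, fun q hq => (lf q hq).imp fun _ h => h.2,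
    fun g a ha a2 hg => ?_, nsq⟩
  have c1 := HK.Lift.conj h.odd h.sj h.e2 a2 ha
  have c2 : IsConj (e : G) (g * a * g⁻¹) := (H.subtype.map_isConj c1).trans (isConj_iff.2 ⟨g, rfl⟩)
  have b2 : (⟨_, hg⟩ : H) * ⟨_, hg⟩ = 1 := Subtype.ext (sq c2 (congrArg Subtype.val h.e2))
  rcases h2 (ρ ⟨_, hg⟩) (by rw [← map_mul, b2, map_one]) with k | k | k
  · rw [show g * a * g⁻¹ = 1 from congrArg Subtype.val (HK.Lift.eq_one h.odd k (HK.Lift.four b2)),
      isConj_one_left] at c2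
    exact absurd (Subtype.ext c2) h.e1
  · obtain ⟨m, rfl⟩ := isConj_iff.1 c1
    obtain ⟨n, k⟩ := isConj_iff.1 (HK.Lift.conj h.odd h.sj h.e2 b2 k)
    replace k := congrArg Subtype.val k
    simp only [coe_mul, coe_inv] at k
    refine (mul_mem_cancel_left (inv_mem n.2)).1 ((mul_mem_cancel_right m.2).1
      (h.cen (mem_centralizer_singleton_iff.2 (mul_inv_eq_iff_eq_mul.1 ?_))))
    rw [← mul_right_inj (n : G), ← mul_left_inj (n : G)⁻¹, k]; group
  · obtain ⟨q, rfl⟩ := hz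
    obtain ⟨c, k⟩ := isConj_iff.1 k
    obtain ⟨b, -, b4, e1⟩ := lf (c * q * c⁻¹) (by rw [conj_pow, four rfl z2]; group)
    refine absurd (congrArg Subtype.val (uq (b * b) ⟨_, hg⟩ (by
      rw [← pow_two, ← pow_mul, mul_comm, pow_mul, b4, one_pow]) (HK.Lift.four b2) ?_)) (nsq _ _ c2)
    rw [map_mul, e1, conj_mul, k]

theorem TP.top [Finite G] [IsSimpleGroup G] {H : Subgroup G} {ρ : H →* Γ} {e : H} (h : TP H ρ e)
    {z : Γ} (z1 : z ≠ 1) (z2 : z * z = 1) (hz : ∃ a, a * a = z)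
    (h2 : ∀ w : Γ, w * w = 1 → w = 1 ∨ IsConj (ρ e) w ∨ IsConj z w)
    (hc : ∀ z' : H, z' * z' = 1 → ρ z' = z → C1 (z' : G) ≤ H) : H = ⊤ := by
  obtain ⟨q, rfl⟩ := hz
  obtain ⟨q, q4, rfl⟩ := h.lift q (four rfl z2)
  rw [← map_mul] at z1 z2 h2 hc
  have y2 : q * q * (q * q) = 1 := by rw [← q4]; simp only [pow_succ, pow_zero, one_mul, mul_assoc]
  have hC := hc _ y2 rfl
  have e1 : (e : G) ≠ 1 := fun k => h.e1 (Subtype.ext k)
  refine eq_top_iff.2 fun g _ => h.fp g e (IsConj.refl _) h.e2 ?_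
  have c : IsConj (e : G) (g * e * g⁻¹) := isConj_iff.2 ⟨g, rfl⟩
  generalize g * e * g⁻¹ = s at c
  obtain ⟨a, a2, a1, c1, c2⟩ := HN.HSD.QF.exists_cent_invol (a := ((q * q : H) : G)) (b := s)
    (congrArg Subtype.val y2) (fun k => z1 (by rw [show q * q = 1 from Subtype.ext k, map_one]))
    (sq c (congrArg Subtype.val h.e2)) (fun k => e1 (isConj_one_left.1 (k ▸ c)))
    fun k => h.nsq q _ (c.trans k.symm) rfl
  have aH := hC (mem_C1.2 c1.symm)
  have a2' : (⟨a, aH⟩ : H) * ⟨a, aH⟩ = 1 := Subtype.ext a2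
  rcases h2 (ρ ⟨a, aH⟩) (by rw [← map_mul, a2', map_one]) with k | k | k
  · exact absurd (congrArg Subtype.val (HK.Lift.eq_one h.odd k (HK.Lift.four a2'))) a1
  · exact h.fp s _ k a2' (by rwa [cj_of c2])
  · obtain ⟨m, k⟩ := isConj_iff.1 (HK.Lift.conj h.odd h.sj y2 a2' k)
    obtain rfl : (m : G) * (q * q : H) * (m : G)⁻¹ = a := congrArg Subtype.val k
    have := hC (mem_C1.2 (show (m : G)⁻¹ * s * m * (q * q : H) = (q * q : H) * ((m : G)⁻¹ * s * m) by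
      calc _ = (m : G)⁻¹ * (s * (m * (q * q : H) * (m : G)⁻¹)) * m := by group
        _ = _ := by rw [c2.eq]; group))
    rwa [mul_mem_cancel_right m.2, mul_mem_cancel_left (inv_mem m.2)] at this

end Cfsg.Lib.M12S
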