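import Cfsg.Agent.M12S.Cases
import Cfsg.Agent.M12S.ExOb

/-! Standard subgroups isomorphic to `M₁₂`: the involution is not a square. -/

set_option autoImplicit false

namespace Cfsg.Lib.M12S

open Subgroup Cfsg.Lib.Gold Cfsg.Lib.Trans Cfsg.Lib.Co3M Cfsg.Lib.Spor.WF

variable {Γ : Type*} [Group Γ]

namespace Z4L

open CasesL

variable {e c : Γ} {A : Subgroup Γ} {π : Γ → P26}

theorem near (h : PF e A π) {x y : Γ} (hx : x ∈ C1 e) (hy : y ∈ C1 e) (hp : π x = π y) :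
    x = y ∨ x = e * y := by
  have h1 : hom h ((⟨x, hx⟩ : C1 e) * (⟨y, hy⟩ : C1 e)⁻¹) = 1 := by
    rw [map_mul, map_inv, mul_inv_eq_one]; exact hp
  simpa only [mul_inv_eq_iff_eq_mul, one_mul] using (h.ker _ (mul_mem hx (inv_mem hy))).1 h1

theorem ext (h : PF e A π) {a b : Γ} (ha : a ∈ A) (hb : b ∈ A) (hp : π a = π b) : a = b :=
  (near h (h.le ha) (h.le hb) hp).resolve_right fun e1 =>
    h.eA ((mul_mem_cancel_right hb).1 (e1 ▸ ha))

theorem pcj (h : PF e A π) {x y : Γ} (hx : x ∈ C1 e) (hy : y ∈ C1 e) :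
    π (x * y * x⁻¹) = π x * π y * (π x)⁻¹ := by
  have := map_mul (hom h) (⟨x, hx⟩ * ⟨y, hy⟩) (⟨x, hx⟩ : C1 e)⁻¹
  rw [map_inv, map_mul (hom h) ⟨x, hx⟩] at this
  exact this

theorem comm (h : PF e A π) {x a : Γ} (hx : x ∈ C1 e) (ha : a ∈ A) (hp : π x * π a = π a * π x) :
    x * a = a * x :=
  of_cj (ext h (mem_normalizer_conj (h.nm hx) ha) ha (by rw [pcj h hx (h.le ha), cj_of hp]))

theorem pcomm (h : PF e A π) {x y : Γ} (hx : x ∈ C1 e) (hy : y ∈ C1 e) (hp : x * y = y * x) :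
    π x * π y = π y * π x := by rw [← h.mul _ hx _ hy, hp, h.mul _ hy _ hx]

theorem quot (h : PF e A π) (f : Fc1 M0) (hc : c ∈ C1 e) (h1 : π c = M0.c) (h2 : c * c = e) :
    (∀ a ∈ C1 e, ∀ b ∈ C1 e, a * b * a⁻¹ * b⁻¹ ∈ A) ∧ ∀ x ∈ C1 e, x * x * x * x ∈ A := by
  have : (A.subgroupOf (C1 e)).Normal := normal_subgroupOf_of_le_normalizer h.nm
  let q := QuotientGroup.mk' (A.subgroupOf (C1 e))
  have hq : ∀ x : C1 e, q x = 1 ↔ (x : Γ) ∈ A := fun x => QuotientGroup.eq_one_iff x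
  have ee : e ∈ C1 e := mem_C1.2 rfl
  have zc : q ⟨c, hc⟩ ∈ zpowers (q ⟨c, hc⟩) := mem_zpowers _
  have ze : q ⟨e, ee⟩ ∈ zpowers (q ⟨c, hc⟩) := by
    have := mul_mem zc zc
    rw [← map_mul] at this
    convert this using 2
    exact Subtype.ext h2.symm
  have k1 : ∀ x : C1 e, π x ∈ M0.A → q x ∈ zpowers (q ⟨c, hc⟩) := fun x hx => by
    rcases inA h x.2 hx with a | a
    · rw [(hq x).2 a]; exact one_mem _
    · refine (mul_mem_cancel_left ze).1 ?_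
      rw [← map_mul, (hq (⟨e, ee⟩ * x)).2 a]; exact one_mem _
  have k2 : ∀ x : C1 e, q x ∈ zpowers (q ⟨c, hc⟩) := fun x => by
    rcases f.Ah_or _ (h.rng _ x.2) with a | a
    · exact k1 x a
    · refine (mul_mem_cancel_left zc).1 ?_
      rw [← map_mul]
      exact k1 _ (by rwa [← h1, ← h.mul _ hc _ x.2] at a)
  have c4 : q ⟨c, hc⟩ ^ (4 : ℤ) = 1 := by
    rw [← map_zpow, hq]
    have : c ^ (4 : ℤ) = 1 := by
      calc _ = c * c * (c * c) := by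
            rw [show (4 : ℤ) = 1 + 1 + (1 + 1) by norm_num]; simp only [zpow_add, zpow_one]
        _ = 1 := by rw [h2, h.e2]
    exact (this ▸ one_mem _ : c ^ (4 : ℤ) ∈ A)
  refine ⟨fun a ha b hb => (hq (⟨a, ha⟩ * ⟨b, hb⟩ * (⟨a, ha⟩ : C1 e)⁻¹ * (⟨b, hb⟩ : C1 e)⁻¹)).1 ?_,
    fun x hx => (hq (⟨x, hx⟩ * ⟨x, hx⟩ * ⟨x, hx⟩ * ⟨x, hx⟩)).1 ?_⟩
  · obtain ⟨i, hi⟩ := mem_zpowers_iff.1 (k2 ⟨a, ha⟩)
    obtain ⟨j, hj⟩ := mem_zpowers_iff.1 (k2 ⟨b, hb⟩)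
    simp only [map_mul, map_inv, ← hi, ← hj]
    group
  · obtain ⟨i, hi⟩ := mem_zpowers_iff.1 (k2 ⟨x, hx⟩)
    simp only [map_mul, ← hi]
    calc _ = (q ⟨c, hc⟩ ^ (4 : ℤ)) ^ i := by group
      _ = 1 := by rw [c4, one_zpow]

theorem exists_T [Finite Γ] (h : PF e A π) (f : Fc1 M0) (hc : c ∈ C1 e) (h1 : π c = M0.c) :
    ∃ T, IsSylowIn 2 T (C1 e) ∧ ∀ x ∈ C1 e, π x ∈ M0.Th → x ∈ T := by
  have hr : M0.Ah ≤ (hom h).range := fun u hu => by
    rcases f.Ah_or u hu with a | a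
    · obtain ⟨x, hx, rfl⟩ := h.sur u a
      exact ⟨⟨x, h.le hx⟩, rfl⟩
    · obtain ⟨x, hx, e1⟩ := h.sur _ a
      exact (mul_mem_cancel_left (MonoidHom.mem_range.2 ⟨⟨c, hc⟩, h1⟩)).1 ⟨⟨x, h.le hx⟩, e1⟩
  have h2 := (f.sylTh.comap (hom h) (isPGroup_of_pow (n := 1) fun x hx => Subtype.ext (by
    rcases (h.ker _ x.2).1 hx with e1 | e1
    · simp [e1]
    · simp [e1, sq, h.e2])) hr).map (C1 e).subtype
  rw [show M0.Ah.comap (hom h) = ⊤ from eq_top_iff.2 fun x _ => h.rng _ x.2, ← MonoidHom.range_eq_map,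
    range_subtype] at h2
  exact ⟨_, h2, fun x hx hp => ⟨⟨x, hx⟩, hp, rfl⟩⟩

theorem cen (h : PF e A π) (f : Fc1 M0) {T : Subgroup Γ} (hT : T ≤ C1 e)
    (mT : ∀ x ∈ C1 e, π x ∈ M0.Th → x ∈ T) {z : Γ} (zA : z ∈ A) (ez : π z = M0.z) {x : Γ}
    (hx : x ∈ T) (hc : ∀ u ∈ T, x * u = u * x) : x = 1 ∨ x = e ∨ x = z ∨ x = e * z := by
  have k : ∀ l, [l] ∈ MQ.W 2 ∧ [l] ∈ MO.W 4 → π x * M0.g0 l = M0.g0 l * π x := fun l hl => by
    obtain ⟨a, ha, e1⟩ := h.sur (M0.g0 l) (let_mem _ l hl.1)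
    rw [← e1]
    exact pcomm h (hT hx) (h.le ha) (hc a (mT a (h.le ha) (e1 ▸ let_mem _ l hl.2)))
  have hA := h.rng _ (hT hx)
  rcases f.cenQ _ (Ah_le hA) (k 2 (by decide +kernel)) (k 3 (by decide +kernel))
    (k 4 (by decide +kernel)) (k 5 (by decide +kernel)) (k 10 (by decide +kernel))
    with e1 | e1 | e1 | e1
  · exact ((h.ker _ (hT hx)).1 e1).imp_right Or.inl
  · exact absurd (e1 ▸ hA) f.eAh
  · exact Or.inr (Or.inr (near h (hT hx) (h.le zA) (e1.trans ez.symm)))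
  · exact absurd ((mul_mem_cancel_right (let_mem _ 2 (by decide +kernel))).1 (e1 ▸ hA)) f.eAh

theorem exists_k [Finite Γ] (h : PF e A π) (f : Fc1 M0) {X : Γ → Prop} (fx : FX e A X)
    (hc : c ∈ C1 e) (h1 : π c = M0.c) (h2 : c * c = e) {z : Γ} (zA : z ∈ A) (ez : π z = M0.z) :
    ∃ k, k * e = e * z * k ∧ k * z = z * k := by
  have : Fact (Nat.Prime 2) := ⟨Nat.prime_two⟩
  obtain ⟨cA, -⟩ := quot h f hc h1 h2
  obtain ⟨T, hT, mT⟩ := exists_T h f hc h1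
  have he : e ∈ T := mT e (mem_C1.2 rfl) (pe h ▸ one_mem _)
  obtain ⟨φ, inj, hr, hX, hA, hk⟩ := fx.par T T A he hT le_rfl hT.isPGroup
    (fun a ha b hb => cA a (hT.le ha) b (hT.le hb)) h.eA
  have hr' : φ.range = T := eq_of_le_of_card_ge hr
    (Nat.card_congr (MonoidHom.ofInjective inj).toEquiv).le
  have hc' : ∀ u ∈ T, φ ⟨_, he⟩ * u = u * φ ⟨_, he⟩ := by
    intro u hu
    obtain ⟨x, rfl⟩ : u ∈ φ.range := hr'.ge hu
    rw [← map_mul, ← map_mul]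
    exact congrArg φ (Subtype.ext (mem_C1.1 (hT.le x.2)).symm)
  have e1 : φ ⟨_, he⟩ = e * z := by
    rcases cen h f hT.le mT zA ez (hr ⟨_, rfl⟩) hc' with e1 | e1 | e1 | e1
    · exact absurd (e1 ▸ one_mem _) hA
    · exact absurd (by rw [e1]; simp) (hk 1 (one_mem _))
    · exact absurd (e1 ▸ zA) hA
    · exact e1
  rw [e1] at hX hc'
  have h3 : T ≤ C1 (e * z) := fun u hu => mem_C1.2 (hc' u hu).symm
  obtain ⟨k, hk⟩ := isConj_iff.1 (fx.fz _ zA hX _ hT h3)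
  have h4 := hT.cj k
  rw [cj_centralizer_set, Set.image_singleton, hk] at h4
  obtain ⟨x, hx, e2⟩ := (h4.of_card_ge hT.isPGroup h3 (card_cj _ _).le).exists_cj_eq h4
  rw [cj_cj] at e2
  have hk' : x * k * e * (x * k)⁻¹ = e * z := by
    rw [← cj_of (mem_C1.1 hx), ← hk]; group
  generalize x * k = m at e2 hk'
  refine ⟨m, of_cj hk', of_cj ?_⟩
  have hm : ∀ u ∈ T, m * u * m⁻¹ ∈ T := fun u hu => e2 ▸ conj_mem_cj.2 hu
  obtain ⟨y, yA, ey⟩ := h.sur M0.y (let_mem _ 3 (by decide +kernel))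
  obtain ⟨r, rA, er⟩ := h.sur M0.r (let_mem _ 5 (by decide +kernel))
  have zT : z ∈ T := mT z (h.le zA) (ez ▸ let_mem _ 2 (by decide +kernel))
  have yT : y ∈ T := mT y (h.le yA) (ey ▸ let_mem _ 3 (by decide +kernel))
  have rT : r ∈ T := mT r (h.le rA) (er ▸ let_mem _ 5 (by decide +kernel))
  have ez2 : r * y * r⁻¹ = z * y := ext h (mul_mem (mul_mem rA yA) (inv_mem rA)) (mul_mem zA yA) (by
    rw [pcj h (h.le rA) (h.le yA), h.mul _ (h.le zA) _ (h.le yA), er, ey, ez]; ow M0)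
  have hA : m * z * m⁻¹ ∈ A := by
    have := cA _ (hT.le (hm r rT)) _ (hT.le (hm y yT))
    rw [eq_mul_inv_of_mul_eq ez2.symm]
    convert this using 1
    group
  have zc : ∀ u ∈ T, u * z = z * u := fun u hu => by
    have := hc' u hu
    rw [mul_assoc, as (mem_C1.1 (hT.le hu)), mul_right_inj] at this
    exact this.symm
  rcases cen h f hT.le mT zA ez (hm z zT) (fun u hu => by
    have := cj_comm (k := m) (zc _ (mem_cj.1 (e2.ge hu)))
    simp only [mul_assoc, mul_inv_cancel_left, mul_inv_cancel, mul_one] at this ⊢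
    exact this.symm) with e3 | e3 | e3 | e3
  · rw [conj_eq_one_iff.1 e3, (h.ker 1 (one_mem _)).2 (Or.inl rfl)] at ez
    exact absurd ez (by change _ ≠ _; ow M0)
  · exact absurd (e3 ▸ hA) h.eA
  · exact e3
  · exact absurd ((mul_mem_cancel_right zA).1 (e3 ▸ hA)) h.eA

theorem cje (h : PF e A π) {k z x : Γ} (z2 : z * z = 1) (k1 : k * e = e * z * k)
    (k2 : k * z = z * k) (x1 : x * e = e * x) (x2 : x * z = z * x) :
    k * x * k⁻¹ ∈ C1 e ∧ k * x * k⁻¹ * z = z * (k * x * k⁻¹) := by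
  have h3 := cj_comm (k := k) x2
  have h4 := cj_comm (k := k) (a := x) (b := e * z) (by rw [as x1, x2, mul_assoc])
  have h5 : k * (e * z) = e * k := by rw [← mul_assoc, k1, mul_assoc, k2, mul_assoc, as1 z2]
  rw [cj_of k2] at h3
  rw [cj_of h5] at h4
  exact ⟨mem_C1.2 h4, h3⟩

end Z4L

open Z4L CasesL in
theorem PF.not_z4 [Finite Γ] {e : Γ} {A : Subgroup Γ} {π : Γ → P26} (h : PF e A π) (f : Fc1 M0)
    {X : Γ → Prop} (fx : FX e A X) {c : Γ} (hc : c ∈ C1 e) (h1 : π c = M0.c) (h2 : c * c = e) :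
    False := by
  obtain ⟨cA, c4⟩ := quot h f hc h1 h2
  obtain ⟨z, zA, ez⟩ := h.sur M0.z (let_mem _ 2 (by decide +kernel))
  obtain ⟨t, tA, et⟩ := h.sur M0.t (let_mem _ 4 (by decide +kernel))
  obtain ⟨a, aA, ea⟩ := h.sur M0.a2 (let_mem _ 8 (by decide +kernel))
  obtain ⟨p, pA, ep⟩ := h.sur M0.p (let_mem _ 14 (by decide +kernel))
  have p1 : π 1 = 1 := (h.ker 1 (one_mem _)).2 (Or.inl rfl)
  have z2 : z * z = 1 := ext h (mul_mem zA zA) (one_mem _) (by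
    rw [h.mul _ (h.le zA) _ (h.le zA), ez, p1]; ow M0)
  have p3 : p * p * p = 1 := ext h (mul_mem (mul_mem pA pA) pA) (one_mem _) (by
    rw [h.mul _ (h.le (mul_mem pA pA)) _ (h.le pA), h.mul _ (h.le pA) _ (h.le pA), ep, p1]; ow M0)
  obtain ⟨k, k1, k2⟩ := exists_k h f fx hc h1 h2 zA ez
  obtain ⟨k, k1, k2, k3⟩ : ∃ k, k * e = e * z * k ∧ k * z = z * k ∧ k * p = p * k := by
    obtain ⟨x1, x2⟩ := cje h z2 k1 k2 (mem_C1.1 (h.le pA))
      (comm h (h.le pA) zA (by rw [ep, ez]; ow M0))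
    have x3 : k * p * k⁻¹ * (k * p * k⁻¹) * (k * p * k⁻¹) = 1 := by
      rw [conj_mul, conj_mul, p3]; group
    have xA := c4 _ x1
    rw [x3, one_mul] at xA
    rcases f.three _ (f.memY _ (Ah_le (h.rng _ x1)) (ez ▸ pcomm h x1 (h.le zA) x2)) (by
      rw [← h.mul _ x1 _ x1, ← h.mul _ (mul_mem x1 x1) _ x1, x3, p1]) with e1 | ⟨m, hm, e1⟩
    · rw [conj_eq_one_iff.1 (ext h xA (one_mem _) (e1.trans p1.symm)), p1] at ep
      exact absurd ep (by change _ ≠ _; ow M0)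
    · have R1A : M0.R1 ≤ M0.A := sub_le fun L hL => wv_mem_sub _ (by revert L; decide +kernel)
      obtain ⟨n, nA, rfl⟩ := h.sur m (R1A hm)
      have n1 := mem_C1.1 (h.le nA)
      have n2 := comm h (h.le nA) zA (by
        rw [ez]; exact mem_C1.1 (ObL.Y_z _ (ObL.R1_le _ hm)))
      have n3 := ext h (mul_mem (mul_mem nA xA) (inv_mem nA)) pA (by
        rw [pcj h (h.le nA) x1, ep, cj_of e1])
      exact ⟨n * k, by rw [mul_assoc, k1, mul_assoc, as n1, as n2, mul_assoc],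
        by rw [mul_assoc, k2, as n2], of_cj (Eq.trans (by group) n3)⟩
  have mA := mul_mem tA aA
  have wC : c * (t * a) ∈ C1 e := mul_mem hc (h.le mA)
  have pw : π (c * (t * a)) = M0.c * (M0.t * M0.a2) := by
    rw [h.mul _ hc _ (h.le mA), h.mul _ (h.le tA) _ (h.le aA), h1, et, ea]
  have w2 : c * (t * a) * (c * (t * a)) = e * z := by
    refine (near h (mul_mem wC wC) (h.le zA) (by
      rw [h.mul _ wC _ wC, pw, ez]; ow M0)).resolve_left fun e1 => h.eA ?_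
    have h3 := mul_mem (mul_mem (inv_mem (mem_normalizer_conj (h.nm hc) mA)) zA) (inv_mem mA)
    rw [← e1] at h3
    rw [← h2]
    convert h3 using 1
    group
  have wz := comm h wC zA (by rw [pw, ez]; ow M0)
  have wp := comm h wC pA (by rw [pw, ep]; ow M0)
  generalize c * (t * a) = w at wC w2 wz wp
  obtain ⟨x1, x2⟩ := cje h z2 k1 k2 (mem_C1.1 wC) wz
  have x3 := cj_comm (k := k) wp
  rw [cj_of k3] at x3
  have x4 : k * w * k⁻¹ * (k * w * k⁻¹) = e := by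
    rw [conj_mul, w2, ← conj_mul, cj_of k1, cj_of k2, mul_assoc, z2, mul_one]
  generalize k * w * k⁻¹ = x at x1 x2 x3 x4
  refine h.e1 (x4.symm.trans ?_)
  rcases f.cz12 _ (h.rng _ x1) (ez ▸ pcomm h x1 (h.le zA) x2) (ep ▸ pcomm h x1 (h.le pA) x3)
    (by rw [← h.mul _ x1 _ x1, x4, pe h]) with e1 | e1
  · rcases (h.ker _ x1).1 e1 with rfl | rfl
    · exact one_mul 1
    · exact h.e2
  · rcases near h x1 (h.le zA) (e1.trans ez.symm) with rfl | rfl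
    · exact z2
    · rw [mul_assoc, as (mem_C1.1 (h.le zA)), z2, mul_one, h.e2]

end Cfsg.Lib.M12S
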