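import Cfsg.Agent.Co3M.ModC
import Cfsg.Agent.Co3M.Kit2

/-! The group `2 × Aut(M₁₂)`: a permutation model and a frame of generators. -/

set_option autoImplicit false
set_option maxRecDepth 100000
set_option linter.unusedSimpArgs false
set_option maxHeartbeats 1000000

namespace Cfsg.Lib.M12S

open Subgroup Cfsg.Lib.Spor Cfsg.Lib.Spor.Bulk Cfsg.Lib.Spor.PK Cfsg.Lib.Spor.WF
open Cfsg.Lib.Co3M

/-- inverse letters -/
noncomputable def iO (l : ℕ) : ℕ := PK.nth 0 [0,1,2,3,4,5,7,6,9,8,11,10,13,12,15,14,16,18,17] l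

/-- codes of the letters -/
def csO : List ℕ := [12154766112340623027427501311078626509035951824549395271936225120358912,
    11670434882956928525803776301761426190801353280802269909277648934670848,
    12154760555154234558720201907108093944031520494741850270073796970156544,
    12154766112340623000541408301943877118904271958434323349529903026685979,
    12154762402738298784628302843044160156889111812180412583896796008035876,
    12154749437130372949688748877974626759844126027843054396830361785204745,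
    12154760555154234531519144278951640573678273980378285144132702187566601,
    12154760555154234450861894078822779494773602851057395790788517078499364,
    12154762413563945472877967545178179141411728625100100811254963701809188,
    12154764253930912086383642263244385936437032950043891743068157645436425,
    12154762413563945445676909716707031733257140851112404459282164421759488,
    12154764253930911978525335436532577495120269516697564284233155904016896,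
    12154754994316761256343926450689946765012823630905821241293213454606920,
    12154751281049339364752984614260497823675667198971282627663015375301650,
    12154766094213137907435045754905391457094367887702603371049261719631360,
    12154766097864057015447877051569033215021561023931332492055760602941440,
    12154743854556865289313678659127570077848878569989545787946296030063212,
    12154745738339502899953850218926142123712811763540445508697384467829320,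
    12154754983469902034621976968474431970661565304663251502820074956264035]

/-- permutation model -/
@[reducible] def MQ : PM where
  w := 9
  n := 26
  cs := csO
  SW := [([[1],[2],[3],[4],[5],[6],[7],[8],[9],[10],[11],[12],[13],[14],[15],[16]],
    [⟨24, [1600], [[5, 12, 3], [3, 8, 7], [15, 13, 9]]⟩,
     ⟨2, [192, 449, 1474, 704, 65, 834, 256, 1154, 1216, 1345, 642, 384, 577, 1410, 770, 961, 1, 1026, 1089, 514,
    897, 321, 1281], [[0, 1, 2, 1, 0, 0, 2], [1, 0, 0, 1, 2, 0, 2]]⟩,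
     ⟨0, [448, 193, 320, 65, 384, 257, 704, 513, 641, 577], [[0, 0, 0, 1, 1], [1, 0, 1]]⟩,
     ⟨1, [576, 513, 321, 192, 385, 640, 705, 448, 256], [[0, 0], [1, 0, 0, 0, 0, 0, 1]]⟩,
     ⟨3, [448, 257, 384, 705, 641, 320, 512, 577], [[0, 0, 1, 0], [0, 0, 0, 1, 0, 0, 0]]⟩,
     ⟨4, [640, 577, 320, 705, 448, 512, 385], []⟩]),
   ([[2],[3],[4],[5],[6],[7],[8],[9],[10],[11],[12],[13],[14],[15],[16]],
    [⟨2, [320, 450, 579, 388, 522, 11, 910, 643, 714, 203, 1102, 267, 1230, 74, 1358, 1166, 1294, 782, 1475, 1422,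
    974, 1038, 846], [[0, 10, 13, 11, 0, 0, 11, 12, 11, 3], [7, 0, 3, 13, 5]]⟩,
     ⟨0, [320, 384, 64, 705, 640, 257, 192, 577, 449, 513], [[0, 0, 0, 1, 0, 1, 0, 0, 0], [0, 0, 0, 0, 1, 1, 0, 1,
    0]]⟩,
     ⟨1, [256, 705, 321, 512, 641, 576, 385, 449, 193], [[0, 1, 0, 0, 0, 1, 0], [1, 0, 0]]⟩,
     ⟨3, [640, 704, 257, 577, 385, 513, 320, 449], [[0, 0, 1, 1, 0, 0, 1], [1, 1, 0]]⟩,
     ⟨4, [448, 641, 320, 385, 576, 704, 513], []⟩]),
   ([[2],[3],[4],[5],[6],[7],[8],[9],[10],[11],[12],[13],[14],[15]],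
    [⟨2, [320, 450, 579, 388, 522, 11, 643, 714, 203, 267, 74], [[2, 11, 12, 10, 0], [10, 12, 11]]⟩,
     ⟨0, [512, 257, 64, 385, 192, 449, 704, 320, 577, 640], [[0, 1, 0, 0, 0, 0, 0], [1, 0]]⟩,
     ⟨1, [512, 321, 384, 256, 704, 449, 641, 576, 192], [[0, 0, 1, 1], [1, 0, 0, 1, 0, 1, 0, 0, 1, 0, 0, 1, 0]]⟩,
     ⟨3, [576, 705, 448, 513, 640, 321, 384, 256], [[1, 0, 1, 1, 1], [0, 1]]⟩,
     ⟨4, [448, 577, 320, 641, 512, 704, 385], []⟩]),
   ([[1],[2],[3],[4],[5],[6],[7],[8],[9],[10],[11],[12],[13],[14],[15]],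
    [⟨24, [1600], [[13], [12]]⟩,
     ⟨2, [448, 1, 576, 257, 513, 385, 192, 641, 65, 705, 320], [[0, 1, 1, 0, 1, 0, 1, 0], [0, 1, 1, 0, 0, 1, 1,
    0]]⟩,
     ⟨0, [704, 257, 577, 320, 193, 512, 640, 448, 65, 385], [[1, 0, 0, 0, 1, 0, 1, 1, 0, 1], [1, 0, 0, 0, 0, 0,
    1]]⟩,
     ⟨1, [576, 704, 384, 449, 512, 256, 641, 193, 320], [[0, 0, 1, 0, 1, 0, 0], [1]]⟩,
     ⟨3, [256, 576, 385, 704, 513, 449, 640, 320], [[0, 0, 0, 1, 0, 1, 0], [0, 0, 1, 0, 0]]⟩,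
     ⟨4, [704, 513, 320, 385, 576, 448, 641], []⟩])]

instance : NeZero MQ.n := ⟨by decide⟩

theorem MQ_ok : MQ.ok = true := by decide +kernel

theorem MQ_subs : MQ.subsOK = true := by decide +kernel

/-- permutation model -/
@[reducible] def MO : PM where
  w := 9
  n := 26
  cs := csO
  SW := [([[1],[2],[3],[4],[5],[6],[8],[10],[16]],
    [⟨24, [1600], [[4], [8], [5]]⟩,
     ⟨2, [576, 897, 386, 1345, 1472, 1154, 512, 322, 1216, 1410, 705, 1282, 1090, 640, 450], [[1, 2, 0, 2, 1, 0],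
    [1, 2, 2, 0, 2, 0, 1]]⟩,
     ⟨0, [64, 257, 192], [[0, 1]]⟩,
     ⟨1, [256], []⟩]),
   ([[1],[2],[3],[4],[5],[6],[8],[10],[16],[14]],
    [⟨24, [1600], [[3, 8, 9], [2, 1, 5]]⟩,
     ⟨2, [896, 385, 576, 1153, 1408, 321, 1472, 641, 1089, 512, 449, 1280, 1217, 705, 1344], [[0, 0, 0, 1, 0], [0,
    1, 1, 1, 0, 1]]⟩,
     ⟨0, [256, 64, 193], [[1], [0, 1, 1, 0, 0]]⟩,
     ⟨1, [256, 193], [[1, 0]]⟩,
     ⟨3, [256], []⟩]),
   ([[1],[2],[3],[4],[6],[8],[10],[16]],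
    [⟨24, [1600], [[7, 4], [3, 7], [3, 5], [1, 3]]⟩,
     ⟨2, [1152, 1217, 450, 387, 320, 898, 1090], [[0, 0, 2, 3], [3, 1, 2, 0]]⟩,
     ⟨0, [256, 192, 64], [[0, 1]]⟩,
     ⟨1, [256], []⟩]),
   ([[2],[3]],
    [⟨2, [320], [[0, 1]]⟩,
     ⟨0, [192], []⟩]),
   ([[2],[3],[4],[5],[6],[8],[10],[16]],
    [⟨2, [320, 450, 579, 388, 903, 643, 1095, 707, 1223, 517, 1351, 1159, 1475, 1415, 1283], [[5], [2, 4]]⟩,
     ⟨0, [64, 193, 256], [[1, 0, 0]]⟩,
     ⟨1, [256], []⟩]),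
   ([[2],[3],[4],[5],[6],[8],[10],[16],[14]],
    [⟨2, [320, 450, 579, 388, 903, 643, 1095, 707, 1223, 517, 1351, 1159, 1475, 1415, 1283], [[4, 7, 8, 7, 0], [4,
    6]]⟩,
     ⟨0, [64, 257, 193], [[1, 1, 0, 1, 0], [0, 1]]⟩,
     ⟨1, [192, 257], [[0, 1]]⟩,
     ⟨3, [256], []⟩]),
   ([[2],[3],[4],[5],[12],[16],[17]],
    [⟨2, [320, 450, 579, 516, 901, 386, 643, 708, 1093, 1221, 68, 1349, 4, 1285, 1475, 1157, 260, 1413, 196, 837,
    773, 964, 1029], [[0, 4, 3, 2], [0, 4, 4, 6, 4, 0]]⟩,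
     ⟨0, [704, 321, 192, 512], [[0, 1]]⟩,
     ⟨1, [576, 640, 384], []⟩]),
   ([[2],[3],[4],[12],[16],[17]],
    [⟨2, [320, 450, 515, 900, 386, 707, 1092, 643, 1220, 3, 1284, 579, 1156, 195, 1476, 259, 1412, 772, 67, 1348,
    964, 1028, 836], [[5, 3, 3], [0, 3, 5, 0]]⟩,
     ⟨0, [320, 705, 192, 513], [[0, 1]]⟩,
     ⟨1, [640], []⟩]),
   ([[2],[3],[4],[5],[6],[8],[10]],
    [⟨2, [320, 450, 579, 388, 643, 707, 517], [[6, 2], [2, 4]]⟩,
     ⟨0, [256, 193, 64], [[0, 1, 0]]⟩,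
     ⟨1, [256], []⟩]),
   ([[2],[3],[4],[5],[6],[8],[10],[14]],
    [⟨2, [320, 450, 579, 388, 643, 707, 517], [[3, 5, 7, 6, 3], [3, 7]]⟩,
     ⟨0, [257, 65, 192], [[1, 1, 0, 1, 0, 1], [1, 0, 1, 1]]⟩,
     ⟨1, [192, 256], [[1]]⟩,
     ⟨3, [256], []⟩]),
   ([[2],[3],[4],[5],[10]],
    [⟨2, [320, 450, 579, 386, 643, 707, 515], [[0, 1], [4, 2]]⟩,
     ⟨0, [192, 257, 65], []⟩]),
   ([[2],[3],[10,4]],
    [⟨2, [320], [[0, 2], [0, 1]]⟩,
     ⟨0, [256, 193, 65], []⟩])]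

instance : NeZero MO.n := ⟨by decide⟩

theorem MO_ok : MO.ok = true := by decide +kernel

theorem MO_subs : MO.subsOK = true := by decide +kernel

theorem MO_sat : MO.satB 19 iO [] = true := by decide +kernel

theorem MQ_cz : MQ.centB [[1],[2],[3],[4],[5],[6],[7],[8],[9],[10],[11],[12],[13],[14],[15],[16]]
    [⟨2, [321, 451, 580, 389, 523, 12, 911, 644, 715, 204, 1103, 268, 1231, 75, 1359, 1167, 1295, 783, 1476, 1423,
    975, 1039, 847], [[11, 13, 12, 1, 11, 10, 4], [0, 11, 14, 12], [4, 11, 14, 11, 1, 0]]⟩,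
     ⟨5, [450, 704, 65, 386, 192, 641, 512, 257, 577, 1], [[2, 0, 2, 0, 0, 2], [2, 2, 0, 2, 0, 1, 2]]⟩,
     ⟨6, [704, 576, 1, 512, 65, 640, 448, 193, 257], [[0, 0, 1, 1, 0, 1, 0], [1, 0, 0, 0], [0, 0, 1, 0, 0, 1, 0]]⟩,
     ⟨7, [193, 64, 257, 514, 0, 642, 705, 578], [[1, 0, 0, 0, 1, 1], [1, 1, 2, 1, 2, 1, 1], [1, 0, 2, 1, 0, 0, 1]]⟩,
     ⟨8, [64, 1, 642, 704, 194, 576, 257], [[2, 1, 0]]⟩,
     ⟨11, [], [[0]]⟩,
     ⟨9, [], [[0]]⟩,
     ⟨10, [], [[0]]⟩,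
     ⟨14, [], [[0]]⟩,
     ⟨17, [], [[0]]⟩,
     ⟨18, [], [[0]]⟩,
     ⟨19, [], [[0]]⟩,
     ⟨20, [], [[0]]⟩,
     ⟨23, [], [[0]]⟩,
     ⟨21, [], [[0]]⟩,
     ⟨22, [], [[0]]⟩,
     ⟨0, [], [[0]]⟩,
     ⟨1, [], [[0]]⟩,
     ⟨3, [], [[0]]⟩,
     ⟨4, [], [[0]]⟩,
     ⟨12, [], [[0]]⟩,
     ⟨13, [], [[0]]⟩,
     ⟨15, [], [[0]]⟩,
     ⟨16, [], [[0]]⟩,
     ⟨24, [1600], []⟩]
    [1] [2] 380160 768 [] = true := by decide +kernel

theorem MQ_hz : MQ.centB [[2],[3],[4],[5],[6],[7],[8],[9],[10],[11],[12],[13],[14],[15],[16]]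
    [⟨2, [320, 450, 579, 388, 522, 11, 910, 643, 714, 203, 1102, 267, 1230, 74, 1358, 1166, 1294, 782, 1475, 1422,
    974, 1038, 846], [[10, 8, 3, 2, 11, 12, 10, 0], [4, 13, 0, 14, 3, 5, 14, 11]]⟩,
     ⟨5, [384, 193, 64, 641, 577, 704, 449, 512, 0, 257], [[0, 1, 1, 1, 1, 0, 0, 1, 0], [0, 1, 0, 1, 0, 1, 0, 1,
    0]]⟩,
     ⟨6, [577, 512, 65, 192, 257, 640, 705, 0, 448], [[0], [1, 1, 0, 0, 1, 1, 1]]⟩,
     ⟨7, [704, 1, 64, 576, 641, 257, 512, 192], [[0, 1], [1, 1, 0]]⟩,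
     ⟨8, [64, 641, 704, 193, 0, 256, 577], []⟩]
    [1] [2] 190080 384 [] = true := by decide +kernel

theorem MQ_ht : MQ.centB [[2],[3],[4],[5],[6],[7],[8],[9],[10],[11],[12],[13],[14],[15],[16]]
    [⟨0, [193, 258, 67, 138, 523, 782, 330, 715, 974, 458, 651, 1038, 394, 587, 846, 910, 1294, 1102, 1486, 1230,
    1422, 1166, 1358], [[2, 12, 1], [3, 10, 13, 11, 1]]⟩,
     ⟨4, [192, 385, 64, 448, 513, 641, 128, 576, 705, 321], [[0, 0, 1, 1, 0, 1, 0], [1, 0, 1, 0, 1, 0]]⟩,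
     ⟨1, [384, 321, 448, 705, 128, 640, 512, 193, 577], [[0, 1, 0, 1, 0, 0, 0], [1, 0, 1, 0, 1]]⟩,
     ⟨3, [704, 129, 384, 577, 320, 449, 640, 512], [[1, 1, 1, 0], [0, 1, 1]]⟩,
     ⟨2, [704, 449, 320, 641, 576, 512, 385], []⟩]
    [1] [4] 190080 480 [] = true := by decide +kernel

theorem MQ_hc : MQ.centB [[2],[3],[4],[5],[6],[7],[8],[9],[10],[11],[12],[13],[14],[15],[16]]
    [⟨0, [193, 258, 67, 138, 523, 782, 330, 715, 974, 458, 651, 1038, 394, 587, 846, 910, 1294, 1102, 1486, 1230,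
    1422, 1166, 1358], [[2, 12, 1], [1, 11, 12, 10, 1]]⟩,
     ⟨12, [1024, 960, 1409, 1280, 1216, 1344, 897, 1472, 1088, 1153, 833], [[0, 1, 0, 0, 0, 0, 1, 0, 1, 0, 0, 0, 0,
    1, 0, 0], [0, 0, 1, 0]]⟩,
     ⟨1, [256, 192, 321, 129, 448, 513, 384, 705, 640, 576], [[0, 0, 1, 0, 0, 1, 0, 1, 1, 0], [1]]⟩,
     ⟨13, [960, 1473, 1216, 1281, 1152], [[1, 0, 1, 1], [0, 1, 0, 0]]⟩,
     ⟨2, [576, 256, 640, 321], [[0, 1]]⟩,
     ⟨14, [1408], []⟩]
    [1] [16] 190080 240 [] = true := by decide +kernel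

variable {G : Type*} [Group G]

/-- A frame of generators of a subgroup `2 × Aut(M₁₂)`. -/
structure OW (G : Type*) [Group G] where
  /-- the letters -/
  g0 : ℕ → G
  emb : Emb MO.m g0

/-- A frame of generators of the centralizer `2 × Aut(M₁₂)` of an involution. -/
structure OF (G : Type*) [Group G] extends OW G where
  cent : sub g0 (MQ.W 0) = centralizer {g0 1}

/-- the permutation group of the model -/
abbrev P26 : Type := Equiv.Perm (Fin MO.n)

/-- the frame of the model -/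
noncomputable def M0 : OW P26 := ⟨MO.m, emb_refl _⟩

namespace OW

variable (F : OW G)

/-- a generator -/
def e : G := F.g0 1
/-- a generator -/
def z : G := F.g0 2
/-- a generator -/
def y : G := F.g0 3
/-- a generator -/
def t : G := F.g0 4
/-- a generator -/
def r : G := F.g0 5
/-- a generator -/
def a1 : G := F.g0 6
/-- a generator -/
def a2 : G := F.g0 8
/-- a generator -/
def a3 : G := F.g0 10
/-- a generator -/
def g : G := F.g0 12
/-- a generator -/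
def p : G := F.g0 14
/-- a generator -/
def c : G := F.g0 16
/-- a generator -/
def v : G := F.g0 17

/-- a subgroup -/
def C : Subgroup G := sub F.g0 (MQ.W 0)
/-- a subgroup -/
def Ah : Subgroup G := sub F.g0 (MQ.W 1)
/-- a subgroup -/
def A : Subgroup G := sub F.g0 (MQ.W 2)
/-- a subgroup -/
def C0 : Subgroup G := sub F.g0 (MQ.W 3)
/-- a subgroup -/
def T : Subgroup G := sub F.g0 (MO.W 0)
/-- a subgroup -/
def Y : Subgroup G := sub F.g0 (MO.W 1)
/-- a subgroup -/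
def D : Subgroup G := sub F.g0 (MO.W 2)
/-- a subgroup -/
def V : Subgroup G := sub F.g0 (MO.W 3)
/-- a subgroup -/
def Th : Subgroup G := sub F.g0 (MO.W 4)
/-- a subgroup -/
def Cz : Subgroup G := sub F.g0 (MO.W 5)
/-- a subgroup -/
def Ct : Subgroup G := sub F.g0 (MO.W 6)
/-- a subgroup -/
def Cc : Subgroup G := sub F.g0 (MO.W 7)
/-- a subgroup -/
def T1 : Subgroup G := sub F.g0 (MO.W 8)
/-- a subgroup -/
def R1 : Subgroup G := sub F.g0 (MO.W 9)
/-- a subgroup -/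
def Q : Subgroup G := sub F.g0 (MO.W 10)
/-- a subgroup -/
def E : Subgroup G := sub F.g0 (MO.W 11)

theorem sat : Sat F.g0 19 iO [] := sat_of_emb F.emb (PM.sat MO_ok MO_sat)

theorem l1 : F.g0 1 = F.e := rfl
theorem l2 : F.g0 2 = F.z := rfl
theorem l3 : F.g0 3 = F.y := rfl
theorem l4 : F.g0 4 = F.t := rfl
theorem l5 : F.g0 5 = F.r := rfl
theorem l6 : F.g0 6 = F.a1 := rfl
theorem l7 : F.g0 7 = F.a1⁻¹ := F.sat.inv 6 (by omega)
theorem l8 : F.g0 8 = F.a2 := rfl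
theorem l9 : F.g0 9 = F.a2⁻¹ := F.sat.inv 8 (by omega)
theorem l10 : F.g0 10 = F.a3 := rfl
theorem l11 : F.g0 11 = F.a3⁻¹ := F.sat.inv 10 (by omega)
theorem l12 : F.g0 12 = F.g := rfl
theorem l13 : F.g0 13 = F.g⁻¹ := F.sat.inv 12 (by omega)
theorem l14 : F.g0 14 = F.p := rfl
theorem l15 : F.g0 15 = F.p⁻¹ := F.sat.inv 14 (by omega)
theorem l16 : F.g0 16 = F.c := rfl
theorem l17 : F.g0 17 = F.v := rfl
theorem l18 : F.g0 18 = F.v⁻¹ := F.sat.inv 17 (by omega)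

theorem card_C : Nat.card F.C = 380160 := PM.card_of_emb MQ_ok MQ_subs F.emb 0
theorem card_Ah : Nat.card F.Ah = 190080 := PM.card_of_emb MQ_ok MQ_subs F.emb 1
theorem card_A : Nat.card F.A = 95040 := PM.card_of_emb MQ_ok MQ_subs F.emb 2
theorem card_C0 : Nat.card F.C0 = 190080 := PM.card_of_emb MQ_ok MQ_subs F.emb 3
theorem card_T : Nat.card F.T = 256 := PM.card_of_emb MO_ok MO_subs F.emb 0
theorem card_Y : Nat.card F.Y = 768 := PM.card_of_emb MO_ok MO_subs F.emb 1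
theorem card_D : Nat.card F.D = 128 := PM.card_of_emb MO_ok MO_subs F.emb 2
theorem card_V : Nat.card F.V = 4 := PM.card_of_emb MO_ok MO_subs F.emb 3
theorem card_Th : Nat.card F.Th = 128 := PM.card_of_emb MO_ok MO_subs F.emb 4
theorem card_Cz : Nat.card F.Cz = 384 := PM.card_of_emb MO_ok MO_subs F.emb 5
theorem card_Ct : Nat.card F.Ct = 480 := PM.card_of_emb MO_ok MO_subs F.emb 6
theorem card_Cc : Nat.card F.Cc = 240 := PM.card_of_emb MO_ok MO_subs F.emb 7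
theorem card_T1 : Nat.card F.T1 = 64 := PM.card_of_emb MO_ok MO_subs F.emb 8
theorem card_R1 : Nat.card F.R1 = 192 := PM.card_of_emb MO_ok MO_subs F.emb 9
theorem card_Q : Nat.card F.Q = 32 := PM.card_of_emb MO_ok MO_subs F.emb 10
theorem card_E : Nat.card F.E = 8 := PM.card_of_emb MO_ok MO_subs F.emb 11

theorem card_cz : Nat.card ↥(F.C ⊓ centralizer {F.z}) = 768 := by
  have := (PM.cent_of_emb MQ_ok F.emb (PM.card_sub MQ_ok MQ_subs 0) MQ_cz).1
  rwa [wv_cons, wv_nil, one_mul] at this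

theorem card_hz : Nat.card ↥(F.Ah ⊓ centralizer {F.z}) = 384 := by
  have := (PM.cent_of_emb MQ_ok F.emb (PM.card_sub MQ_ok MQ_subs 1) MQ_hz).1
  rwa [wv_cons, wv_nil, one_mul] at this

theorem card_ht : Nat.card ↥(F.Ah ⊓ centralizer {F.t}) = 480 := by
  have := (PM.cent_of_emb MQ_ok F.emb (PM.card_sub MQ_ok MQ_subs 1) MQ_ht).1
  rwa [wv_cons, wv_nil, one_mul] at this

theorem card_hc : Nat.card ↥(F.Ah ⊓ centralizer {F.c}) = 240 := by
  have := (PM.cent_of_emb MQ_ok F.emb (PM.card_sub MQ_ok MQ_subs 1) MQ_hc).1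
  rwa [wv_cons, wv_nil, one_mul] at this

theorem ws : F.e = wv F.g0 [1] ∧ F.z = wv F.g0 [2] ∧ F.y = wv F.g0 [3] ∧
    F.t = wv F.g0 [4] ∧ F.r = wv F.g0 [5] ∧ F.a1 = wv F.g0 [6] ∧
    F.a2 = wv F.g0 [8] ∧ F.a3 = wv F.g0 [10] ∧ F.g = wv F.g0 [12] ∧
    F.p = wv F.g0 [14] ∧ F.c = wv F.g0 [16] ∧ F.v = wv F.g0 [17] :=
  ⟨w_let _ _, w_let _ _, w_let _ _, w_let _ _, w_let _ _, w_let _ _,
    w_let _ _, w_let _ _, w_let _ _, w_let _ _, w_let _ _, w_let _ _⟩

/-- decide an equation between words in the model -/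
macro "ow " F:term : tactic =>
  `(tactic| (simp (disch := decide +kernel) only [OW.ws $F, w_mul, w_one (OW.g0 $F),
      w_inv (OW.sat $F)] <;> first
        | (refine w_eq MO_ok (OW.emb $F) ?_; decide +kernel)
        | (refine w_ne MO_ok (OW.emb $F) ?_; decide +kernel)))

theorem holds {p : Fm} (hd : MO.dec p = true) : p.sem (fun i => sub F.g0 (MO.W i)) F.g0 :=
  PM.holds MO_ok MO_subs F.emb hd

theorem v_eq : F.v = F.g * F.p * F.g * F.p * F.g * F.p⁻¹ * F.g * F.p * F.g * F.p⁻¹ * F.g * F.p⁻¹ := by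
  ow F

end OW

end Cfsg.Lib.M12S
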