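import Cfsg.Agent.M12S.KKit
import Cfsg.Agent.M12S.Fc1

/-! Standard subgroups isomorphic to `M₁₂`: tools for the outer case. -/

set_option autoImplicit false
set_option maxRecDepth 100000
set_option linter.unusedSimpArgs false
set_option maxHeartbeats 1000000

namespace Cfsg.Lib.M12S

open Subgroup Cfsg.Lib.Spor Cfsg.Lib.Spor.Bulk Cfsg.Lib.Spor.PK Cfsg.Lib.Spor.WF
open Cfsg.Lib.Co3M Cfsg.Lib.Gold Cfsg.Lib.Trans

/-- inverse letters -/
noncomputable def iB (l : ℕ) : ℕ := PK.nth 0 [0,1,2,3,4,5,7,6,9,8,11,10,13,12,14,15,16,17] l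

/-- relators -/
def r0 : List (List ℕ) := [[3,6,6], [2,10,10], [10,8,6], [11,7,10,6], [2,3,2,3], [6,4,6,4], [10,4,10,4], [7,13,10,12],
    [9,13,6,12], [12,12,12], [4,13,4,12], [4,5,4,5], [11,5,10,5], [9,5,6,5], [12,5,12,5], [4,1,4,1],
    [5,1,5,1], [7,1,6,1], [11,1,10,1], [13,1,12,1], [1,14,1,14], [2,14,2,14], [3,14,3,14],
    [4,14,4,14], [13,14,12,14], [7,3,2,14,6,14], [9,2,14,8,14], [11,3,14,10,14], [5,4,14,5,14]]

/-- translation of the letters -/
def dO : List (List ℕ) := [[],[1],[2],[3],[4],[5],[6],[7],[8],[9],[10],[11],[12],[13],[16]]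

noncomputable def tcO0_C : SeqCert := ⟨nat_lit 5, nat_lit 9, nat_lit 18, nat_lit 0x111110100f0f0e0e0c0d0d0c0a0b0b0a0809090806070706050504040303020201010000, (NT.leaf (nat_lit 0) (nat_lit 0x88100e080982818b0091341a0d007341dd0027c02d30087ac0de7083241ccf0663c206f0a4bc2468032b419a80b68c09a60b534204c022b02d8b0a6100d86063b00964092a428ab0942c0d4b074ac25470250c2cca064a808490a2141ca8023a02c280631c20870a09c2c66031901c440610c2e020a78821c2096842181075841941034842d000a38024c0082801c80061800c40020800000)), (NT.node (nat_lit 12) (NT.node (nat_lit 6) (NT.node (nat_lit 3) (NT.node (nat_lit 1) (NT.leaf (nat_lit 32768) (nat_lit 0x60306)) (NT.node (nat_lit 2) (NT.leaf (nat_lit 16385) (nat_lit 0x70307)) (NT.leaf (nat_lit 32769) (nat_lit 0x30707)))) (NT.node (nat_lit 4) (NT.leaf (nat_lit 32777) (nat_lit 0xb0709)) (NT.node (nat_lit 5) (NT.leaf (nat_lit 32772) (nat_lit 0xa020a)) (NT.leaf (nat_lit 16392) (nat_lit 0x8060a))))) (NT.node (nat_lit 9) (NT.node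 (nat_lit 7) (NT.leaf (nat_lit 49164) (nat_lit 0x60b070a)) (NT.node (nat_lit 8) (NT.leaf (nat_lit 16389) (nat_lit 0xb020b)) (NT.leaf (nat_lit 32773) (nat_lit 0x20b0b)))) (NT.node (nat_lit 10) (NT.leaf (nat_lit 9) (nat_lit 0x7090b)) (NT.node (nat_lit 11) (NT.leaf (nat_lit 32780) (nat_lit 0xa060b07)) (NT.leaf (nat_lit 16) (nat_lit 0x2030203)))))) (NT.node (nat_lit 18) (NT.node (nat_lit 15) (NT.node (nat_lit 13) (NT.leaf (nat_lit 12) (nat_lit 0xb070a06)) (NT.node (nat_lit 14) (NT.leaf (nat_lit 16393) (nat_lit 0x90b07)) (NT.leaf (nat_lit 32776) (nat_lit 0x60a08)))) (NT.node (nat_lit 16) (NT.leaf (nat_lit 0) (nat_lit 0x30606)) (NT.node (nat_lit 17) (NT.leaf (nat_lit 16397) (nat_lit 0xb060a07)) (NT.leaf (nat_lit 4) (nat_lit 0x20a0a))))) (NT.node (nat_lit 21) (NT.node (nat_lit 19) (NT.leaf (nat_lit 5) (nat_lit 0xb0b02)) (NT.node (nat_lit 20) (NT.leaf (nat_lit 16400) (nat_lit 0x3020302)) (NT.leaf (nat_lit 13) (nat_lit 0x70b060a)))) (NT.node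 (nat_lit 22) (NT.leaf (nat_lit 32781) (nat_lit 0x60a070b)) (NT.node (nat_lit 23) (NT.leaf (nat_lit 26) (nat_lit 0x607)) (NT.leaf (nat_lit 38) (nat_lit 0x908)))))))⟩
noncomputable def tcO0_U : List (List ℕ) := []
noncomputable def tcO0_HL : List ℕ := []
theorem tcO0_head : tcO0_C.head 18 iB r0 tcO0_U tcO0_HL 17 5 0 = true := by decide +kernel
noncomputable def tcO0_s0 : List ℕ := [nat_lit 0x36400080a33389d806131d9d0040d100906c030a9ec38020b9ecf0020b17846213c8102a200e80812200f80810201c0080e55350080a4e350081e66368080a1e110a006140f090a60303078440202878700202184bc0206970a2570184c62152d00c0c3f2d008243c2d008101a0a8080652128080a521b00822161513806100403c9c03050b89c020786054020709c7e440182c8449010342c301a80c1416180081a160a808041609808022f1e0081a281e0081014150bc060c0a04c0400090080a03058d0200901828200b01024200f0102020030101c1c071400c0c0e048080a0e01808080c038080608038080408028080206028080033]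
theorem tcO0_ok0 : tcO0_C.StepsOK 17 68 := (SeqCert.StepsOK.refl _ 17).step (L := tcO0_s0) (by decide +kernel)
theorem tcO0_ok : tcO0_C.StepsOK (17 + 0) 68 := tcO0_ok0
noncomputable def tcO0_r0 : List ℕ := [nat_lit 0x104038e0c3028a082018604100820, nat_lit 0x2b38c501a68618165851412480c01, nat_lit 0x208079e5961fda23189480500e522, nat_lit 0x5e68a4c697995007008842720f943, nat_lit 0x37294982d3a1a0241024026193164, nat_lit 0x4958d880b012d28180d5063695d85, nat_lit 0x2818f546f483402f39b5e506171a6, nat_lit 0xf00a824050b084f60b8c7078cd07, nat_lit 0x300844064191d6342981a8480c8e8, nat_lit 0x6779d604a29b8c3b510d61308e049, nat_lit 0x3c316da828104e1508e924558fc6a, nat_lit 0x546120a4641c9e42485c24451348b, nat_lit 0x532155619096046b7938e513158ac, nat_lit 0x5a517c67e106c26141f20622974cd, nat_lit 0x1f119927359a066c31a987139de0f, nat_lit 0x744884487220d47d6a00a8541d9f0]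
theorem tcO0_final : tcO0_C.final 18 68 (nat_lit 0x1bfff) 16 [2,3,6,7,8,9,10,11] (tcO0_r0) = true := by decide +kernel
theorem tcO0 {G : Type*} [Group G] {g : ℕ → G} {H : Subgroup G} (hg : Sat g 18 iB r0)
    (hU : ∀ u ∈ tcO0_U, wv g u ∈ H) (hL : ∀ l ∈ tcO0_HL, g l ∈ H) :
    IdxLe H (Subgroup.closure {x | ∃ l ∈ ([2,3,6,7,8,9,10,11] : List ℕ), g l = x}) 16 :=
  SeqCert.idxLe_of_final hg hU hL tcO0_head tcO0_ok tcO0_final

noncomputable def tcO1_C : SeqCert := ⟨nat_lit 3, nat_lit 9, nat_lit 18, nat_lit 0x111110100f0f0e0e0c0d0d0c0a0b0b0a0809090806070706050504040303020201010000, (NT.leaf (nat_lit 0) (nat_lit 0x1bf0afc23f04bc0ff02fc07706d82b608d811e03d80b606b42ad08b40ed02b405d029022403900540a901a4066c29b086c0db026c09208480d20a48192022420903242890624280080018003000800ef03b20ea41210e601100120000)), (NT.node (nat_lit 7) (NT.node (nat_lit 3) (NT.node (nat_lit 1) (NT.leaf (nat_lit 32836) (nat_lit 0x6010701)) (NT.node (nat_lit 2) (NT.leaf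 (nat_lit 32840) (nat_lit 0xa010b01)) (NT.leaf (nat_lit 0) (nat_lit 0x30606)))) (NT.node (nat_lit 5) (NT.node (nat_lit 4) (NT.leaf (nat_lit 16392) (nat_lit 0x8060a)) (NT.leaf (nat_lit 4) (nat_lit 0x20a0a))) (NT.node (nat_lit 6) (NT.leaf (nat_lit 20) (nat_lit 0x6040604)) (NT.leaf (nat_lit 24) (nat_lit 0xa040a04))))) (NT.node (nat_lit 11) (NT.node (nat_lit 9) (NT.node (nat_lit 8) (NT.leaf (nat_lit 84) (nat_lit 0x20e020e)) (NT.leaf (nat_lit 88) (nat_lit 0x30e030e))) (NT.node (nat_lit 10) (NT.leaf (nat_lit 49256) (nat_lit 0x80e09020e)) (NT.leaf (nat_lit 49260) (nat_lit 0xa0e0b030e)))) (NT.node (nat_lit 13) (NT.node (nat_lit 12) (NT.leaf (nat_lit 65636) (nat_lit 0x60e0703020e)) (NT.leaf (nat_lit 16444) (nat_lit 0x1040104))) (NT.node (nat_lit 14) (NT.leaf (nat_lit 80) (nat_lit 0x10e010e)) (NT.leaf (nat_lit 92) (nat_lit 0x40e040e))))))⟩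
noncomputable def tcO1_U : List (List ℕ) := []
noncomputable def tcO1_HL : List ℕ := [2,3,6,7,8,9,10,11]
theorem tcO1_head : tcO1_C.head 18 iB r0 tcO1_U tcO1_HL 8 3 5 = true := by decide +kernel
noncomputable def tcO1_s0 : List ℕ := [nat_lit 0x71087c3907814160e1f0ec1e0405038844107810120e0402c060e070f81e0304038840f0181c1c3d0680c1a0c160a04a0d0282c182813834080a060b0560d0202418040380c1c0c140340608060b01a0303828441e0d82c0a0b050783a0b0202814221082c080905078160304028440b0181c14020380c1a3a1d008083a1c00806381c008040801014060c040701203030203409018140c10090540e050581824190381014060805c0e04048182407018200c100380c0e261300808261200806241200804040c0140606020500a030287038020207034020186834020100832030180404150180c0028]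
theorem tcO1_ok0 : tcO1_C.StepsOK 13 53 := (SeqCert.StepsOK.refl _ 13).step (L := tcO1_s0) (by decide +kernel)
theorem tcO1_ok : tcO1_C.StepsOK (8 + 5) 53 := tcO1_ok0
noncomputable def tcO1_r0 : List ℕ := [nat_lit 0x1986406005c0580540500110480400088, nat_lit 0x2a87487088488086c86882207888880c1, nat_lit 0x3309d0990ad0a90950910140a10b10f62, nat_lit 0x1c0d58d18cd8c98dd8d99570c18b9916b, nat_lit 0x3b8ee0ea1061020e60e20248fa10a0f14, nat_lit 0x2c93693292e92a93e93a98f92291a911d, nat_lit 0x3516716315f15b16f16b15194b143177e, nat_lit 0x3e19f99b9979939a79a398a98397b9737]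
theorem tcO1_final : tcO1_C.final 18 53 (nat_lit 0xff) 8 [1,2,3,4,6,7,8,9,10,11,14] (tcO1_r0) = true := by decide +kernel
theorem tcO1 {G : Type*} [Group G] {g : ℕ → G} {H : Subgroup G} (hg : Sat g 18 iB r0)
    (hU : ∀ u ∈ tcO1_U, wv g u ∈ H) (hL : ∀ l ∈ tcO1_HL, g l ∈ H) :
    IdxLe H (Subgroup.closure {x | ∃ l ∈ ([1,2,3,4,6,7,8,9,10,11,14] : List ℕ), g l = x}) 8 :=
  SeqCert.idxLe_of_final hg hU hL tcO1_head tcO1_ok tcO1_final

noncomputable def tcO2_C : SeqCert := ⟨nat_lit 3, nat_lit 9, nat_lit 18, nat_lit 0x111110100f0f0e0e0c0d0d0c0a0b0b0a0809090806070706050504040303020201010000, (NT.leaf (nat_lit 0) (nat_lit 0x3b40ad09b43ad01b415504b41ad0ab436502902e403903a4019015c049026407900db026c25b0e6c05b046c19b0a6c35302482d20348392014811209481d203240890e2404909241890a241090e00280080018004000c002000400da43210d603100520000)), (NT.node (nat_lit 12) (NT.node (nat_lit 6) (NT.node (nat_lit 3) (NT.node (nat_lit 1) (NT.leaf (nat_lit 44) (nat_lit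 0x4050405)) (NT.node (nat_lit 2) (NT.leaf (nat_lit 32816) (nat_lit 0xa050b05)) (NT.leaf (nat_lit 32820) (nat_lit 0x6050905)))) (NT.node (nat_lit 4) (NT.leaf (nat_lit 52) (nat_lit 0x9050605)) (NT.node (nat_lit 5) (NT.leaf (nat_lit 16448) (nat_lit 0x1050105)) (NT.leaf (nat_lit 32880) (nat_lit 0xe050e0504))))) (NT.node (nat_lit 9) (NT.node (nat_lit 7) (NT.leaf (nat_lit 4) (nat_lit 0x20a0a)) (NT.node (nat_lit 8) (NT.leaf (nat_lit 16492) (nat_lit 0x30e0a0e0b)) (NT.leaf (nat_lit 28) (nat_lit 0x70d0a0c)))) (NT.node (nat_lit 10) (NT.leaf (nat_lit 32) (nat_lit 0x90d060c)) (NT.node (nat_lit 11) (NT.leaf (nat_lit 40) (nat_lit 0x40d040c)) (NT.leaf (nat_lit 49228) (nat_lit 0x10d010c)))))) (NT.node (nat_lit 18) (NT.node (nat_lit 15) (NT.node (nat_lit 13) (NT.leaf (nat_lit 49248) (nat_lit 0xe0d0e0c)) (NT.node (nat_lit 14) (NT.leaf (nat_lit 32769) (nat_lit 0x30707)) (NT.leaf (nat_lit 32777) (nat_lit 0xb0709)))) (NT.node (nat_lit 16) (NT.leaf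 (nat_lit 32868) (nat_lit 0x20e060e0703)) (NT.node (nat_lit 17) (NT.leaf (nat_lit 37) (nat_lit 0xd0d0d)) (NT.leaf (nat_lit 32796) (nat_lit 0xa0c070d))))) (NT.node (nat_lit 21) (NT.node (nat_lit 19) (NT.leaf (nat_lit 32800) (nat_lit 0x60c090d)) (NT.node (nat_lit 20) (NT.leaf (nat_lit 32808) (nat_lit 0x40c040d)) (NT.leaf (nat_lit 16460) (nat_lit 0x10c010d)))) (NT.node (nat_lit 22) (NT.leaf (nat_lit 16480) (nat_lit 0xe0c0e0d)) (NT.node (nat_lit 23) (NT.leaf (nat_lit 16440) (nat_lit 0x50c050c)) (NT.leaf (nat_lit 57) (nat_lit 0x50d050d)))))))⟩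
noncomputable def tcO2_U : List (List ℕ) := []
noncomputable def tcO2_HL : List ℕ := [1,2,3,4,6,7,8,9,10,11,14]
theorem tcO2_head : tcO2_C.head 18 iB r0 tcO2_U tcO2_HL 6 3 8 = true := by decide +kernel
noncomputable def tcO2_s0 : List ℕ := [nat_lit 0x319b0c46c0201cc46201018c24f3000c120a1302c06150509016030a02804050185c141c0580c260a1102c0612050841603088281202081689c58279600a0f28138040e27138040d0409812030602048090182c10020380c2c080e024060a040801203048203c09018207e461f11808071f0f804061e8b47803048183407018540c0c0380c28060901c06130305c0e03090182a07018440c05010406c2c1a0b46805078b85802070b0580206810340501830080c0280c160409014060a020500a03048103005018203e260f09808070f07804060e008340302014040c0180c08020a00c06030105c06030100832030180404120180c002c]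
theorem tcO2_ok0 : tcO2_C.StepsOK 14 58 := (SeqCert.StepsOK.refl _ 14).step (L := tcO2_s0) (by decide +kernel)
theorem tcO2_ok : tcO2_C.StepsOK (6 + 8) 58 := tcO2_ok0
noncomputable def tcO2_r0 : List ℕ := [nat_lit 0x6801981106406005c0580540500088480400380300, nat_lit 0x9882a82207c87888888c88488080c0708a88a08909, nat_lit 0xd10140f58e10e50b90bd0b10b51a68c10d90e90c92, nat_lit 0x1198f101c0fd8f9921925905901956109931929911b, nat_lit 0x16202498697217614214613a13e15194a16a17a15a4, nat_lit 0x1b298202c98e98a9ba9be9969929a119a9ca9c29aad]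
theorem tcO2_final : tcO2_C.final 18 58 (nat_lit 0x3f) 6 [1,2,3,4,5,6,7,8,9,10,11,12,13,14] (tcO2_r0) = true := by decide +kernel
theorem tcO2 {G : Type*} [Group G] {g : ℕ → G} {H : Subgroup G} (hg : Sat g 18 iB r0)
    (hU : ∀ u ∈ tcO2_U, wv g u ∈ H) (hL : ∀ l ∈ tcO2_HL, g l ∈ H) :
    IdxLe H (Subgroup.closure {x | ∃ l ∈ ([1,2,3,4,5,6,7,8,9,10,11,12,13,14] : List ℕ), g l = x}) 6 :=
  SeqCert.idxLe_of_final hg hU hL tcO2_head tcO2_ok tcO2_final

variable {Γ : Type*} [Group Γ]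

section Model

variable {M : PM} [NeZero M.n] (h : M.ok = true) {g : ℕ → Γ}
include h

theorem dec_of_decB (h' : M.subsOK = true) {B : List ℕ} (hB : Base M B) {p : Fm}
    (hd : M.decB B p = true) : M.dec p = true :=
  (PM.dec_iff h h' p).2 (holdsB h h' hB (emb_refl _) hd)

theorem emb_of_normalB (h' : M.subsOK = true) {B : List ℕ} (hB : Base M B)
    (he : ∃ (hm : ∀ l, M.m l ∈ sub M.m (M.W 0)) (φ : sub M.m (M.W 0) →* Γ),
      φ.range = sub g (M.W 0) ∧ ∀ l, φ ⟨_, hm l⟩ = g l)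
    (h1 : certOrder (M.K 1) = 2 ^ 9 ∧ (∀ L ∈ M.W 0 ++ M.W 1, 40 ∉ L ∧ 41 ∉ L) ∧
      ∀ L ∈ M.W 1 ++ [[2], [3], [2, 3]], 40 ∉ L)
    (h2 : M.decB B (andL (M.W 0) fun a => andL (M.W 1) fun b => .bind 41 (b ++ a)
      (.ex 1 40 (.eq [41] (a ++ [40])))) = true)
    (h3 : M.decB B (.all 0 40 (.imp (andL (M.W 1) fun b => .eq (40 :: b) (b ++ [40]))
      (.or (.eq [40] []) (orL [[2], [3], [2, 3]] fun L => .eq [40] L)))) = true)
    (hZ : g 2 ≠ 1 ∧ g 3 ≠ 1 ∧ g 3 * g 2 ≠ 1) : Emb M.m g :=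
  emb_of_normal h h' he 1 9 [[2], [3], [2, 3]]
    ⟨h1.1, ⟨h1.2.1, dec_of_decB h h' hB h2⟩, h1.2.2, dec_of_decB h h' hB h3⟩ (by simpa using hZ)

variable (he : Emb M.m g)
include he

theorem actM {D : List (List ℕ)} (X : List ℕ) (W : List (List ℕ))
    (hd : W.length ≤ D.length ∧ (bare M).dec (actFm D X W) = true) : Act (sg g D) (wv g X) W :=
  PM.act (M := bare M) h (bare_subs M) he X hd

theorem redM {D W : List (List ℕ)} {x : Γ} (a : Act (sg g D) x W) (W' : List (List ℕ))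
    (hd : W'.length ≤ D.length ∧ (bare M).dec (eqFm D W W') = true) : Act (sg g D) x W' :=
  PM.red (M := bare M) h (bare_subs M) he a W' hd

theorem chgM {D W : List (List ℕ)} {x : Γ} (a : Act (sg g D) x W) (D' V W' : List (List ℕ))
    (hd : W'.length ≤ D'.length ∧ (bare M).dec (andL (List.range D'.length) fun l =>
      .and (.eq (D'.getD l []) (sb D (V.getD l [])))
        (.eq (sb D (sb W (V.getD l []))) (sb D' (W'.getD l [])))) = true) : Act (sg g D') x W' :=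
  Act.of_lt hd.1 fun l hl => by
    obtain ⟨a1, a2⟩ := sem_andL.1 (PM.holds (M := bare M) h (bare_subs M) he hd.2) l
      (List.mem_range.2 hl)
    rw [Fm.sem, wv_sb] at a1
    rw [Fm.sem, wv_sb, wv_sb g D'] at a2
    rw [sg, a1, a.wv, a2, sg]

theorem act_cases (h' : M.subsOK = true) {D W : List (List ℕ)} {m : Γ} (a : Act (sg g D) m W)
    {i : ℕ} (hm : m ∈ sub g (M.W i)) (q : Fm) (hd : (∀ L ∈ D, 20 ∉ L) ∧
      M.dec (.all i 20 (.imp (actFm D [20] W) q)) = true) :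
    q.sem (fun i => sub g (M.W i)) (upd g 20 m) :=
  PM.holds h h' he hd.2 m hm (Act.sem _ (by
    rwa [sg_upd g m hd.1, show wv (upd g 20 m) [20] = m by simp [upd_apply]]))

theorem fix_cases (h' : M.subsOK = true) {D W W' : List (List ℕ)} {x m : Γ}
    (a : Act (sg g D) x W) (b : Act (sg g D) m W') (c : x * m = m * x) {i : ℕ}
    (hm : m ∈ sub g (M.W i)) (Gs Ls : List (List ℕ)) (hd : (∀ L ∈ Gs, 20 ∉ L) ∧ (∀ L ∈ D, 20 ∉ L) ∧
      M.dec (.all i 20 (.imp (actFm D [20] W') (.or (orL Gs fun L => .eq [20] L) (orL Ls fun L =>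
        .and (.eq [20] (sb D L)) (.not (.eq (sb D (sb W L)) [20])))))) = true) :
    ∃ L ∈ Gs, m = wv g L := by
  have e1 : wv (upd g 20 m) [20] = m := by simp [upd_apply]
  rcases act_cases h he h' b hm _ hd.2 with k | k <;> obtain ⟨L, hL, k⟩ := sem_orL.1 k
  · exact ⟨L, hL, by rwa [Fm.sem, e1, wv_upd _ _ (hd.1 L hL)] at k⟩
  · simp only [Fm.sem, wv_sb, sg_upd g m hd.2.1, e1] at k
    exact (k.2 (by rw [← wv_sb, ← a.wv, ← k.1, c, mul_inv_cancel_right])).elim

end Model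

theorem act_wmul {u g : ℕ → Γ} {X X' : List ℕ} {W W' : List (List ℕ)} (a : Act u (wv g X) W)
    (b : Act u (wv g X') W') : Act u (wv g (X' ++ X)) (W'.map (sb W)) := w_mul g X X' ▸ a.mul b

/-- the letters -/
def gN (F : OF Γ) (b f : Γ) : ℕ → Γ :=
  lf [1, F.e, F.z, F.y, F.t, F.r, F.a1, F.a1⁻¹, F.a2, F.a2⁻¹, F.a3, F.a3⁻¹, F.g, F.g⁻¹, F.c, b,
    F.g * b * F.g⁻¹, f]

/-- relators from pairs of words -/
noncomputable def rlB (P : List (List ℕ × List ℕ)) : List (List ℕ) :=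
  P.map fun p => (p.2.map iB).reverse ++ p.1

/-- the relations of the action of the last letter -/
def prs (D W : List (List ℕ)) : List (List ℕ × List ℕ) :=
  (List.range D.length).map fun l => (D.getD l [] ++ [17], [17] ++ sb D (W.getD l []))

/-- the relations of `b` -/
def eB (u d : List ℕ) : List (List ℕ × List ℕ) :=
  [([1, 15], [15, 2, 1]), ([2, 15], [15, 2]), ([3, 15], [15, 3]), ([4, 15], [15, 4]),
    ([5, 15], [15, 5]), ([10, 15], [15, 10]), ([14, 15], [15, 14]), ([6, 15], 15 :: (u ++ [6])),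
    ([15, 12], [12, 16]), ([12, 15, 12, 15, 12, 15], d)]

/-- relators of the normalizer of the four-group -/
noncomputable def rV (u d : List ℕ) : List (List ℕ) := r0 ++ rlB (eB u d)

/-- generators of `D` -/
def wD : List (List ℕ) := [[1], [2], [3], [4], [6], [8], [10], [14]]

theorem sat_rlB {g : ℕ → Γ} {R : List (List ℕ)} (h : Sat g 18 iB R) {P : List (List ℕ × List ℕ)}
    (hP : P.all (fun p => p.2.all (· < 18)) = true) (e : ∀ p ∈ P, wv g p.1 = wv g p.2) :
    Sat g 18 iB (R ++ rlB P) := h.append fun r hr => by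
  obtain ⟨p, hp, rfl⟩ := List.mem_map.1 hr
  rw [wv_append, ← w_inv h _ (List.all_eq_true.1 hP p hp), e p hp, mul_inv_cancel]

variable {F : OF Γ} {b f : Γ}

theorem gN_lt (f : Γ) {l : ℕ} (hl : l < 17) : gN F b f l = gN F b 1 l := by
  interval_cases l <;> rfl

theorem gN_wv (f : Γ) {L : List ℕ} (hL : L.all (· < 17) = true) :
    wv (gN F b f) L = wv (gN F b 1) L :=
  wv_congr fun l hl => gN_lt f (by simpa using List.all_eq_true.1 hL l hl)

theorem gN_O {L : List ℕ} (hL : L.all (· < 15) = true) :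
    wv (gN F b f) L = wv F.g0 (sb dO L) := by
  rw [wv_sb]
  refine wv_congr fun l hl => ?_
  have : l < 15 := by simpa using List.all_eq_true.1 hL l hl
  interval_cases l
  · rfl
  all_goals refine Eq.trans ?_ (w_let _ _)
  exacts [rfl, rfl, rfl, rfl, rfl, rfl, F.l7.symm, rfl, F.l9.symm, rfl, F.l11.symm, rfl,
    F.l13.symm, rfl]

theorem sat_prs {R D W : List (List ℕ)} (h : Sat (gN F b f) 18 iB R)
    (a : Act (sg (gN F b 1) D) f W) (hd : (∀ L ∈ D, ∀ l ∈ L, l < 17) ∧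
      (prs D W).all (fun p => p.2.all (· < 18)) = true) : Sat (gN F b f) 18 iB (R ++ rlB (prs D W)) :=
  sat_rlB h hd.2 fun p hp => by
    obtain ⟨l, hl, rfl⟩ := List.mem_map.1 hp
    rw [← sg_congr (g := gN F b f) fun L hL l hl => gN_lt f (hd.1 L hL l hl)] at a
    exact sem_andL.1 (Act.sem (fun _ => ⊥) (X := [17]) (w_let (gN F b f) 17 ▸ a)) l hl

theorem gN_or (l : ℕ) : l ∈ List.range' 1 17 ∨ gN F b f l = 1 := by
  by_cases a : l < 18
  · interval_cases l <;> first | exact Or.inl (by decide) | exact Or.inr rfl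
  · exact Or.inr (List.getD_eq_default _ _ (not_lt.1 a))

theorem gN_or1 (l : ℕ) : l ∈ List.range' 1 16 ∨ gN F b 1 l = 1 := by
  by_cases a : l < 18
  · interval_cases l <;> first | exact Or.inl (by decide) | exact Or.inr rfl
  · exact Or.inr (List.getD_eq_default _ _ (not_lt.1 a))

theorem gN_Z : gN F b f 2 ≠ 1 ∧ gN F b f 3 ≠ 1 ∧ gN F b f 3 * gN F b f 2 ≠ 1 :=
  ⟨show F.z ≠ 1 by ow F.toOW, show F.y ≠ 1 by ow F.toOW, show F.y * F.z ≠ 1 by ow F.toOW⟩

theorem Ob.sat (h : Ob F b) {u d : List ℕ} (hu : b * F.a1 = F.a1 * wv (gN F b 1) u * b)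
    (hd : b * F.g * b * F.g * b * F.g = wv (gN F b 1) d)
    (hl : u.all (· < 17) = true ∧ d.all (· < 17) = true ∧
      (eB u d).all (fun p => p.2.all (· < 18)) = true) (f2 : f * f = 1) :
    Sat (gN F b f) 18 iB (rV u d) := by
  have h0 : Sat (gN F b f) 18 iB r0 := ⟨rfl, fun l hl => by
    have s1 : F.e * F.e = 1 := by ow F.toOW
    have s2 : F.z * F.z = 1 := by ow F.toOW
    have s3 : F.y * F.y = 1 := by ow F.toOW
    have s4 : F.t * F.t = 1 := by ow F.toOW
    have s5 : F.r * F.r = 1 := by ow F.toOW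
    have s6 : F.c * F.c = 1 := by ow F.toOW
    have s7 := h.bb
    have s8 : F.g * b * F.g⁻¹ * (F.g * b * F.g⁻¹) = 1 := by rw [conj_mul, s7]; simp
    interval_cases l <;> first
      | rfl
      | exact inv_one.symm
      | exact (inv_inv _).symm
      | exact eq_inv_of_mul_eq_one_right ‹_›, fun r hr => by
    rw [gN_O ((by decide : ∀ r ∈ r0, r.all (· < 15) = true) r hr)]
    exact PM.rels (M := bare MO) MO_ok (bare_subs MO) F.emb (r0.map (sb dO)) (by decide +kernel) _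
      (List.mem_map_of_mem hr)⟩
  refine sat_rlB h0 hl.2.2 ?_
  simp only [eB, List.forall_mem_cons, wv_cons, wv_nil, one_mul, wv_append, gN_wv f hl.1,
    gN_wv f hl.2.1, List.not_mem_nil, false_imp_iff, implies_true, and_true]
  exact ⟨h.e, h.z, h.y, h.t, h.r, h.a3, h.c, hu, (inv_mul_cancel_right _ _).symm, hd⟩

theorem D_eq : F.D = sub (gN F b f) wD := rfl

theorem memC {x : Γ} (h : x * F.e = F.e * x) : x ∈ F.C :=
  (show F.C = C1 F.e from F.cent) ▸ mem_C1.2 h

theorem act_memD [Finite Γ] {u : ℕ → Γ} {x : Γ} {W : List (List ℕ)} (a : Act u x W)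
    (hu : u 0 = 1 * F.e ∧ u 1 = 1 * F.z ∧ u 2 = 1 * F.y)
    (hW : W.getD 0 [] = [0] ∧ W.getD 1 [] = [1] ∧ W.getD 2 [] = [2]) : x ∈ F.D := by
  have a0 := a 0
  have a1 := a 1
  have a2 := a 2
  simp only [sg, hW, hu, wv_cons, wv_nil, one_mul] at a0 a1 a2
  exact F.toOW.fc1.memD x (memC (of_cj a0)) (of_cj a1) (of_cj a2)

/-- the model of the Sylow subgroup -/
@[reducible] def MO1 : PM := ⟨MO.w, MO.n, MO.cs, MO.SW.take 1⟩

instance : NeZero MO1.n := ⟨by decide⟩

theorem base_all (M : PM) [NeZero M.n] : Base M (List.range M.n) :=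
  ⟨fun _ => List.mem_range.1, ⊤, fun x _ e => Equiv.ext fun i => by
    simpa using e i (List.mem_range.2 i.2), fun _ => trivial⟩

theorem iv_T (F : OF Γ) : iv F.T = (256, 72, 16) :=
  iv_eq (M := MO1) (i := 0) MO_ok (by decide +kernel) (base_all MO1) F.emb (by decide +kernel)
    (by decide +kernel) (by decide +kernel)

theorem sylT [Finite Γ] (F : OF Γ) : IsSylowIn 2 F.T (C1 F.e) :=
  (show F.C = C1 F.e from F.cent) ▸ F.toOW.fc1.sylT

theorem n3_kill [Finite Γ] {A : Subgroup Γ} {X : Γ → Prop}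
    (fx : FX F.e A X) {M : PM} [NeZero M.n] (h : M.ok = true) (h' : M.subsOK = true)
    {B : List ℕ} (hB : Base M B) (he : Emb M.m (gN F b f)) {s : ℕ} {L : List KC}
    (h0 : (M.W 0 = [1] :: M.W 1 ∧ certOrder (M.K 0) = 2 ^ 12 * 2 ∧
      certOrder (M.K 1) = 2 ^ 12 ∧ (L.map fun a => 2 ^ 12 * 2 / a.c).sum = s ∧
      (bare M).dec (andL L fun a => .eq (a.x M ++ a.x M) []) = true) ∧
      ∀ l ∈ [1, 2, 3, 4, 5, 6, 8, 10, 14], [l] ∈ M.W 0 ∨ [l, 1] ∈ M.W 0)
    (h1 : C3R.cdsB M (M.W 0) (2 ^ 12 * 2) (L.map (KC.cd M)) = true)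
    (h2 : cnt M B 1 (.eq [40, 1, 40, 1] []) s = true)
    (h3 : ∀ a ∈ L, a.ok M B (256, 72, 16) = true) : False := by
  have e2 : F.e * F.e = 1 := by ow F.toOW
  refine kill_model h h' hB he fx (sylT F) (let_mem _ 1 (by decide +kernel)) e2
    (sub_le fun L hL => ?_) (iv_T F) h0.1 h1 h2 h3
  have k := fun l hl => let_mem2 (g := gN F b f) e2 (h0.1.1 ▸ List.mem_cons_self) l (h0.2 l hl)
  simp only [PM.W, List.getD_cons_zero, List.mem_cons, List.not_mem_nil, or_false] at hL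
  rcases hL with rfl | rfl | rfl | rfl | rfl | rfl | rfl | rfl | rfl <;> rw [← w_let]
  exacts [k 1 (by simp), k 2 (by simp), k 3 (by simp), k 4 (by simp), k 5 (by simp), k 6 (by simp),
    k 8 (by simp), k 10 (by simp), k 14 (by simp)]

theorem card_r0 {g : ℕ → Γ} (h : Sat g 18 iB r0) :
    Finite (closure {x | ∃ l ∈ ([1,2,3,4,5,6,7,8,9,10,11,12,13,14] : List ℕ), g l = x}) ∧
    Nat.card (closure {x | ∃ l ∈ ([1,2,3,4,5,6,7,8,9,10,11,12,13,14] : List ℕ), g l = x}) ≤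
      6 * (8 * (16 * 1)) :=
  (tcO2 h (by simp [tcO2_U]) fun _ => letter_mem g).card_le
    ((tcO1 h (by simp [tcO1_U]) fun _ => letter_mem g).card_le
      ((tcO0 h (by simp [tcO0_U]) (by simp [tcO0_HL])).card_le card_bot_le))

end Cfsg.Lib.M12S
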