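import Cfsg.Agent.M12S.TopA

/-! Centralizers of the four-group and of the involution `z` lie in `H`. -/

set_option autoImplicit false

universe u

namespace Cfsg.Lib.M12S

open Subgroup Cfsg.Lib.Gold Cfsg.Lib.Trans Cfsg.Lib.Co3M

variable {G Γ : Type u} [Group G] [Group Γ] {H : Subgroup G} {ρ : H →* Γ} {e : H}

theorem TP.comm (h : TP H ρ e) {x a : H} (ha : a ^ 4 = 1) (k : ρ x * ρ a = ρ a * ρ x) :
    x * a = a * x :=
  of_cj (h.uniq _ _ (by rw [conj_pow, ha]; group) ha (by rw [map_mul, map_mul, map_inv, cj_of k]))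

theorem TP.quot [Finite G] {B : Type u} [Group B] (h : TP H ρ e) {V : Subgroup H} {C : Subgroup G}
    {C' : Subgroup Γ} (σ : C' →* B) (hC : ∀ x : H, (x : G) ∈ C ↔ ρ x ∈ C')
    (hV : ∀ v ∈ V, v * v = 1 ∧ (v : G) ∈ C ∧ ∀ x ∈ C, x * v = v * x) (hs : Function.Surjective σ)
    (hk : ∀ x, σ x = 1 ↔ (x : Γ) ∈ V.map ρ) :
    ∃ (B1 : Type u) (_ : Group B1) (_ : Finite B1) (τ : C →* B1) (N : Subgroup B1) (ψ : N →* B),
      Function.Surjective τ ∧ ∃ hN : ∀ x, τ x ∈ N ↔ (x : G) ∈ H, Function.Surjective ψ ∧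
      Odd (Nat.card ψ.ker) ∧ (∀ a : N, a * a = 1 → ∀ o ∈ ψ.ker, a * o = o * a) ∧
      (∀ (x : H) (hx : (x : G) ∈ C), ψ ⟨τ ⟨x, hx⟩, (hN _).2 x.2⟩ = σ ⟨ρ x, (hC x).1 hx⟩) ∧
      ∀ (x : H) (hx : (x : G) ∈ C), IsConj (ρ e) (ρ x) → x * x = 1 →
        ∀ g : B1, g * τ ⟨x, hx⟩ * g⁻¹ ∈ N → g ∈ N := by
  have : ((V.map H.subtype).subgroupOf C).Normal := ⟨fun n hn g => by
    obtain ⟨v, hv, k⟩ := hn
    refine ⟨v, hv, ?_⟩
    have := (hV v hv).2.2 g g.2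
    simp only [coe_subtype, coe_mul, coe_inv] at k ⊢
    rw [← k, cj_of this]⟩
  let τ := QuotientGroup.mk' ((V.map H.subtype).subgroupOf C)
  have kτ : ∀ x, τ x = 1 ↔ ∃ v ∈ V, (v : G) = x := fun x => QuotientGroup.eq_one_iff x
  let ι : H.subgroupOf C →* H := (C.subtype.comp (H.subgroupOf C).subtype).codRestrict H fun x => x.2
  obtain ⟨ψ, hψ⟩ := descend τ (σ.comp ((ρ.comp ι).codRestrict C' fun x => (hC _).1 x.1.2))
    fun x hx => by
      obtain ⟨v, hv, k⟩ := (kτ _).1 hx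
      exact (hk _).2 ⟨v, hv, congrArg ρ (Subtype.ext k)⟩
  have hN : ∀ x, τ x ∈ (H.subgroupOf C).map τ ↔ (x : G) ∈ H := fun x =>
    ⟨fun ⟨p, hp, k⟩ => by
      obtain ⟨v, -, k'⟩ := (kτ (p⁻¹ * x)).1 (by rw [map_mul, map_inv, k, inv_mul_cancel])
      exact (mul_mem_cancel_left (inv_mem hp)).1 (show ((p⁻¹ * x : C) : G) ∈ H from k' ▸ v.2),
    fun k => mem_map_of_mem τ k⟩
  have ev : ∀ (x : H) (hx : (x : G) ∈ C), ψ ⟨τ ⟨x, hx⟩, (hN _).2 x.2⟩ = σ ⟨ρ x, (hC x).1 hx⟩ :=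
    fun x hx => hψ ⟨⟨x, hx⟩, x.2⟩
  have kr : ∀ a ∈ ψ.ker, ∃ (o : H) (ho : (o : G) ∈ C), ρ o = 1 ∧ τ ⟨o, ho⟩ = a := by
    rintro ⟨_, p, hp, rfl⟩ ha
    obtain ⟨v, hv, k⟩ := (hk _).1 ((ev ⟨p, hp⟩ p.2).symm.trans ha)
    refine ⟨v⁻¹ * ⟨p, hp⟩, mul_mem (inv_mem (hV v hv).2.1) p.2, by
      rw [map_mul, map_inv, k, inv_mul_cancel], ?_⟩
    have : τ ⟨v, (hV v hv).2.1⟩ = 1 := (kτ _).2 ⟨v, hv, rfl⟩
    calc _ = (τ ⟨v, (hV v hv).2.1⟩)⁻¹ * τ p := by rw [← map_inv, ← map_mul]; rfl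
      _ = _ := by rw [this, inv_one, one_mul]
  refine ⟨_, _, inferInstance, τ, _, ψ, QuotientGroup.mk'_surjective _, hN, fun b => ?_, ?_, ?_, ev,
    fun x hx c x2 g hg => ?_⟩
  · obtain ⟨⟨q, hq⟩, rfl⟩ := hs b
    obtain ⟨x, rfl⟩ := h.sj q
    exact ⟨_, ev x ((hC x).2 hq)⟩
  · refine Nat.not_even_iff_odd.1 fun k => ?_
    obtain ⟨a, ha⟩ := exists_prime_orderOf_dvd_card' (G := ψ.ker) 2 k.two_dvd
    obtain ⟨o, ho, o1, k⟩ := kr a a.2
    refine h.odd.not_two_dvd_nat (ha ▸ orderOf_dvd_of_pow_eq_one (Subtype.ext (Subtype.ext ?_)))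
    rw [coe_pow, coe_pow, ← k, ← map_pow, show (⟨o, ho⟩ : C) ^ Nat.card ρ.ker = 1 from
      Subtype.ext (congrArg H.subtype (HK.Lift.pow_card o1) :), map_one]; rfl
  · rintro ⟨_, p, hp, rfl⟩ ha b hb
    obtain ⟨o, ho, o1, k⟩ := kr b hb
    obtain ⟨v, hv, k'⟩ := (kτ (p * p)).1 (by rw [map_mul]; exact congrArg Subtype.val ha)
    have := h.ck4 ⟨p, hp⟩ (TopA.four (Subtype.ext k'.symm) (hV v hv).1) o o1
    refine Subtype.ext ?_
    rw [coe_mul, coe_mul, ← k, ← map_mul, ← map_mul]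
    exact congrArg τ (Subtype.ext (congrArg H.subtype this :))
  · obtain ⟨g, rfl⟩ := QuotientGroup.mk'_surjective _ g
    rw [← map_inv, ← map_mul, ← map_mul, hN] at hg
    exact (hN _).2 (h.fp g x c x2 hg)

theorem TP.cenV {G Γ : Type u} [Group G] [Group Γ] [Finite G] {H : Subgroup G} {ρ : H →* Γ}
    {e : H} (h : TP H ρ e) (ht : TopP.{u}) {z y : H} (z2 : z * z = 1) (y2 : y * y = 1)
    (fr : FrL (ρ e) (ρ z) (ρ y)) (n : G) (h1 : n * z = z * n) (h2 : n * y = y * n) : n ∈ H := by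
  obtain ⟨-, -, zy, B, _, _, σ, hs, hk, D, E, T, t, u, ⟨_, he⟩, ⟨s, hs'⟩, rfl, c, L⟩ := fr
  replace zy := h.comm (HK.Lift.four y2) zy
  have mc : ∀ {K : Type u} [Group K] {a b x : K},
      x ∈ centralizer ({a, b} : Set K) ↔ x * a = a * x ∧ x * b = b * x := by
    intro K _ a b x
    simp only [mem_centralizer_iff, Set.mem_insert_iff, Set.mem_singleton_iff, forall_eq_or_imp,
      forall_eq]
    rw [eq_comm, eq_comm (a := b * x)]
  have hC : ∀ x : H, (x : G) ∈ centralizer ({(z : G), (y : G)} : Set G) ↔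
      ρ x ∈ centralizer ({ρ z, ρ y} : Set Γ) := fun x => by
    rw [mc, mc]
    exact ⟨fun k => ⟨by rw [← map_mul, ← map_mul]; exact congrArg ρ (Subtype.ext k.1),
      by rw [← map_mul, ← map_mul]; exact congrArg ρ (Subtype.ext k.2)⟩,
      fun k => ⟨congrArg Subtype.val (h.comm (HK.Lift.four z2) k.1),
        congrArg Subtype.val (h.comm (HK.Lift.four y2) k.2)⟩⟩
  have zy' : (z : G) * y = y * z := congrArg Subtype.val zy
  obtain ⟨B1, _, _, τ, N, ψ, -, hN, sψ, oψ, cψ, ev, fp⟩ := h.quot (V := closure {z, y}) σ hC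
    (fun v hv => by
      rcases Bender.mem_closure_pair_of_commute z2 y2 zy hv with rfl | rfl | rfl | rfl
      · exact ⟨one_mul _, one_mem _, fun x _ => by simp⟩
      · exact ⟨z2, mc.2 ⟨rfl, zy'⟩, fun x hx => (mc.1 hx).1⟩
      · exact ⟨y2, mc.2 ⟨zy'.symm, rfl⟩, fun x hx => (mc.1 hx).2⟩
      · exact ⟨by rw [mul_assoc, ← mul_assoc y, ← zy, mul_assoc, y2, mul_one, z2],
          mul_mem (mc.2 ⟨rfl, zy'⟩) (mc.2 ⟨zy'.symm, rfl⟩), fun x hx =>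
            (Commute.mul_right (mc.1 hx).1 (mc.1 hx).2 : Commute x ((z : G) * y))⟩)
    hs (fun x => by rw [hk, MonoidHom.map_closure, Set.image_pair])
  have s2 : s * s = 1 := TopA.sq c (by rw [← map_mul, h.e2, map_one])
  obtain ⟨s, s4, rfl⟩ := h.lift s (HK.Lift.four s2)
  replace s2 : s * s = 1 := HK.Lift.eq_one h.odd (by rwa [map_mul]) (by
    rw [← pow_two, ← pow_mul, mul_comm, pow_mul, s4, one_pow])
  rw [← ev e ((hC _).2 he), ← ev s ((hC _).2 hs')] at L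
  have sq : ∀ (x : H) (hx : (x : G) ∈ centralizer ({(z : G), (y : G)} : Set G)), x * x = 1 →
      (⟨τ ⟨x, hx⟩, (hN _).2 x.2⟩ : N) * ⟨τ ⟨x, hx⟩, (hN _).2 x.2⟩ = 1 := fun x hx k =>
    Subtype.ext ((map_mul τ _ _).symm.trans ((congrArg τ
      (Subtype.ext (congrArg H.subtype k :))).trans (map_one τ)))
  exact (hN ⟨n, mc.2 ⟨h1, h2⟩⟩).1 ((ht ψ sψ oψ cψ L (sq _ _ h.e2) (sq _ _ s2)
    (fp _ _ (IsConj.refl _) h.e2) (fp _ _ c s2)).ge (mem_top _))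

theorem TP.cenZ {G Γ : Type u} [Group G] [Group Γ] [Finite G] {H : Subgroup G} {ρ : H →* Γ}
    {e : H} (h : TP H ρ e) (hh : HoltP.{u}) {z y : H} (z2 : z * z = 1) (y2 : y * y = 1)
    (fr : FrZ (ρ e) (ρ z) (ρ y))
    (hV : ∀ n : G, n * z = z * n → n * y = y * n → n ∈ H) : C1 (z : G) ≤ H := by
  obtain ⟨-, -, ⟨a, ha⟩, cl, B, _, _, σ, ⟨_, hy⟩, hs, hk, rfl, sB, cB, aB, tc, kk⟩ := fr
  have hC : ∀ x : H, (x : G) ∈ C1 (z : G) ↔ ρ x ∈ C1 (ρ z) := fun x => by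
    rw [mem_C1, mem_C1]
    exact ⟨fun k => by rw [← map_mul, ← map_mul]; exact congrArg ρ (Subtype.ext k),
      fun k => congrArg Subtype.val (h.comm (HK.Lift.four z2) k)⟩
  have mV : ∀ {K : Type u} [Group K] {a x : K}, a * a = 1 →
      (x ∈ closure ({a, 1} : Set K) ↔ x = 1 ∨ x = a) := by
    intro K _ a x k
    refine ⟨fun hx => ?_, ?_⟩
    · have := Bender.mem_closure_pair_of_commute k (one_mul 1) (by simp) hx
      rw [mul_one] at this; tauto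
    · rintro (rfl | rfl)
      exacts [one_mem _, subset_closure (Set.mem_insert _ _)]
  obtain ⟨B1, _, _, τ, N, ψ, sτ, hN, sψ, oψ, cψ, ev, -⟩ := h.quot (V := closure {z, 1}) σ hC
    (fun v hv => by
      rcases (mV z2).1 hv with rfl | rfl
      · exact ⟨one_mul _, one_mem _, fun x _ => by simp⟩
      · exact ⟨z2, mem_C1.2 rfl, fun x hx => mem_C1.1 hx⟩)
    hs (fun x => by
      rw [hk, MonoidHom.map_closure, Set.image_pair, map_one, mV (by rw [← map_mul, z2, map_one])])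
  rw [← ev y ((hC _).2 hy)] at tc kk
  have r2 : (⟨τ ⟨y, (hC _).2 hy⟩, (hN _).2 y.2⟩ : N) * ⟨τ ⟨y, (hC _).2 hy⟩, (hN _).2 y.2⟩ = 1 :=
    Subtype.ext ((map_mul τ _ _).symm.trans ((congrArg τ
      (Subtype.ext (congrArg H.subtype y2 :))).trans (map_one τ)))
  refine fun n hn => (hN ⟨n, hn⟩).1 ((hh ψ sψ oψ sB cB aB _ r2 (cψ _ r2) tc kk
    fun g hg => ?_).ge (mem_top _))
  obtain ⟨⟨g, gz⟩, rfl⟩ := sτ g
  rw [← map_inv, ← map_mul, ← map_mul, hN] at hg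
  refine (hN _).2 ?_
  change g * y * g⁻¹ ∈ H at hg
  have c : IsConj (y : G) (g * y * g⁻¹) := isConj_iff.2 ⟨g, rfl⟩
  have w2 : (⟨_, hg⟩ : H) * ⟨_, hg⟩ = 1 := Subtype.ext (TopA.sq c (congrArg Subtype.val y2))
  have y1 : ¬ (y = 1 ∨ y = z) := fun k => by
    have := tc.1
    rw [ev y ((hC _).2 hy), (hk _).2 (k.imp (fun k => (congrArg ρ k).trans (map_one ρ)) (congrArg ρ)),
      orderOf_one] at this
    exact absurd this (by decide)
  rcases cl (ρ ⟨_, hg⟩) (mem_C1.1 ((hC _).1 (mul_mem (mul_mem gz ((hC _).2 hy)) (inv_mem gz))))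
    (by rw [← map_mul, w2, map_one]) with k | k | k | ⟨k, kz, k'⟩
  · rw [show g * y * g⁻¹ = 1 from congrArg Subtype.val (HK.Lift.eq_one h.odd k (HK.Lift.four w2)),
      isConj_one_left] at c
    exact (y1 (.inl (Subtype.ext c))).elim
  · replace k : g * y * g⁻¹ = z :=
      congrArg Subtype.val (h.uniq _ _ (HK.Lift.four w2) (HK.Lift.four z2) k)
    exact (y1 (.inr (Subtype.ext (mul_left_cancel ((of_cj k).trans (mem_C1.1 gz).symm))))).elim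
  · obtain ⟨a, a4, rfl⟩ := h.lift a (TopA.four ha (by rw [← map_mul, y2, map_one]))
    refine absurd (congrArg Subtype.val (h.uniq (a * a) y (by
      rw [← pow_two, ← pow_mul, mul_comm, pow_mul, a4, one_pow]) (HK.Lift.four y2)
      (by rwa [map_mul]))) (h.nsq _ _ ((H.subtype.map_isConj
        (HK.Lift.conj h.odd h.sj h.e2 w2 k)).trans c.symm))
  · obtain ⟨k, rfl⟩ := h.sj k
    have := congrArg Subtype.val (h.uniq (k * ⟨_, hg⟩ * k⁻¹) y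
      (by rw [conj_pow, HK.Lift.four w2]; group) (HK.Lift.four y2)
      (by rwa [map_mul, map_mul, map_inv]))
    simp only [coe_mul, coe_inv] at this
    refine (mul_mem_cancel_left k.2).1 (hV _ (mem_C1.1 (mul_mem ((hC k).2 (mem_C1.2 kz)) gz))
      (of_cj ?_))
    exact (by group : _ = (k : G) * (g * y * g⁻¹) * (k : G)⁻¹).trans this

end Cfsg.Lib.M12S
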